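/-
Twelve root groups: one side.
-/
import Cfsg.Agent.H19.FW1

set_option autoImplicit false
set_option linter.unusedSectionVars false

open Cfsg Subgroup
open scoped MatrixGroups commutatorElement
namespace H19.FW
open H2.GW H18.EG

section HS
variable {G : Type*} [Group G] [Finite G] {F : Type*} [Field F] [Fintype F] {p r : ℕ} {x : F → G}
  {T L B W N : Subgroup G} {X : ZMod 12 → Subgroup G} {u : ZMod 12 → G} {g d v y : G} {c : F} {k l a b : ZMod 12}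

/-- twelve root groups, seen from the even side -/
structure HS (T : Subgroup G) (X : ZMod 12 → Subgroup G) (u : ZMod 12 → G) (L B : Subgroup G)
    (x : F → G) (p r : ℕ) : Prop where
  hp : p.Prime
  ch : CharP F p
  p2 : p ≠ 2
  r2 : r ≠ 2
  ab : T ≤ C(T)
  nX : ∀ k, T ≤ N(X k)
  u2 : ∀ k, orderOf (u k) = 2
  uT : ∀ k, u k ∈ T
  uc : ∀ k l, 4 * k = 4 * l → X l ≤ C[u k]
  ui : ∀ k l, 4 * k ≠ 4 * l → Inv (u k) (X l)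
  rot : ∃ g ∈ N(T), ∀ k, cj g (X k) = X (k + 4)
  rv : ∃ v ∈ X 0 ⊔ X 6, v ∈ N(T) ∧ Inv v (T ⊓ (X 0 ⊔ X 6)) ∧ ∀ k, cj v (X k) = X (6 - k)
  rw : ∃ w ∈ L, w ∈ N(T) ∧ ∀ k, cj w (X k) = X (-k)
  gen : ∀ W N, Odd #W → T ≤ N(W) → W ⊓ T = ⊥ → (∀ l, X l ≤ W → X l ≤ N) → W ≤ N
  opp : ∀ k, X k ≠ ⊥ → u k ∈ X k ⊔ X (k + 6)
  dj : ∀ k, X k ⊓ X (k + 3) = ⊥
  pg : ∀ k, 6 * k ≠ 0 → PG r (X k)
  uq : ∀ s ∈ C(X 0), s ∈ C[u 0] → s * s = 1 → s = 1 ∨ s = u 0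
  mC : Od C(X 0) ⊓ C[u 0] ≤ X 0
  pm : Pm x (X 0)
  lin : ∀ g ∈ C[u 0], g ∈ N(X 0) → ∃ c, Ac g x c
  cS : #(T ⊓ (X 0 ⊔ X 6)) + 1 = Fintype.card F
  cyc : Cyc (T ⊓ (X 0 ⊔ X 6) :)
  adj : T ⊓ (X 0 ⊔ X 6) ⊓ C(X 2) = ⊥
  Lc : L ≤ C(X 0 ⊔ X 6)
  cT : T ⊓ C(X 0) ≤ L
  X3 : X 3 ≤ L
  BL : B ≤ L
  Bp : PG r B
  tr : ∀ y ∈ B, ∀ z ∈ B, y ≠ 1 → z ≠ 1 → ∃ g ∈ L ⊔ T, g * y * g⁻¹ = z
  nrm : 3 < #B → ∀ K, L ≤ N(K) → K ⊓ B ≠ ⊥ → u 0 ∈ K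

/-- two root groups commute -/
abbrev Cm (X : ZMod 12 → Subgroup G) (k l : ZMod 12) : Prop := X k ≤ C(X l)

theorem Cm.J {σ : ZMod 12 → ZMod 12} (e : ∀ k, cj g (X k) = X (σ k)) (h : Cm X k l) : Cm X (σ k) (σ l) := by
  rw [Cm, ← e, ← e, ← cj_cent]; exact cj_mono g h

theorem zm1 : ∀ l : ZMod 12, 4 * l ≠ 0 → 4 * l ≠ 4 * -l := by decide
theorem zm2 : ∀ k l : ZMod 12, 6 * l = 0 → 4 * l ≠ 0 → 4 * 0 ≠ 4 * k → 6 * k = 0 →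
    k = l ∨ k = -l ∨ k = l + 6 ∨ k = -l + 6 := by decide

namespace HS
variable (h : HS T X u L B x p r)
include h

theorem uu (k : ZMod 12) : u k * u k = 1 := mul_self_of_two (h.u2 k)

theorem rot' (hk : 6 * k = 0) : ∃ g ∈ N(T), ∀ i, cj g (X i) = X (i + k) := by
  obtain ⟨a, a1, a2⟩ := h.rot
  obtain ⟨v, -, v1, -, v2⟩ := h.rv
  obtain ⟨w, -, w1, w2⟩ := h.rw
  have : ∀ n : ℕ, ∃ g ∈ N(T), ∀ i, cj g (X i) = X (i + n * 10) := fun n => by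
    induction n with
    | zero => exact ⟨1, one_mem _, by simp⟩
    | succ n ih =>
      obtain ⟨g, g1, g2⟩ := ih
      refine ⟨a * v * w * g, mul_mem (mul_mem (mul_mem a1 v1) w1) g1, fun i => ?_⟩
      rw [cj_mul, cj_mul, cj_mul, g2, w2, v2, a2]; push_cast; ring_nf
  obtain ⟨n, rfl⟩ : ∃ n : Fin 6, k = n.1 * 10 := by revert k; decide
  exact this n

theorem refl' (hk : 6 * k = 0) : ∃ g ∈ N(T), ∀ i, cj g (X i) = X (k - i) := by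
  obtain ⟨a, a1, a2⟩ := h.rot' hk
  obtain ⟨w, -, w1, w2⟩ := h.rw
  exact ⟨a * w, mul_mem a1 w1, fun i => by rw [cj_mul, w2, a2, neg_add_eq_sub]⟩

theorem cm_rot (e : Cm X a b) (k : ZMod 12) (hk : 6 * k = 0 := by decide) : Cm X (a + k) (b + k) :=
  let ⟨_, _, e'⟩ := h.rot' hk; e.J e'
theorem cm_refl (e : Cm X a b) (k : ZMod 12) (hk : 6 * k = 0 := by decide) : Cm X (k - a) (k - b) :=
  let ⟨_, _, e'⟩ := h.refl' hk; e.J e'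

theorem exists_pm (hk : 6 * k = 0) : ∃ g ∈ N(T), cj g (X 0) = X k :=
  let ⟨g, h1, h2⟩ := h.rot' hk; ⟨g, h1, by simpa using h2 0⟩

theorem pg0 (hk : 6 * k = 0) : PG p (X k) :=
  let ⟨g, _, e⟩ := h.exists_pm hk; have := h.ch; e ▸ (h.pm.pg h.hp).J g
theorem ne (k : ZMod 12) (hk : 6 * k = 0 := by decide) : X k ≠ ⊥ :=
  let ⟨g, _, e⟩ := h.exists_pm hk; e ▸ (h.pm.J g).ne
theorem ab0 (k : ZMod 12) (hk : 6 * k = 0 := by decide) : Cm X k k :=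
  let ⟨g, _, e⟩ := h.exists_pm hk; (e ▸ (h.pm.J g).ab : X k ≤ C(X k))
theorem odd (k : ZMod 12) : Odd #(X k) :=
  (em _).elim (fun e => odd_of_pg (h.pg0 e) h.p2) fun e => odd_of_pg (h.pg k e) h.r2

theorem TC (k : ZMod 12) : T ≤ C[u k] := h.ab.trans (cent_le_cent1 (h.uT k))

theorem lin' (hg : g ∈ N(T)) (hd : d ∈ N(T)) (e : d ∈ N(cj g (X 0))) : ∃ c, Ac d (op g x) c := by
  have m : g⁻¹ * d * g ∈ N(T) := mul_mem (mul_mem (inv_mem hg) hd) hg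
  have m' : g⁻¹ * d * g ∈ N(X 0) := by rwa [← cj_norm, mem_cj] at e
  obtain ⟨c, hc⟩ := h.lin _ (mem_cent1_conj.2 ((h.uq _ (conj_mem_of_norm (norm_le_norm_cent _ m')
    (le_cent1_iff.1 (h.uc 0 0 rfl))) (h.TC 0 (conj_mem_of_norm m (h.uT 0))) (mul_self_of_two
      (conj2 (h.u2 0) _))).resolve_left (ne_one_of_two (conj2 (h.u2 0) _)))) m'
  exact ⟨c, by simpa [mul_assoc] using (ac_J (g := g)).2 hc⟩

theorem nS (hg : g ∈ N(T)) (e : g ∈ N(X 0 ⊔ X 6)) : g ∈ N(T ⊓ (X 0 ⊔ X 6)) :=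
  zpowers_le.1 (norms_inf (zpowers_le.2 hg) (zpowers_le.2 e))

theorem adj' (h1 : 6 * l = 0) (h2 : 4 * l ≠ 0) : T ⊓ (X 0 ⊔ X 6) ⊓ C(X l) = ⊥ := by
  obtain ⟨v, v0, v1, -, v2⟩ := h.rv
  obtain ⟨w, w0, w1, w2⟩ := h.rw
  have k : ∀ {g a b}, g ∈ N(T ⊓ (X 0 ⊔ X 6)) → cj g (X a) = X b → T ⊓ (X 0 ⊔ X 6) ⊓ C(X a) = ⊥ →
      T ⊓ (X 0 ⊔ X 6) ⊓ C(X b) = ⊥ := fun hg e e' => by
    rw [← e, ← cj_cent, ← cj_of_mem_norm hg, ← cj_inf, e', cj_bot]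
  have nv := h.nS v1 (le_normalizer v0)
  have nw := h.nS w1 (cent_le_norm _ (h.Lc w0))
  obtain rfl | rfl | rfl | rfl : l = 2 ∨ l = 4 ∨ l = 8 ∨ l = 10 := by revert l; decide
  exacts [h.adj, k nv (v2 2) h.adj, k nw (w2 4) (k nv (v2 2) h.adj), k nw (w2 2) h.adj]

theorem onto' (hg : g ∈ N(T)) (e : cj g (X 0) = X l) (h1 : 6 * l = 0) (h2 : 4 * l ≠ 0) (hc : c ≠ 0) :
    ∃ d ∈ T ⊓ (X 0 ⊔ X 6), Ac d (op g x) c := by
  obtain ⟨χ, k1, k2⟩ := (h.pm.J g).chi (T := T ⊓ (X 0 ⊔ X 6)) fun d hd =>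
    h.lin' hg (le_normalizer hd.1) (e ▸ h.nX l hd.1)
  have := h.cS
  obtain ⟨d, hd⟩ := (((injective_iff_map_eq_one χ).2 fun d hd => Subtype.ext (mem_bot.1 ((h.adj' h1 h2).le
    ⟨d.2, e ▸ (k2 d).1 hd⟩))).bijective_of_nat_card_le (by
      rw [Nat.card_units, Nat.card_eq_fintype_card]; omega)).2 (Units.mk0 c hc)
  exact ⟨d, d.2, by simpa [hd] using k1 d⟩

theorem onto (hg : g ∈ N(T)) (hc : c ≠ 0) : ∃ d ∈ T, Ac d (op g x) c := by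
  obtain ⟨a, a1, a2⟩ := h.exists_pm (k := 2) (by decide)
  obtain ⟨d, d1, d2⟩ := h.onto' a1 a2 (by decide) (by decide) hc
  refine ⟨_, conj_mem_of_norm (mul_mem hg (inv_mem a1)) d1.1, ?_⟩
  simpa [op_op] using (ac_J (g := g * a⁻¹)).2 d2

theorem irr (hk : 6 * k = 0) (hW : T ≤ N(W)) (e : X k ⊓ W ≠ ⊥) : X k ≤ W := by
  obtain ⟨g, g1, g2⟩ := h.exists_pm hk
  rw [← g2] at e ⊢
  exact (h.pm.J g).irr (fun c hc => h.onto g1 hc) hW e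

theorem three : 3 ≤ Fintype.card F := by
  have := h.cS
  have := card_dvd (show zpowers (u 0) ≤ T ⊓ (X 0 ⊔ X 6) from zpowers_le.2 ⟨h.uT 0, h.opp 0 (h.ne 0)⟩)
  rw [Nat.card_zpowers, h.u2] at this
  have := Nat.le_of_dvd (card_pos _) this
  omega

theorem uC : u 0 ∈ C(X 0) := le_cent1_iff.1 (h.uc 0 0 rfl)
theorem nM : N(X 0) ≤ N(Od C(X 0)) := (norm_le_norm_cent _).trans (norm_le_norm_Oc _ _)
theorem MC : Od C(X 0) ≤ C(X 0) := Oc_le _ _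
theorem X0M : X 0 ≤ Od C(X 0) := le_Oc ⟨h.ab0 0, cent_le_norm _⟩ (odd_iff_pi.1 (h.odd 0))
theorem LX : L ≤ C(X 0) := h.Lc.trans (cent_mono le_sup_left)
theorem Lu : L ≤ C[u 0] := h.Lc.trans (cent_le_cent1 (h.opp 0 (h.ne 0)))

theorem invmem (hy : y ∈ C(X 0)) (ho : Odd (orderOf y)) (e : u 0 * y * (u 0)⁻¹ = y⁻¹) : y ∈ Od C(X 0) := by
  have k := H7.zstar (t := (⟨u 0, h.uC⟩ : C(X 0))) ⟨(orderOf_mk _ _).trans (h.u2 0), fun g hg =>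
    Subtype.ext ((h.uq _ (g * ⟨u 0, h.uC⟩ * g⁻¹).2 (mem_cent1.2 (congrArg Subtype.val hg.eq).symm)
      (mul_self_of_two (conj2 (h.u2 0) _))).resolve_left (ne_one_of_two (conj2 (h.u2 0) _)))⟩ ⟨y, hy⟩
  refine mem_of_odd_of_pow (k := 1) ho ?_
  rw [Od, ← pPrimeCore_map_eq Nat.prime_two]
  exact ⟨_, inv_mem k, by change (u 0 * y * (u 0)⁻¹ * y⁻¹)⁻¹ = _; rw [e]; group⟩

theorem le_M (e : Cm X l 0) (hl : 4 * 0 ≠ 4 * l := by decide) : X l ≤ Od C(X 0) := fun _ hy =>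
  h.invmem (e hy) (odd_elt (h.odd l) hy) (h.ui 0 l hl _ hy)

theorem inv0 (hy : y ∈ Od C(X 0)) : u 0 * y * (u 0)⁻¹ * y ∈ X 0 := by
  obtain ⟨a, a1, a2, c, c1, c2, rfl⟩ := H10.exists_inverted_mul_centralizer (odd_Od _) (h.uu 0)
    (Oc_norm _ _ h.uC) hy
  have := h.mC ⟨c1, mem_cent1.2 c2⟩
  rw [← conj_mul, a2, ← c2, mul_inv_cancel_right, mul_assoc, ← mul_assoc c, h.MC a1 c this]
  simpa [mul_assoc] using mul_mem this this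

theorem der : ⁅Od C(X 0), Od C(X 0)⁆ ≤ X 0 := commutator_le.2 fun a ha b hb => by
  have e := h.inv0 (mul_mem (inv_mem ha) (inv_mem hb))
  have c1 := h.inv0 (inv_mem ha)
  have c2 := h.inv0 (inv_mem hb)
  have c4 := h.MC ha _ c2
  rw [← conj_mul] at e
  generalize u 0 * a⁻¹ * (u 0)⁻¹ = s, u 0 * b⁻¹ * (u 0)⁻¹ = t at *
  rwa [show s * t * (a⁻¹ * b⁻¹) = s * a⁻¹ * (a * (t * b⁻¹)) * (b * a⁻¹ * b⁻¹) by group, ← c4,
    show s * a⁻¹ * (t * b⁻¹ * a) * (b * a⁻¹ * b⁻¹) = s * a⁻¹ * (t * b⁻¹) * ⁅a, b⁆ by group,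
    mul_mem_cancel_left (mul_mem c1 c2)] at e

theorem cc (hk : 6 * k = 0) (e : Cm X a k) (e' : Cm X b k) (ha : 4 * k ≠ 4 * a) (hb : 4 * k ≠ 4 * b) :
    ⁅X a, X b⁆ ≤ X k := by
  obtain ⟨g, -, g2⟩ := h.rot' hk
  have m : ∀ a, Cm X a k → 4 * k ≠ 4 * a → X (a - k) ≤ Od C(X 0) := fun a e ha => h.le_M (by
    simpa [sub_eq_add_neg] using h.cm_rot e (-k) (by rw [mul_neg, hk, neg_zero])) fun e => ha (by
      linear_combination e)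
  simpa [cj_comm, g2] using cj_mono g ((commutator_mono (m a e ha) (m b e' hb)).trans h.der)

theorem no2 (e : X l ≤ W) (e' : X (l + 6) ≤ W) (ho : Odd #W) : X l = ⊥ := by_contra fun n => by
  have := odd_elt ho (sup_le e e' (h.opp l n))
  rw [h.u2] at this
  exact absurd this (by decide)

theorem MT : Od C(X 0) ⊓ T = ⊥ := eq_bot_iff.2 fun y hy => mem_bot.2 ((h.ui 1 0 (by decide)).eq_one
  (h.mC ⟨hy.1, h.TC 0 hy.2⟩) (odd_elt (odd_Od _) hy.1) (h.TC 1 hy.2))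

theorem genM (hW : W ≤ Od C(X 0)) (hn : T ≤ N(W)) (h0 : X 0 ≤ N)
    (e : ∀ l, 4 * 0 ≠ 4 * l → Cm X l 0 → X l ≤ W → X l ≤ N) : W ≤ N :=
  h.gen W N ((odd_Od _).of_dvd_nat (card_dvd hW)) hn (eq_bot_mono (inf_le_inf_right _ hW) h.MT) fun l hl =>
    (em _).elim (fun k => (le_inf (hl.trans hW) (h.uc 0 l k)).trans (h.mC.trans h0))
      fun k => e l k ((hl.trans hW).trans h.MC) hl

theorem TM : T ≤ N(Od C(X 0)) := (h.nX 0).trans h.nM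
theorem LM : L ≤ N(Od C(X 0)) := h.LX.trans (Oc_norm _ _)
theorem nN (h0 : X 0 ≤ N) (h1 : N ≤ Od C(X 0)) : Od C(X 0) ≤ N(N) := norms_of_der_le (h.der.trans h0) h1

theorem exists_cm (lb : ¬ C(X 0) ≤ C[u 0]) : ¬ Od C(X 0) ≤ X 0 := fun e => lb fun y hy => by
  have k := H7.zstar (t := (⟨u 0, h.uC⟩ : C(X 0))) ⟨(orderOf_mk _ _).trans (h.u2 0), fun g hg =>
    Subtype.ext ((h.uq _ (g * ⟨u 0, h.uC⟩ * g⁻¹).2 (mem_cent1.2 (congrArg Subtype.val hg.eq).symm)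
      (mul_self_of_two (conj2 (h.u2 0) _))).resolve_left (ne_one_of_two (conj2 (h.u2 0) _)))⟩ ⟨y, hy⟩
  have m : u 0 * y * (u 0)⁻¹ * y⁻¹ ∈ X 0 := e (by rw [Od, ← pPrimeCore_map_eq Nat.prime_two]; exact ⟨_, k, rfl⟩)
  have c := mem_cent1_conj'.1 (h.uc 0 0 rfl m)
  refine mem_cent1_conj'.2 (mul_inv_eq_one.1 (eq_one_of_odd_of_sq (odd_elt (h.odd 0) m) ?_))
  nth_rw 1 [← c]
  rw [inv_eq_of_two (h.u2 0)]
  simp only [mul_assoc, ← mul_assoc (u 0) (u 0), h.uu, one_mul]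
  simp [← mul_assoc (u 0) (u 0), h.uu]

theorem lift (hl : 4 * 0 ≠ 4 * l) (e : X l ≤ Od C(X 0)) (e' : ⁅X 3, X l⁆ ≤ X 0) : Cm X l 3 := fun y hy a ha => by
  have m := e' (commutator_mem_commutator ha hy)
  have c := mem_cent1_conj'.1 (h.uc 0 0 rfl m)
  have c' := h.MC (e hy) _ m
  rw [commutatorElement_def, ← conj_mul, ← conj_mul, ← conj_mul, ← conj_inv, ← conj_inv,
    mem_cent1_conj'.1 (h.uc 0 3 (by decide) ha), h.ui 0 l hl y hy] at c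
  refine commutatorElement_eq_one_iff_mul_comm.1 (eq_one_of_odd_of_sq (odd_elt (h.odd 0) m) ?_)
  rw [← mul_left_inj y, mul_assoc, c', commutatorElement_def]
  nth_rw 2 [← c]
  group

theorem grow (pM : PG r (Od C(X 0))) (h0 : X 0 ≤ N) (h1 : N ≤ Od C(X 0)) (hn : T ≤ N(N))
    (e : ¬ Od C(X 0) ≤ N) :
    ∃ l, 4 * 0 ≠ 4 * l ∧ X l ≤ Od C(X 0) ∧ ¬ X l ≤ N ∧ ⁅X 3, X l⁆ ≤ N := by
  by_contra! k
  exact st_not_le pM (h.pg 3 (by decide)) (h.X3.trans h.LM) (h.nN h0 h1) e (h.genM (fun _ hw => hw.1.1)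
    (st_norm h.TM hn (h.nX 3)) h0 fun l h1 _ h3 => by_contra fun n => k l h1 (fun _ hw => (h3 hw).1.1) n
      (commutator_le.2 fun a ha b hb => (h3 hb).2 a ha))

/-- the elements of `M` whose `n`-th power lies in `X 0` -/
def pw (n : ℕ) : Subgroup G where
  carrier := {m | m ∈ Od C(X 0) ∧ m ^ n ∈ X 0}
  mul_mem' := fun {a b} ha hb => ⟨mul_mem ha.1 hb.1, by
    have : ∀ n : ℕ, (a * b) ^ n * (a ^ n * b ^ n)⁻¹ ∈ X 0 := fun n => by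
      induction n with
      | zero => simp
      | succ n ih =>
        have e := mul_mem (conj_mem_of_norm (cent_le_norm _ (h.MC (mul_mem ha.1 hb.1))) ih)
          (conj_mem_of_norm (cent_le_norm _ (h.MC ha.1)) (h.der (commutator_mem_commutator hb.1 (pow_mem ha.1 n))))
        convert e using 1
        rw [pow_succ', pow_succ' a, pow_succ' b]; group
    exact (mul_mem_cancel_right (inv_mem (mul_mem ha.2 hb.2))).1 (this n)⟩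
  one_mem' := ⟨one_mem _, by simp⟩
  inv_mem' := fun {a} ha => ⟨inv_mem ha.1, by simpa using ha.2⟩

theorem pw_norm (n : ℕ) : N(X 0) ≤ N(h.pw n) := fun g hg => mem_norm_of_cj_le (by
  rintro _ ⟨w, hw, rfl⟩
  exact ⟨conj_mem_of_norm (h.nM hg) hw.1, by simpa using conj_mem_of_norm hg hw.2⟩)

theorem pgM (e : p = r) : PG r (Od C(X 0)) := by
  subst e
  have pg : ∀ k, PG p (X k) := fun k => (em _).elim h.pg0 (h.pg k)
  obtain ⟨n, hn⟩ : ∃ n, ∀ y : G, PiE {p} y → y ^ p ^ n = 1 := ⟨Nat.card G, fun y hy => by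
    obtain ⟨k, hk⟩ := hy.exists_pow (orderOf_pos y).ne'
    exact orderOf_dvd_iff_pow_eq_one.1 (hk ▸ pow_dvd_pow p ((Nat.lt_pow_self h.hp.one_lt).le.trans
      (hk ▸ orderOf_le_card)))⟩
  have : Od C(X 0) ≤ h.pw (p ^ n) := h.genM le_rfl h.TM (fun y hy => ⟨h.X0M hy, pow_mem hy _⟩)
    fun l _ _ e y hy => ⟨e hy, by rw [hn y ((pg l).elt hy)]; exact one_mem _⟩
  exact .of_elt fun y hy => (PiN.prime_pow h.hp (n + n)).dvd (orderOf_dvd_of_pow_eq_one (by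
    rw [pow_add, pow_mul, hn _ ((pg 0).elt (this hy).2)]))

theorem stepA (e : p = r) (lb : ¬ Od C(X 0) ≤ X 0) : ∃ l, 4 * 0 ≠ 4 * l ∧ Cm X l 0 ∧ Cm X l 3 :=
  let ⟨l, h1, h2, _, h4⟩ := h.grow (h.pgM e) le_rfl h.X0M (h.nX 0) lb
  ⟨l, h1, h2.trans h.MC, h.lift h1 h2 h4⟩

theorem cap {A B : Subgroup G} {t : G} (hA : A ≤ Od C(X 0)) (hB : B ≤ Od C(X 0)) (c : A ≤ C[t]) (i : Inv t B)
    (i0 : Inv t (X 0)) (hy : y ∈ A ⊔ (B ⊔ X 0)) (hc : y ∈ C[t]) : y ∈ A := by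
  have m := sup_le hB h.X0M
  obtain ⟨a, ha, b, hb, rfl⟩ := (mem_sup_of_norm' (hA.trans (h.nN le_sup_right m))).1 hy
  rwa [(inv_sup i i0 (hB.trans h.MC)).eq_one hb (odd_elt (odd_Od _) (m hb)) ((mul_mem_cancel_left (c ha)).1 hc),
    mul_one]

theorem rep2 {E : Subgroup G} (h0 : X 0 ≤ N) (h1 : N ≤ E) (h2 : E ≤ Od C(X 0)) (n1 : L ⊔ T ≤ N(N))
    (n2 : L ⊔ T ≤ N(E)) (l1 : 6 * l = 0) (l2 : 4 * l ≠ 0) (k1 : X l ≤ E) (k2 : X (-l) ≤ E)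
    (k3 : E ≤ X l ⊔ (X (-l) ⊔ N)) (k4 : ∀ a ∈ X l, ∀ b ∈ X (-l), a * b ∈ N → a = 1 ∧ b = 1) (h3 : 3 < #B) :
    ∃ ρ : (L ⊔ T :) →* GL (Fin 2) F, ∀ g : (L ⊔ T :), g.1 ∈ B → ρ g = 1 → g = 1 := by
  obtain ⟨g, g1, g2⟩ := h.exists_pm l1
  obtain ⟨w, w0, w1, w2⟩ := h.rw
  have p1 := g2 ▸ h.pm.J g
  have p2 := w2 l ▸ p1.J w
  have nn := h.nN h0 (h1.trans h2)
  obtain ⟨ρ, hρ⟩ := rep (h2.trans nn) ((commutator_mono h2 h2).trans (h.der.trans h0)) p1.add p2.add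
    (fun s => k1 (p1.xm s)) (fun s => k2 (p2.xm s)) (fun e he => by
      obtain ⟨a, ha, b, hb, rfl⟩ := (mem_sup_of_norm' ((k1.trans h2).trans
        (h.nN (h0.trans le_sup_right) (sup_le (k2.trans h2) (h1.trans h2))))).1 (k3 he)
      obtain ⟨b, hb', c, hc, rfl⟩ := (mem_sup_of_norm' ((k2.trans h2).trans nn)).1 hb
      obtain ⟨s, rfl⟩ := (p1.mem _).1 ha
      obtain ⟨t, rfl⟩ := (p2.mem _).1 hb'
      exact ⟨s, t, by simpa [mul_assoc]⟩)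
    (fun s t e => (k4 _ (p1.xm s) _ (p2.xm t) e).imp (p1.inj s) (p2.inj t)) (fun c hc => by
      obtain ⟨d, d1, d2⟩ := h.onto' g1 g2 l1 l2 hc
      refine ⟨d, cents_symm (sup_le (h.Lc.trans (cent_mono inf_le_right)) (h.ab.trans (cent_mono inf_le_left))) d1,
        n1 (mem_sup_right d1.1), d2, ?_⟩
      have := (ac_J (g := w)).2 d2
      rwa [← h.Lc w0 d d1.2, mul_inv_cancel_right] at this) n2 n1
  refine ⟨ρ, fun g hg e => by_contra fun n => ?_⟩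
  obtain ⟨z, z1, z2⟩ := h.nrm h3 (ρ.ker.map (L ⊔ T).subtype) (le_sup_left.trans (normalIn_map_subtype _).norm)
    (ne_bot_of_mem ⟨⟨g, e, rfl⟩, hg⟩ (by simpa using n))
  have := hρ z z1 _ (k1 (p1.xm 1))
  rw [show (z : G) = u 0 from z2, h.ui 0 l (by simpa using l2.symm) _ (p1.xm 1), ← mul_inv_rev, inv_mem_iff] at this
  exact one_ne_zero (p1.inj _ (eq_one_of_odd_of_sq (odd_elt (h.odd l) (p1.xm 1))
    (k4 _ (mul_mem (p1.xm 1) (p1.xm 1)) 1 (one_mem _) (by simpa using this)).1))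

theorem own (ne : r ≠ p) (l1 : 6 * l = 0) (l2 : 4 * l ≠ 0) (e : Cm X l 0) : #B ≤ 3 := by
  by_contra! h3
  have := h.ch
  have m : ∀ l, 6 * l = 0 → 4 * l ≠ 0 → Cm X l 0 → X l ≤ h.pw p := fun l l1 l2 e y hy =>
    ⟨h.le_M e (by simpa using l2.symm) hy, by
      obtain ⟨g, -, g2⟩ := h.exists_pm l1
      rw [(h.pm.J g).pow_p (g2 ▸ hy)]; exact one_mem _⟩
  have l1' : 6 * -l = 0 := by rw [mul_neg, l1, neg_zero]
  have l2' : 4 * -l ≠ 0 := by rwa [mul_neg, neg_ne_zero]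
  have e' : Cm X (-l) 0 := by simpa using h.cm_refl e 0
  have pM : h.pw p ≤ Od C(X 0) := fun _ hy => hy.1
  have k : ∀ l, 6 * l = 0 → 4 * l ≠ 0 → Cm X (-l) 0 → ∀ a ∈ X l, a ∈ X (-l) ⊔ X 0 → a = 1 := fun l l1 l2 e a ha k =>
    h.cap bot_le (h.le_M e (by simpa using l2)) bot_le (h.ui l _ (zm1 l l2))
      (h.ui l 0 (by simpa using l2)) (mem_sup_right k) (h.uc l l rfl ha)
  obtain ⟨ρ, hρ⟩ := h.rep2 (E := h.pw p) le_rfl (fun y hy => ⟨h.X0M hy, pow_mem hy _⟩) pM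
    (sup_le (h.LX.trans (cent_le_norm _)) (h.nX 0))
    ((sup_le (h.LX.trans (cent_le_norm _)) (h.nX 0)).trans (h.pw_norm p)) l1 l2 (m l l1 l2 e) (m _ l1' l2' e')
    (h.genM pM ((h.nX 0).trans (h.pw_norm p)) (le_sup_of_le_right le_sup_right) fun k k1 _ k3 => by
      by_cases k4 : 6 * k = 0
      · obtain rfl | rfl | rfl | rfl := zm2 k l l1 l2 k1 k4
        exacts [le_sup_left, le_sup_of_le_right le_sup_left,
          (h.ne l l1 (h.no2 ((m l l1 l2 e).trans pM) (k3.trans pM) (odd_Od _))).elim,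
          (h.ne _ l1' (h.no2 ((m _ l1' l2' e').trans pM) (k3.trans pM) (odd_Od _))).elim]
      · exact fun y hy => PiN.e_eq_one ((h.pg k k4).elt hy) (((PiN.prime_pow h.hp 2).dvd
          (orderOf_dvd_of_pow_eq_one (by rw [sq, pow_mul, h.pm.pow_p (k3 hy).2]))).sing_ne ne.symm) ▸ one_mem _)
    (fun a ha b hb e1 => ⟨k l l1 l2 e' a ha ((mul_mem_cancel_right (mem_sup_left hb)).1 (mem_sup_right e1)),
      k _ l1' l2' (by rwa [neg_neg]) b hb (by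
        rw [neg_neg]; exact (mul_mem_cancel_left (mem_sup_left ha)).1 (mem_sup_right e1))⟩) h3
  exact h3.not_ge (gl_three h.hp ne h.r2 ρ (h.BL.trans le_sup_left) h.Bp hρ h.tr)

end HS
end HS


end H19.FW
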