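/-
Strongly closed direct products whose factors are permuted by fusion.
-/
import Cfsg.Agent.H19.SC3
import Cfsg.Agent.H25.GF2

set_option autoImplicit false
set_option linter.unusedSectionVars false
set_option linter.style.haveILetI false

namespace H19.GG
open Cfsg Subgroup H18 H17.GS
open H19 hiding eq_bot_mono
open H25.PF (SX PF K mem_K K_le K_le_iff ph cent_conj)

universe u v
variable {G : Type u} [Group G] [Finite G] {a b c d f g k n r s t u v w x y z : G}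
  {D E H J L M O P Q R S T U V W X Y Z : Subgroup G}
  {ι : Type v} [Finite ι] {A B : ι → Subgroup G} {i j l : ι}

/-- the elements of the colour of `u` -/
def Xs (A : ι → Subgroup G) (u : G) : Set G := {x | ∃ g i, g * u * g⁻¹ ∈ A i ∧ g * x * g⁻¹ ∈ A i}

/-- the elements orthogonal to the colour of `u` -/
def Ys (A B : ι → Subgroup G) (u : G) : Set G := {x | ∃ g i, g * u * g⁻¹ ∈ A i ∧ g * x * g⁻¹ ∈ B i}

theorem cjj (g k x : G) : k * g⁻¹ * (g * x * g⁻¹) * (k * g⁻¹)⁻¹ = k * x * k⁻¹ := by group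

theorem scj_nrm (hS : Syl 2 S (O ⊔ T)) (l : T ≤ S) (n : T ≤ N(O)) (hR : R ≤ O ⊔ T) (p : PG 2 R) :
    ∃ o ∈ O, cj o R ≤ S := by
  obtain ⟨k, hk, e⟩ := hS.scj_le hR p
  obtain ⟨o, ho, t, ht, rfl⟩ := (mem_sup_of_norm n).1 hk
  refine ⟨t⁻¹ * o * t, conj_mem_of_norm' (n ht) ho, ?_⟩
  rw [mul_assoc, cj_mul]
  exact cj_le_of_mem_norm (le_normalizer (inv_mem (l ht))) e

theorem mem_Xs (hu : u ∈ A i) (hx : x ∈ A i) : x ∈ Xs A u := ⟨1, i, by simpa using hu, by simpa using hx⟩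
theorem mem_Ys (hu : u ∈ A i) (hx : x ∈ B i) : x ∈ Ys A B u := ⟨1, i, by simpa using hu, by simpa using hx⟩
theorem Xs_conj (hx : x ∈ Xs A u) (g : G) : g * x * g⁻¹ ∈ Xs A (g * u * g⁻¹) :=
  let ⟨k, i, h1, h2⟩ := hx; ⟨k * g⁻¹, i, by rwa [cjj], by rwa [cjj]⟩
theorem Ys_conj (hx : x ∈ Ys A B u) (g : G) : g * x * g⁻¹ ∈ Ys A B (g * u * g⁻¹) :=
  let ⟨k, i, h1, h2⟩ := hx; ⟨k * g⁻¹, i, by rwa [cjj], by rwa [cjj]⟩

namespace CP
section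
variable (h : CP T H A B)
include h

theorem lA (i : ι) : A i ≤ T := h.sup i ▸ le_sup_left
theorem lB (i : ι) : B i ≤ T := h.sup i ▸ le_sup_right
theorem one (h1 : x ∈ A i) (h2 : x ∈ B i) : x = 1 := mem_bot.1 ((h.dj i).le ⟨h1, h2⟩)
theorem nA (i : ι) : B i ≤ N(A i) := norms_of_cents (cents_symm (h.cm i))
theorem col (h1 : x ∈ A i) (h2 : x ∈ A j) (x1 : x ≠ 1) : i = j :=
  by_contra fun e => x1 (h.one h2 (h.le i j e h1))
theorem dec (hx : x ∈ T) (i : ι) : ∃ s ∈ A i, s⁻¹ * x ∈ B i := by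
  obtain ⟨s, hs, y, hy, rfl⟩ := (mem_sup_of_norm (h.nA i)).1 ((h.sup i).ge hx)
  exact ⟨s, hs, by simpa using hy⟩
theorem uq (h1 : s ∈ A i) (h2 : s⁻¹ * x ∈ B i) (h3 : t ∈ A i) (h4 : t⁻¹ * x ∈ B i) : s = t :=
  inv_mul_eq_one.1 (h.one (mul_mem (inv_mem h1) h3) (by simpa using mul_mem h2 (inv_mem h4)))

theorem top (hx : x ∈ T) (k : ∀ j, x ∈ B j) : x = 1 := by
  have : ∀ F : Finset ι, ∀ x ∈ ⨆ i ∈ F, A i, (∀ j, x ∈ B j) → x = 1 := fun F => by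
    classical
    induction F using Finset.induction_on with
    | empty => exact fun x hx _ => by simpa using hx
    | insert i F hi ih =>
      intro x hx k
      have l : ⨆ j ∈ F, A j ≤ B i := iSup₂_le fun j hj => h.le j i fun e => hi (e ▸ hj)
      rw [Finset.iSup_insert] at hx
      obtain ⟨s, hs, y, hy, rfl⟩ := (mem_sup_of_norm (l.trans (h.nA i))).1 hx
      obtain rfl := h.one hs ((mul_mem_cancel_right (l hy)).1 (k i))
      exact ih _ (by simpa using hy) k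
  have _ := Fintype.ofFinite ι
  exact this Finset.univ x (h.gen.trans (by simp) hx) k

theorem sep (hx : x ∈ T) (k : ∀ j, j ≠ i → x ∈ B j) : x ∈ A i := by
  obtain ⟨s, hs, e⟩ := h.dec hx i
  rwa [← inv_mul_eq_one.1 (h.top (h.lB i e) fun j => by
    by_cases r : j = i
    exacts [r ▸ e, mul_mem (inv_mem (h.le i j (Ne.symm r) hs)) (k j r)])]

theorem card (e : #(A i) = #(A j)) : #(B i) = #(B j) := by
  have k := fun i => card_sup_of_disjoint (h.nA i) (h.dj i)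
  exact Nat.eq_of_mul_eq_mul_left (card_pos (A j)) (by rw [← k j, ← e, ← k i, h.sup, h.sup])

theorem Bgen (k : ∀ j, j ≠ i → A j ≤ M) : B i ≤ M := by
  have l : ⨆ (j : ι) (_ : j ≠ i), A j ≤ B i := iSup₂_le fun j e => h.le j i e
  have : B i ≤ (A i ⊔ ⨆ (j : ι) (_ : j ≠ i), A j) ⊓ B i := le_inf ((h.lB i).trans (h.gen.trans (iSup_le fun j => by
    by_cases r : j = i
    exacts [r ▸ le_sup_left, le_sup_of_le_right (le_iSup₂_of_le (f := fun j (_ : j ≠ i) => A j) j r le_rfl)]))) le_rfl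
  rw [sup_inf_modr (l.trans (h.nA i)) l, h.dj, bot_sup_eq] at this
  exact this.trans (iSup₂_le k)

theorem fus' (hg : g ∈ H) : ∃ σ : Equiv.Perm ι, (∀ j, #(A (σ j)) = #(A j)) ∧ ∀ x ∈ T, g * x * g⁻¹ ∈ T → ∀ j,
    (x ∈ B j ↔ g * x * g⁻¹ ∈ B (σ j)) ∧ (x ∈ A j → g * x * g⁻¹ ∈ A (σ j)) :=
  let ⟨σ, h1, h2⟩ := h.fus g hg
  ⟨σ, h1, fun x hx k j => ⟨h2 x hx k j, fun r => h.sep k fun l e => by
    simpa using (h2 x hx k (σ.symm l)).1 (h.le j _ (fun e' => e (by simp [e'])) r)⟩⟩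

theorem sclA (hK : L ≤ H) (hT : T ≤ L) (k : ∀ j, SCl (B j) L) (i : ι) : SCl (A i) L := by
  obtain ⟨S, hS, l⟩ := h.scl.pg.exists_syl hT
  exact .of_syl hS ((h.lA i).trans l) fun a ha g hg r => h.sep (h.scl.cl S hS.pi l a (h.lA i ha) g (hK hg) r)
    fun j e => (k j).cl S hS.pi ((h.lB j).trans l) a (h.le i j e.symm ha) g hg r

/-- a second involution of the same colour -/
theorem four (hu : u ∈ A i) (u1 : u ≠ 1) : ∃ t ∈ A i, t * t = 1 ∧ t ≠ 1 ∧ t ≠ u ∧ t * u = u * t := by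
  have p := h.scl.pg.of_le (h.lA i)
  obtain ⟨z, hz, z2⟩ := exists_inv_pg (p.infl C(A i)) (nil_center_ne_bot p.nil (ne_bot_of_mem hu u1))
  by_cases e : z = u
  · by_contra! k
    refine u1 (mem_bot.1 ((h.nab i ((h.gi i).trans ((closure_le _).2 fun t ht => ?_))).le hu))
    by_cases t1 : t = 1
    · exact t1 ▸ one_mem _
    by_cases t2 : t = u
    · exact t2 ▸ e ▸ hz.2
    exact (k t ht.1 ht.2 t1 t2 (e ▸ hz.2 t ht.1)).elim
  · exact ⟨z, hz.1, mul_self_of_ord2 z2, ne_one_of_ord2 z2, e, (hz.2 u hu).symm⟩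

theorem im {G' : Type u} [Group G'] [Finite G'] {φ : L →* G'} (hf : Function.Surjective φ) (hK : L ≤ H)
    (hT : T ≤ L) (ho : OG O) (hk : ∀ x, φ x = 1 ↔ x.1 ∈ O) (hO : O ⊴ L) :
    CP (im φ T) ⊤ (fun i => im φ (A i)) fun i => im φ (B i) := by
  have inj : ∀ x : L, x.1 ∈ T → φ x = 1 → x.1 = 1 := fun x hx e => ho.eq_one' h.scl.pg ((hk x).1 e) hx
  have m : ∀ {X}, X ≤ T → ∀ {x : L}, x.1 ∈ T → (φ x ∈ H19.im φ X ↔ x.1 ∈ X) := fun l _ hx =>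
    mem_im_iff (W := ⊥) inj bot_le l hx
  have c : ∀ i, #(H19.im φ (A i)) = #(A i) := fun i =>
    let ⟨e⟩ := im_equiv_self ((h.lA i).trans hT) fun x hx => inj ⟨x, _⟩ (h.lA i hx)
    (Nat.card_congr e.toEquiv).symm
  refine ⟨(h.scl.mono hT hK).im hf, fun i => by rw [← im_sup ((h.lA i).trans hT) ((h.lB i).trans hT), h.sup],
    fun i => im_cents (h.cm i), fun i => eq_bot_iff.2 fun y hy => ?_, fun i j e => im_mono (h.le i j e),
    (im_le_iff hT).2 (h.gen.trans (iSup_le fun i => (im_le_iff ((h.lA i).trans hT)).1 (le_iSup (fun i => H19.im φ (A i)) i))),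
    fun i => (im_le_iff ((h.lA i).trans hT)).2 ((h.gi i).trans ((closure_le _).2 fun x hx =>
      coe_mem_pre (x := ⟨x, hT (h.lA i hx.1)⟩).2 (subset_closure ⟨mem_im_of hx.1, by
        rw [← map_mul]; exact (congrArg φ (Subtype.ext hx.2)).trans (map_one φ)⟩))),
    fun i e => ?_, fun g _ => ?_⟩
  · obtain ⟨x, hx, rfl⟩ := mem_im.1 hy.1
    exact (congrArg φ (Subtype.ext (h.one hx ((m (h.lB i) (h.lA i hx)).1 hy.2)))).trans (map_one φ)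
  · rw [h.nab i (commg_eq_bot.1 (eq_bot_iff.2 fun x hx => inj ⟨x, hT (h.lA i (der_le _ hx))⟩ (h.lA i (der_le _ hx))
      (mem_bot.1 ((im_comm ((h.lA i).trans hT) ((h.lA i).trans hT)).trans (commg_eq_bot.2 e) ▸
        mem_im_of (f := φ) hx)))), im_bot]
  obtain ⟨g, rfl⟩ := hf g
  obtain ⟨S, hS, l⟩ := h.scl.pg.exists_syl (le_sup_right : T ≤ O ⊔ T)
  obtain ⟨o, o1, e⟩ := scj_nrm hS l (hT.trans hO.norm) (inf_le_right : cj g.1 T ⊓ (O ⊔ T) ≤ _)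
    ((h.scl.pg.J _).infl _)
  obtain ⟨σ, h1, h2⟩ := h.fus _ (hK (mul_mem (hO.le o1) g.2))
  refine ⟨σ, fun j => by rw [c, c, h1], fun _ hx' r j => ?_⟩
  obtain ⟨x, hx, rfl⟩ := mem_im.1 hx'
  have e1 : φ g * φ x * (φ g)⁻¹ = φ (⟨_, hO.le o1⟩ * g * x * (⟨_, hO.le o1⟩ * g)⁻¹) := by
    simp [(hk ⟨_, hO.le o1⟩).2 o1]
  obtain ⟨y, hy, e2⟩ := mem_im.1 r
  have e3 : o * g * x * (o * g)⁻¹ ∈ T := h.scl.cl S hS.pi l x hx _ (hK (mul_mem (hO.le o1) g.2))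
    (conj_conj' o g x ▸ e (conj_mem_cj.2 ⟨conj_mem_cj.2 hx, show g.1 * x * g.1⁻¹ ∈ O ⊔ T by
      simpa using mul_mem (mem_sup_left ((hk (g * x * g⁻¹ * y⁻¹)).1 (by simp [e2]))) (mem_sup_right hy)⟩))
  rw [e1, m (h.lB j) hx, m (h.lB _) e3]
  exact h2 x hx e3 j

end
end CP

/-- the subgroup generated by the elements orthogonal to the colour of `u` -/
def Ku (A B : ι → Subgroup G) (u : G) : Subgroup G := K (Ys A B u) C[u]

theorem cj_Ku (g u : G) : cj g (Ku A B u) = Ku A B (g * u * g⁻¹) := by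
  have k : ∀ g u : G, cj g (Ku A B u) ≤ Ku A B (g * u * g⁻¹) := fun g u => cj_le_iff.2 (K_le_iff.2
    fun y h1 h2 => mem_cj_inv.2 (mem_K (Ys_conj h1 g) (cent_conj h2 g)))
  exact le_antisymm (k g u) (le_cj_iff.2 (by simpa [mul_assoc] using k g⁻¹ (g * u * g⁻¹)))

theorem cmj (h : k * x * k⁻¹ * (k * y * k⁻¹) = k * y * k⁻¹ * (k * x * k⁻¹)) : x * y = y * x := by
  simp only [mul_assoc, inv_mul_cancel_left, mul_right_inj] at h
  simpa only [← mul_assoc, mul_left_inj] using h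

namespace CP
variable (h : CP T ⊤ A B)
include h

theorem exG (hP : PG 2 P) : ∃ k, ∀ x ∈ P, ∀ g, g * x * g⁻¹ ∈ T → k * x * k⁻¹ ∈ T := by
  obtain ⟨S, hS, l⟩ := h.scl.pg.exists_syl le_top
  obtain ⟨k, -, e⟩ := hS.scj_le le_top hP
  exact ⟨k, fun x hx g r => cjj g k x ▸ h.scl.cl S hS.pi l _ r _ trivial ((cjj g k x).symm ▸ e (conj_mem_cj.2 hx))⟩

theorem tr (g k : G) : ∃ σ : Equiv.Perm ι, (∀ j, #(A (σ j)) = #(A j)) ∧ ∀ x, g * x * g⁻¹ ∈ T → k * x * k⁻¹ ∈ T →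
    ∀ j, (g * x * g⁻¹ ∈ B j ↔ k * x * k⁻¹ ∈ B (σ j)) ∧ (g * x * g⁻¹ ∈ A j → k * x * k⁻¹ ∈ A (σ j)) :=
  let ⟨σ, h1, h2⟩ := h.fus' (mem_top (k * g⁻¹))
  ⟨σ, h1, fun x a b => cjj g k x ▸ h2 _ a ((cjj g k x).symm ▸ b)⟩

theorem trX (hx : x ∈ Xs A u) (hu : k * u * k⁻¹ ∈ A i) (u1 : u ≠ 1) (r : k * x * k⁻¹ ∈ T) : k * x * k⁻¹ ∈ A i := by
  obtain ⟨g, j, h1, h2⟩ := hx
  obtain ⟨σ, -, e⟩ := h.tr g k
  exact h.col ((e u (h.lA j h1) (h.lA i hu) j).2 h1) hu (by simpa using u1) ▸ (e x (h.lA j h2) r j).2 h2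

theorem trY (hx : x ∈ Ys A B u) (hu : k * u * k⁻¹ ∈ A i) (u1 : u ≠ 1) (r : k * x * k⁻¹ ∈ T) : k * x * k⁻¹ ∈ B i := by
  obtain ⟨g, j, h1, h2⟩ := hx
  obtain ⟨σ, -, e⟩ := h.tr g k
  exact h.col ((e u (h.lA j h1) (h.lA i hu) j).2 h1) hu (by simpa using u1) ▸ (e x (h.lB j h2) r j).1.1 h2

theorem pure (hu : u ∈ A i) (r : k * u * k⁻¹ ∈ T) : ∃ j, k * u * k⁻¹ ∈ A j ∧ #(A j) = #(A i) :=
  let ⟨σ, h1, h2⟩ := h.fus' (mem_top k)
  ⟨σ i, (h2 u (h.lA i hu) r i).2 hu, h1 i⟩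

theorem loc (hu : u ∈ A i) (u1 : u ≠ 1) (hP : PG 2 P) (c : P ≤ C[u]) : ∃ k j, #(A j) = #(A i) ∧
    (∀ x ∈ P, x ∈ Xs A u → k * x * k⁻¹ ∈ A j) ∧ ∀ x ∈ P, x ∈ Ys A B u → k * x * k⁻¹ ∈ B j := by
  obtain ⟨k, e⟩ := h.exG ((h.scl.pg.of_le (zpowers_le' (h.lA i hu))).sup hP (c.trans (cent1_le_norm_zpowers u)))
  obtain ⟨j, h1, h2⟩ := h.pure hu (e u (mem_sup_left (mem_zpowers u)) 1 (by simpa using h.lA i hu))
  exact ⟨k, j, h2, fun x hx ⟨g, l, a, b⟩ => h.trX ⟨g, l, a, b⟩ h1 u1 (e x (mem_sup_right hx) g (h.lA l b)),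
    fun x hx ⟨g, l, a, b⟩ => h.trY ⟨g, l, a, b⟩ h1 u1 (e x (mem_sup_right hx) g (h.lB l b))⟩

theorem pf (hu : u ∈ A i) (u1 : u ≠ 1) : PF (Xs A u) (Ys A B u) C[u] := by
  have pg : ∀ {g x : G}, g * x * g⁻¹ ∈ T → PiE {2} x := fun r => by simpa [PiE, orderOf_conj'] using h.scl.pg.elt r
  have k : ∀ {P}, PG 2 P → P ≤ C[u] → ∃ k j, k * u * k⁻¹ ∈ A j ∧
      (∀ x ∈ P, x ∈ Xs A u → k * x * k⁻¹ ∈ A j) ∧ ∀ x ∈ P, x ∈ Ys A B u → k * x * k⁻¹ ∈ B j := fun hP c =>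
    let ⟨k, j, _, a, b⟩ := h.loc hu u1 ((h.scl.pg.of_le (zpowers_le' (h.lA i hu))).sup hP
      (c.trans (cent1_le_norm_zpowers u))) (sup_le (zpowers_le' (mem_cent1_self u)) c)
    ⟨k, j, a u (mem_sup_left (mem_zpowers u)) (mem_Xs hu hu), fun x hx => a x (mem_sup_right hx),
      fun x hx => b x (mem_sup_right hx)⟩
  refine ⟨⟨mem_Xs hu (one_mem _), fun x ⟨_, j, _, b⟩ => pg (h.lA j b), fun x hx g hg =>
    conj_mem_cent1.1 hg ▸ Xs_conj hx g, fun P hP c x x1 x2 y y1 y2 => ?_⟩, ⟨mem_Ys hu (one_mem _),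
    fun x ⟨_, j, _, b⟩ => pg (h.lB j b), fun x hx g hg => conj_mem_cent1.1 hg ▸ Ys_conj hx g,
    fun P hP c x x1 x2 y y1 y2 => ?_⟩, fun P hP c x x1 x2 y y1 y2 => ?_⟩ <;>
  obtain ⟨k, j, r, a, b⟩ := k hP c
  · exact ⟨k, j, r, by simpa [mul_assoc] using mul_mem (a x x2 x1) (a y y2 y1)⟩
  · exact ⟨k, j, r, by simpa [mul_assoc] using mul_mem (b x x2 x1) (b y y2 y1)⟩
  · exact cmj (h.cm j (a x x2 x1) _ (b y y2 y1)).symm

theorem XY (hu : u ∈ A i) (u1 : u ≠ 1) : ⁅K (Xs A u) C[u], Ku A B u⁆ ≤ O(C[u]) :=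
  (h.pf hu u1).disj fun x ⟨g, j, a, b⟩ k _ => by simpa using h.one b (h.trY k a u1 (h.lA j b))

theorem cB (hu : u ∈ A i) : B i ≤ C[u] := (cents_symm (h.cm i)).trans (cent_le_cent1 hu)

theorem KY (hu : u ∈ A i) (u1 : u ≠ 1) (hP : PG 2 P) (l : B i ≤ P) (c : P ≤ C[u]) : K (Ys A B u) P = B i := by
  refine le_antisymm (K_le_iff.2 fun y y1 y2 => ?_) fun y hy => mem_K (mem_Ys hu hy) (l hy)
  obtain ⟨k, j, e, -, b⟩ := h.loc hu u1 hP c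
  have : cj k (B i) = B j := eq_of_le_of_card_eq (cj_le_iff.2 fun x hx => mem_cj_inv.2 (b x (l hx) (mem_Ys hu hx)))
    (by rw [card_cj, h.card e])
  exact conj_mem_cj.1 (this ▸ b y y2 y1)

theorem sclB (hu : u ∈ A i) (u1 : u ≠ 1) : SCl (B i) C[u] ∧ Kc (B i) C[u] = Ku A B u := by
  obtain ⟨P, hP, l⟩ := (h.scl.pg.of_le (h.lB i)).exists_syl (h.cB hu)
  exact h.KY hu u1 hP.pi l hP.le ▸ ⟨(h.pf hu u1).y.scl hP, (h.pf hu u1).y.Kc_eq hP⟩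

theorem lK (hu : u ∈ A i) (u1 : u ≠ 1) : B i ≤ Ku A B u := (h.sclB hu u1).2 ▸ le_Kc

theorem step (hu : u ∈ A i) (u1 : u ≠ 1) : CP (B i) C[u] (fun j => A j ⊓ B i) fun j => B j ⊓ B i := by
  have e : ∀ j, (j = i ∧ A j ⊓ B i = ⊥) ∨ (j ≠ i ∧ A j ⊓ B i = A j) := fun j =>
    (em (j = i)).imp (fun r => ⟨r, r ▸ h.dj j⟩) fun r => ⟨r, inf_eq_left.2 (h.le j i r)⟩
  refine ⟨(h.sclB hu u1).1, fun j => ?_, fun j => cents_mono (h.cm j) inf_le_left inf_le_left,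
    fun j => H19.eq_bot_mono (inf_le_inf inf_le_left inf_le_left) (h.dj j),
    fun j l r => inf_le_inf_right _ (h.le j l r), h.Bgen fun j r => le_iSup_of_le j (le_inf le_rfl (h.le j i r)),
    fun j => ?_, fun j => ?_, fun g hg => ?_⟩
  · rcases e j with ⟨rfl, r⟩ | ⟨r1, r⟩
    · rw [r, inf_idem, bot_sup_eq]
    · rw [r, ← sup_inf_modl (h.nA j) (h.le j i r1), h.sup, inf_eq_right.2 (h.lB i)]
  · rcases e j with ⟨-, r⟩ | ⟨-, r⟩ <;> simp only [r]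
    exacts [bot_le, h.gi j]
  · rcases e j with ⟨-, r⟩ | ⟨-, r⟩ <;> simp only [r]
    exacts [fun _ => trivial, h.nab j]
  obtain ⟨σ, h1, h2⟩ := h.fus' (mem_top g)
  have e1 := conj_mem_cent1.1 hg
  have e2 : σ i = i := h.col (e1 ▸ (h2 u (h.lA i hu) (e1.symm ▸ h.lA i hu) i).2 hu) hu u1
  refine ⟨σ, fun j => ?_, fun x hx r j => by
    simp only [mem_inf, hx, r, and_true, (h2 x (h.lB i hx) (h.lB i r) j).1]⟩
  rcases e j with ⟨rfl, -⟩ | ⟨r1, r⟩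
  · rw [e2]
  · rw [r, inf_eq_left.2 (h.le _ i fun k => r1 (σ.injective (k.trans e2.symm))), h1]

end CP

/-- the products of components of `a` -/
def Ws (T : Subgroup G) (B : ι → Subgroup G) (a : G) : Set G := {w | ∃ g, g * a * g⁻¹ ∈ T ∧ g * w * g⁻¹ ∈ T ∧
  ∀ j, g * w * g⁻¹ ∈ B j ∨ (g * w * g⁻¹)⁻¹ * (g * a * g⁻¹) ∈ B j}

theorem wmul (n : T ≤ N(M)) (ha : a ∈ T) (a2 : a * a = 1) (hy : y ∈ T) (h1 : x ∈ M ∨ x⁻¹ * a ∈ M)
    (h2 : y ∈ M ∨ y⁻¹ * a ∈ M) : x * y ∈ M ∨ (x * y)⁻¹ * a ∈ M := by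
  rcases h1 with h1 | h1 <;> rcases h2 with h2 | h2
  · exact .inl (mul_mem h1 h2)
  · exact .inr (by simpa [mul_assoc] using mul_mem (conj_mem_of_norm' (n hy) (inv_mem h1)) h2)
  · exact .inr (by simpa [mul_assoc] using mul_mem (inv_mem h2) h1)
  · refine .inl ?_
    convert mul_mem (conj_mem_of_norm (n ha) (inv_mem h1)) (inv_mem h2) using 1
    calc _ = x * (a * a)⁻¹ * y := by rw [a2]; group
      _ = _ := by group

theorem cjm (g x y : G) : g * (x * y) * g⁻¹ = g * x * g⁻¹ * (g * y * g⁻¹) := by group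

theorem cjd (g x a : G) : g * (x⁻¹ * a) * g⁻¹ = (g * x * g⁻¹)⁻¹ * (g * a * g⁻¹) := by group

namespace CP
variable (h : CP T ⊤ A B)
include h

theorem nB (i : ι) : T ≤ N(B i) := (h.sup i).ge.trans (sup_le (norms_of_cents (h.cm i)) le_normalizer)

theorem trW (hw : w ∈ Ws T B a) (ha : k * a * k⁻¹ ∈ T) (r : k * w * k⁻¹ ∈ T) (j : ι) :
    k * w * k⁻¹ ∈ B j ∨ (k * w * k⁻¹)⁻¹ * (k * a * k⁻¹) ∈ B j := by
  obtain ⟨g, h1, h2, h3⟩ := hw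
  obtain ⟨σ, -, e⟩ := h.tr g k
  obtain ⟨j, rfl⟩ := σ.surjective j
  exact (h3 j).imp (e w h2 r j).1.1 fun x => cjd k w a ▸ (e _ (cjd g w a ▸ mul_mem (inv_mem h2) h1)
    (cjd k w a ▸ mul_mem (inv_mem r) ha) j).1.1 (cjd g w a ▸ x)

theorem sqW (a2 : a * a = 1) (hw : w ∈ Ws T B a) : w * w = 1 := by
  obtain ⟨g, h1, h2, h3⟩ := hw
  have : g * w * g⁻¹ * (g * w * g⁻¹) = 1 := h.top (mul_mem h2 h2) fun j => (h3 j).elim (fun r => mul_mem r r) fun r => by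
    convert mul_mem (conj_mem_of_norm (h.nB j h1) (inv_mem r)) (inv_mem r) using 1
    calc _ = g * w * (a * a)⁻¹ * w * g⁻¹ := by rw [a2]; group
      _ = _ := by group
  simpa [mul_assoc] using conj_sq this g⁻¹

theorem sxW (ha : a ∈ T) (a2 : a * a = 1) : SX (Ws T B a) C[a] := by
  refine ⟨⟨1, by simpa using ha, by simp, by simp⟩, fun x hx => piG_zpowers.1 (pg_zpowers (h.sqW a2 hx)),
    fun x ⟨k, h1, h2, h3⟩ g hg => ⟨k * g⁻¹, ?_⟩, fun P hP c x x1 x2 y y1 y2 => ?_⟩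
  · rw [← conj_mem_cent1.1 hg]
    simp only [cjj]
    exact ⟨h1, h2, h3⟩
  obtain ⟨k, e⟩ := h.exG ((pg_zpowers a2).sup hP (c.trans (cent1_le_norm_zpowers a)))
  have k0 := e a (mem_sup_left (mem_zpowers a)) 1 (by simpa using ha)
  have k1 := let ⟨g, _, r, _⟩ := x1; e x (mem_sup_right x2) g r
  have k2 := let ⟨g, _, r, _⟩ := y1; e y (mem_sup_right y2) g r
  refine ⟨k, k0, ?_⟩
  rw [cjm]
  exact ⟨mul_mem k1 k2, fun j => wmul (h.nB j) k0 (conj_sq a2 k) k2 (h.trW x1 k0 k1 j) (h.trW y1 k0 k2 j)⟩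

theorem cA (hb : s⁻¹ * a ∈ B i) (hx : x ∈ A i) (e : x * s = s * x) : x ∈ C[a] := by
  have := mul_mem (mem_cent1_symm.1 (mem_cent1.2 e)) (h.cB hx hb)
  rwa [mul_inv_cancel_left, mem_cent1_symm] at this

theorem cpt (hs : s ∈ A i) (hb : s⁻¹ * a ∈ B i) (hg : g ∈ C[a]) (h1 : k * a * k⁻¹ ∈ T)
    (h2 : k * (g * s * g⁻¹) * k⁻¹ ∈ T) : ∃ j, (k * (g * s * g⁻¹) * k⁻¹)⁻¹ * (k * a * k⁻¹) ∈ B j ∧
      ∀ t ∈ A i, k * (g * t * g⁻¹) * k⁻¹ ∈ T → k * (g * t * g⁻¹) * k⁻¹ ∈ A j := by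
  obtain ⟨σ, -, e⟩ := h.fus' (mem_top (k * g))
  simp only [← conj_conj'] at e
  have e1 : k * (g * (s⁻¹ * a) * g⁻¹) * k⁻¹ = (k * (g * s * g⁻¹) * k⁻¹)⁻¹ * (k * a * k⁻¹) := by
    rw [cjd, conj_mem_cent1.1 hg, cjd]
  exact ⟨σ i, e1 ▸ (e _ (h.lB i hb) (e1 ▸ mul_mem (inv_mem h2) h1) i).1.1 hb,
    fun t ht r => (e t (h.lA i ht) r i).2 ht⟩

theorem iso (ha : a ∈ T) (a2 : a * a = 1) (hs : s ∈ A i) (hb : s⁻¹ * a ∈ B i) (s1 : s ≠ 1) :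
    ∃ L, L ⊴ C[a] ∧ s ∈ L ∧ ⁅L, zpowers s⁆ ≤ O(C[a]) ∧ ∀ g ∈ C[a], ∃ c ∈ L, c * g * s * (c * g)⁻¹ ∈ T := by
  have sx := h.sxW ha a2
  have n := sx.K_normal'
  have sa := h.cA hb hs rfl
  have sW : s ∈ Ws T B a := ⟨1, by simpa using ha, by simpa using h.lA i hs, fun j => by
    by_cases r : i = j
    exacts [.inr (by simpa using r ▸ hb), .inl (by simpa using h.le i j r hs)]⟩
  have sK := mem_K sW sa
  obtain ⟨P, hP, l⟩ := (h.scl.pg.infl C[a]).exists_syl inf_le_right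
  have P0 := hP.inf_normal n
  obtain ⟨k1, e1⟩ := h.exG hP.pi
  have c1 : ∀ x ∈ T, x ∈ C[a] → k1 * x * k1⁻¹ ∈ T := fun x a b => e1 x (l ⟨a, b⟩) 1 (by simpa using a)
  have a1 := c1 a ha (mem_cent1_self a)
  have iv : ∀ g : G, ∀ x ∈ A i, g⁻¹ * (g * x * g⁻¹) * g⁻¹⁻¹ ∈ T := fun g x hx => by simpa [mul_assoc] using h.lA i hx
  refine ⟨_, n, sK, (Hub0.zs P0 ⟨l ⟨h.lA i hs, sa⟩, sK⟩ fun g hg r => by_contra fun ne => ?_).trans (Oc_le_Oc n),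
    fun g hg => ?_⟩
  · obtain ⟨t, ht, t2, t1, ts, e⟩ := h.four hs s1
    have ta := h.cA hb ht e
    have key : ∀ {k c}, c ∈ C[a] → c * g * s * (c * g)⁻¹ = g * s * g⁻¹ → k * a * k⁻¹ ∈ T → k * s * k⁻¹ ∈ T →
        k * (g * s * g⁻¹) * k⁻¹ ∈ T → ∃ j, (k * s * k⁻¹)⁻¹ * (k * a * k⁻¹) ∈ B j ∧
        (∀ t ∈ A i, k * t * k⁻¹ ∈ T → k * t * k⁻¹ ∈ A j) ∧ ∀ t ∈ A i, k * (c * g * t * (c * g)⁻¹) * k⁻¹ ∈ T →
          k * (c * g * t * (c * g)⁻¹) * k⁻¹ ∈ B j := fun {k c} hc ec r0 r1 r2 => by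
      obtain ⟨j, b1, b2⟩ := h.cpt hs hb (one_mem _) r0 (by simpa using r1)
      obtain ⟨j', b3, b4⟩ := h.cpt hs hb (mul_mem hc (n.le hg)) r0 (ec ▸ r2)
      simp only [one_mul, inv_one, mul_one] at b1 b2
      refine ⟨j, b1, b2, fun t ht r => h.le j' j (fun e => ne ?_) (b4 t ht r)⟩
      have := h.uq (b4 s hs (ec ▸ r2)) b3 (e ▸ b2 s hs r1) (e ▸ b1)
      rwa [ec, mul_left_inj, mul_right_inj] at this
    obtain ⟨j, -, b1, b2⟩ := key (one_mem _) (by rw [one_mul]) a1 (c1 s (h.lA i hs) sa) (e1 _ r.1 _ (iv g s hs))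
    have b3 := b2 s hs (by rw [one_mul]; exact e1 _ r.1 _ (iv g s hs))
    rw [one_mul] at b3
    have cs : ∀ x ∈ A i, x ∈ C[a] → x ∈ C[g * s * g⁻¹] := fun x h1 h2 =>
      mem_cent1.2 (cmj (h.cm j (b1 x h1 (c1 x (h.lA i h1) h2)) _ b3).symm)
    have nt : zpowers t ≤ N(K (Ws T B a) C[a] ⊓ C[g * s * g⁻¹]) :=
      norms_inf ((zpowers_le' ta).trans n.norm) (norms_of_le (zpowers_le' (cs t ht ta)))
    have s2 := h.sqW a2 sW
    obtain ⟨Q, hQ, lQ⟩ := ((pg_zpowers s2).sup (pg_zpowers t2) (zpowers_le' (cent1_le_norm_zpowers s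
      (mem_cent1.2 e)))).exists_syl (sup_le_sup_right (zpowers_le' (H := K (Ws T B a) C[a] ⊓ C[g * s * g⁻¹])
        ⟨sK, cs s hs sa⟩) _)
    have lY := hQ.le.trans (sup_le (inf_le_inf_right _ n.le) (zpowers_le' ⟨ta, cs t ht ta⟩))
    have tQ := lQ (mem_sup_right (mem_zpowers t))
    have tK : ∀ {x}, x ∈ K (Ws T B a) C[a] → x * t * x⁻¹ * t⁻¹ ∈ K (Ws T B a) C[a] := fun hx =>
      n.commg_le (zpowers_le' ta) (comm_mem hx (mem_zpowers t))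
    obtain ⟨c, hc, ec⟩ := scj_nrm hQ (zpowers_le' tQ) nt (R := zpowers (g * t * g⁻¹)) (zpowers_le' (by
      simpa using mul_mem (mem_sup_left (mem_inf.2 ⟨tK hg, mul_mem (cent_conj (mem_cent1.2 e) g)
        (inv_mem (cs t ht ta))⟩)) (mem_sup_right (mem_zpowers t)))) (pg_zpowers (conj_sq t2 g))
    obtain ⟨S, hS, lS⟩ := hQ.pi.exists_syl (lY.trans inf_le_left)
    obtain ⟨k, e2⟩ := h.exG hS.pi
    have q1 := hQ.le_of_norm' (zpowers_le' (mem_sup_left ⟨r.2, mem_cent1_self _⟩)) (pg_zpowers (conj_sq s2 g))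
      ((lY.trans inf_le_right).trans (cent1_le_norm_zpowers _)) (mem_zpowers _)
    have q2 : c * g * t * (c * g)⁻¹ ∈ Q := conj_conj' c g t ▸ ec (conj_mem_cj.2 (mem_zpowers _))
    have k0 := e2 a (H25.PF.mem_syl_cent hS a2) 1 (by simpa using ha)
    obtain ⟨j, b1, b2, b3⟩ := key (n.le hc.1) (by rw [← conj_conj', mem_cent1.1 hc.2, mul_inv_cancel_right]) k0
      (e2 s (lS (lQ (mem_sup_left (mem_zpowers s)))) 1 (by simpa using h.lA i hs)) (e2 _ (lS q1) _ (iv g s hs))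
    have b4 := b3 t ht (e2 _ (lS q2) _ (iv _ t ht))
    have b5 := b2 t ht (e2 t (lS tQ) 1 (by simpa using h.lA i ht))
    have e3 := inv_eq_of_mul_eq_one_right t2
    have y := sx.memP hS.pi hS.le (inv_Kc (sx.scl hS) (abelem_of_sq fun x hx => h.sqW a2 (sx.memP hS.pi hS.le hx))
      hS K_le ⟨lS (mul_mem q2 tQ), (sx.Kc_eq hS).ge (by simpa only [e3] using tK (mul_mem hc.1 hg))⟩
      (H3.ZD.sq_mul_comm (conj_sq t2 _) t2 (cmj (h.cm j b5 _ b4))))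
    rcases h.trW y k0 (cjm k _ t ▸ mul_mem (h.lB j b4) (h.lA j b5)) j with r | r <;> rw [cjm] at r
    · exact t1 (by simpa using h.one b5 ((mul_mem_cancel_left b4).1 r))
    · rw [h.cm j b5 _ b4, mul_inv_rev, mul_assoc, mul_mem_cancel_left (inv_mem b4)] at r
      exact ts (by simpa using h.uq b5 r (b2 s hs (e2 s (lS (lQ (mem_sup_left (mem_zpowers s)))) 1
        (by simpa using h.lA i hs))) b1)
  · obtain ⟨c, hc, e⟩ := P0.scj_le (zpowers_le' (n.conj_mem hg sK)) (piG_zpowers.2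
      ((h.scl.pg.elt (h.lA i hs)).e_conj g))
    have r := (e (conj_mem_cj.2 (mem_zpowers _))).1
    rw [conj_conj'] at r
    have r1 := e1 _ r _ (iv _ s hs)
    obtain ⟨j, b1, b2⟩ := h.cpt hs hb (mul_mem (n.le hc) hg) a1 r1
    obtain ⟨σ, -, e2⟩ := h.fus' (mem_top k1)
    obtain ⟨j, rfl⟩ := σ.surjective j
    obtain ⟨x, x1, x2⟩ := h.dec ha j
    have x3 := c1 x (h.lA j x1) (h.cA x2 x1 rfl)
    have := h.uq (b2 s hs r1) b1 ((e2 x (h.lA j x1) x3 j).2 x1) (cjd k1 x a ▸ (e2 _ (h.lB j x2)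
      (cjd k1 x a ▸ mul_mem (inv_mem x3) a1) j).1.1 x2)
    exact ⟨c, hc, (by simpa using this : c * g * s * (c * g)⁻¹ = x) ▸ h.lA j x1⟩

end CP

open H25.GF in
theorem cs_sf (h : CS U V) (h' : CS V U) (h8 : 8 ≤ #(U ⊔ V :)) : ∃ W, OG W ∧
    ∀ u ∈ U, u ≠ 1 → ∀ w ∈ V, w ≠ 1 → W ⊓ C[u] = ph u w ∧ W ⊓ C[w] = ph w u ∧ U ⊔ V ≤ N(W) := by
  have key : ∀ {U V : Subgroup G}, CS U V → CS V U → ∀ u ∈ U, u ≠ 1 → ∀ w ∈ V, w ≠ 1 →
      th U u ⊓ th V u = ph u w := fun {U V} h h' u hu u1 w hw w1 => by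
    have m := h.main h'
    have u0 := mem_sup_left (T := V) hu
    have w0 := mem_sup_right (S := U) hw
    have l : th U u ⊓ th V u ≤ O(C[u]) := inf_le_left.trans (h.th_le u0)
    refine le_antisymm (H25.PF.dec ((O_og _).of_le l) (h.pg.of_le (zpowers_le' w0)) (zpowers_le'
      (mem_norm_of_cj_le fun x hx => let ⟨y, hy, e⟩ := mem_cj'.1 hx; e ▸ m.2.2.1 u u0 u1 w w0 y hy))
      ((commutator_mono l le_rfl).trans le_sup_left) ((le_inf (inf_le_left.trans l) ?_).trans le_sup_right))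
      (le_inf ((H25.PF.ph_le (h.cen u0 w0)).trans (H25.PF.dec (O_og _) (h.pg.of_le le_sup_left)
        (le_sup_left.trans (h.nO u0)) le_sup_left ((le_inf inf_le_left (O_inf_le (cent_le_cent1 hu))).trans
          le_sup_right))) (sup_le ((commutator_mono le_rfl (zpowers_le' hw)).trans le_sup_left)
        (H25.PF.dec ((O_og _).infl _) (h.pg.of_le le_sup_right) (le_sup_right.trans (norms_inf (h.nO u0) (h.nO w0)))
          ((commutator_mono inf_le_left le_rfl).trans le_sup_left) ((le_inf (inf_le_left.trans inf_le_left)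
            ((inf_le_inf_right _ inf_le_right).trans (O_inf_le (cent_le_cent1 hw)))).trans le_sup_right))))
    rw [cent_zpowers]
    exact (m.2.2.2 u u0 u1 w w0 w1).trans (inf_le_left.trans (h.th_le w0))
  have m := h.main h'
  have n : ∀ a ∈ U ⊔ V, U ⊔ V ≤ N(th U a ⊓ th V a) := fun a ha =>
    norms_inf (h.th_norm ha) (sup_comm U V ▸ h'.th_norm (sup_comm U V ▸ ha))
  obtain ⟨W, w1, w2, w3⟩ := HubSF.out (abelem_of_sq fun x hx => by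
      by_cases e : x = 1
      exacts [by rw [e, one_mul], mul_self_of_ord2 (h.sq x hx e)]) h8 (fun a => th U a ⊓ th V a) m.1
    (fun a ha _ => (O_og _).of_le (inf_le_left.trans (h.th_le ha))) (fun a ha _ => n a ha) m.2.2.2
  refine ⟨W, w1, fun u hu u1 w hw w1 => ⟨(w2 u (mem_sup_left hu) u1).trans (key h h' u hu u1 w hw w1),
    (w2 w (mem_sup_right hw) w1).trans ((inf_comm _ _).trans (key h' h w hw w1 u hu u1)),
    fun g hg => mem_norm_of_le_cj (w3 _ fun a ha a1 => ?_)⟩⟩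
  rw [← cj_of_mem_norm (n a ha hg), ← w2 a ha a1]
  exact cj_mono g inf_le_left

/-- the inductive hypothesis -/
def IH (A B : ι → Subgroup G) : Prop := ∀ u i, u ∈ A i → u ≠ 1 → ∀ j, SCl (B j ⊓ B i) (Ku A B u)

namespace CP
variable (h : CP T ⊤ A B)
include h

theorem nA' (i : ι) : T ≤ N(A i) := (h.sup i).ge.trans (sup_le le_normalizer (h.nA i))

theorem cs (hs : s ∈ A i) (hb : s⁻¹ * a ∈ B i) (hx : x ∈ T) (e : x ∈ C[a]) : x ∈ C[s] :=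
  conj_mem_cent1.2 (h.uq (conj_mem_of_norm (h.nA' i hx) hs) (by
    rw [← conj_mem_cent1.1 e, ← cjd]; exact conj_mem_of_norm (h.nB i hx) hb) hs hb)

theorem comp (ha : a ∈ T) (a2 : a * a = 1) (a1 : a ≠ 1) : ∃ j, ∃ s ∈ A j, s⁻¹ * a ∈ B j ∧ s ≠ 1 ∧ s * s = 1 := by
  obtain ⟨j, hj⟩ := not_forall.1 (mt (h.top ha) a1)
  obtain ⟨s, h1, h2⟩ := h.dec ha j
  refine ⟨j, s, h1, h2, fun e => hj (by simpa [e] using h2), h.one (mul_mem h1 h1) ?_⟩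
  convert mul_mem (conj_mem_of_norm (h.nB j ha) (inv_mem h2)) (inv_mem h2) using 1
  calc _ = s * (a * a)⁻¹ * s := by rw [a2]; group
    _ = _ := by group

theorem four' (hu : u ∈ A i) (u2 : u * u = 1) (u1 : u ≠ 1) : ∃ U, El 2 2 U (A i) ∧ u ∈ U := by
  obtain ⟨t, ht, t2, t1, e1, e2⟩ := h.four hu u1
  exact ⟨_, (el1_zpowers Nat.prime_two ht (ord2_of t2 t1)).sup2 (el1_zpowers Nat.prime_two hu (ord2_of u2 u1))
    (by rw [cent_zpowers]; exact zpowers_le' (mem_cent1.2 e2)) fun k => e1 (zp_inj t2 u1 k),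
    mem_sup_right (mem_zpowers u)⟩

theorem nic (hu : u ∈ A i) (u1 : u ≠ 1) {X : Set G} (k : ∀ x ∈ A i, x ∈ X ∧ x ∈ P) : ¬ H25.PF.IC X P := fun c => by
  have : ∀ x ∈ A i, x * x = 1 → A i ≤ C[x] := fun x hx x2 => (h.gi i).trans ((closure_le _).2 fun y hy => by
    by_cases e : x = 1
    · simp [e]
    by_cases e' : y = 1
    · simp [e']
    exact mem_cent1.2 (c y (k y hy.1).1 (k y hy.1).2 (ord2_of hy.2 e') x (k x hx).1 (k x hx).2 (ord2_of x2 e)))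
  exact u1 (mem_bot.1 ((h.nab i ((h.gi i).trans ((closure_le _).2 fun x hx =>
    le_cent1_iff.1 (this x hx.1 hx.2)))).le hu))

theorem gen' (hu : u ∈ A i) (u1 : u ≠ 1)
    (k : ∀ i, ∀ u ∈ A i, u * u = 1 → u ≠ 1 → ∀ g, g * u * g⁻¹ ∈ T → g ∈ M) : M = ⊤ := by
  obtain ⟨S, hS, l⟩ := h.scl.pg.exists_syl le_top
  have c : ∀ i, ∀ u ∈ A i, u * u = 1 → u ≠ 1 → C[u] ≤ M := fun i u hu u2 u1 g hg =>
    k i u hu u2 u1 g ((conj_mem_cent1.1 hg).symm ▸ h.lA i hu)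
  refine by_contra fun e => h.nic hu u1 (fun x hx => ⟨H25.PF.mem_cl (h.lA i hx), l (h.lA i hx)⟩)
    ((H25.PF.sx_cl h.scl).zd_top hS (fun g hg => ?_) (fun a a1 a2 a3 g hg => ?_) e)
  · obtain ⟨t, ht, t2, t1, -⟩ := h.four hu u1
    exact k i t ht t2 t1 g (h.scl.cl S hS.pi l t (h.lA i ht) g trivial (conj_mem_of_norm hg (l (h.lA i ht))))
  have ha := H25.PF.mem_of_cl h.scl hS.pi l a1 a2
  obtain ⟨j, s, s1, s2, s3, s4⟩ := h.comp ha (mul_self_of_ord2 a3) (ne_one_of_ord2 a3)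
  obtain ⟨L, n, -, h1, h2⟩ := h.iso ha (mul_self_of_ord2 a3) s1 s2 s3
  obtain ⟨x, hx, r⟩ := h2 g hg
  obtain ⟨U, hU, u0⟩ := h.four' s1 s4 s3
  refine (mul_mem_cancel_left ((le_sup_cent_of_commg_le ((zpowers_le' (h.cA s2 s1 rfl)).trans (Oc_norm _ _))
    ((O_og _).cop (pg_zpowers s4)) (sol_pg (pg_zpowers s4)) h1).trans (sup_le (le_of_four hU (O_og _)
      (fun y hy => Oc_norm _ _ (h.cA s2 (hU.le hy) (ab_comm hU.ab hy u0))) fun d hd d1 =>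
        inf_le_right.trans (c j d (hU.le hd) (sq_one hU.ab hd) d1)) (inf_le_right.trans
          ((cent_zpowers s).le.trans (c j s s1 s4 s3)))) hx)).1 (k j s s1 s4 s3 _ r)

theorem nK (hu : u ∈ A i) (u1 : u ≠ 1) : Ku A B u ⊴ C[u] := (h.pf hu u1).y.K_normal'

theorem LL (ih : IH A B) (hu : u ∈ A i) (u1 : u ≠ 1) (e : j ≠ i) : SCl (A j) (Ku A B u) ∧
    ⁅Kc (A j) (Ku A B u), Kc (B j ⊓ B i) (Ku A B u)⁆ ≤ O(C[u]) := by
  have s := (h.step hu u1).sclA K_le (h.lK hu u1) (ih u i hu u1) j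
  rw [inf_eq_left.2 (h.le j i e)] at s
  obtain ⟨S, hS, l⟩ := (h.scl.pg.of_le (h.lB i)).exists_syl (h.lK hu u1)
  have := H25.PF.scl_main s (ih u i hu u1 j) hS ((h.le j i e).trans l) (inf_le_right.trans l)
    ((h.cm j).trans (cent_mono inf_le_left))
  rw [← inf_assoc, h.dj, bot_inf_eq] at this
  exact ⟨s, this.trans (sup_le (by simp [Kc]) (Oc_le_Oc (h.nK hu u1)))⟩

open H1 in
theorem sepK (ih : IH A B) (ha : a ∈ T) (a2 : a * a = 1) (a1 : a ≠ 1) (hJ : PC 2 J C[a]) (hU : U ≤ A i ⊓ C[a])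
    (hV : V ≤ B i ⊓ C[a]) : U ≤ H1.cm 2 C[a] J ∨ V ≤ H1.cm 2 C[a] J := by
  obtain ⟨j, s, s1, s2, s3, s4⟩ := h.comp ha a2 a1
  obtain ⟨L, n, sL, h1, -⟩ := h.iso ha a2 s1 s2 s3
  obtain ⟨p, cv⟩ := hJ.cent1 ((hJ.le_or_cm (NormalIn.subn n)).elim (fun r => zpowers_le.1 (le_cm hJ.le
    (zpowers_le' (n.le sL)) ((commutator_mono r le_rfl).trans h1))) fun r => r sL) (ord2_of s4 s3)
  generalize Lp 2 (J ⊓ C[s]) = J' at p cv
  have up : ∀ {X}, X ≤ H1.cm 2 (C[a] ⊓ C[s]) J' → X ≤ H1.cm 2 C[a] J := fun r => cv.le_cm hJ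
    ((r.trans (cm_le _ _)).trans inf_le_left) ((p.commg_le_Oc r).trans (cv.Oc_le.trans hJ.Oc_le))
  have c : ∀ {x}, x ∈ T → x ∈ C[a] → x ∈ C[a] ⊓ C[s] := fun r1 r2 => ⟨r2, h.cs s1 s2 r1 r2⟩
  have alt : ∀ {N N' x}, J' ≤ N → ⁅N, N'⁆ ≤ O(C[s]) → x ∈ N' → x ∈ T → x ∈ C[a] → x ∈ H1.cm 2 C[a] J :=
    fun r1 r2 r3 r4 r5 => zpowers_le.1 (up (le_cm p.le (zpowers_le' (c r4 r5)) ((le_inf ((commutator_mono r1
      (zpowers_le' r3)).trans r2) (commg_le_of_le p.le (zpowers_le' (c r4 r5)))).trans (O_inf_le inf_le_right))))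
  have or : ∀ {N}, SubnIn N C[s] → U ≤ N → J' ≤ N ∨ U ≤ H1.cm 2 C[a] J := fun {N} r1 r2 =>
    (p.le_or_cm (by simpa only [inf_eq_right.2 (inf_le_right (a := C[a]))] using r1.inf_right (C[a] ⊓ C[s]))).imp
      (fun r => r.trans inf_le_left) fun r => up ((le_inf r2 fun x hx => c (h.lA i (hU hx).1) (hU hx).2).trans r)
  by_cases e : i = j
  · subst e
    exact (or (NormalIn.subn (h.pf s1 s3).x.K_normal') fun x hx => mem_K (mem_Xs s1 (hU hx).1)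
      (c (h.lA i (hU hx).1) (hU hx).2).2).symm.imp_right fun r v hv =>
        alt r (h.XY s1 s3) (h.lK s1 s3 (hV hv).1) (h.lB i (hV hv).1) (hV hv).2
  obtain ⟨k1, k2⟩ := h.LL ih s1 s3 e
  refine (or ((NormalIn.subn (Kc_normal k1.le)).trans (NormalIn.subn (h.nK s1 s3)))
    ((hU.trans inf_le_left).trans le_Kc)).symm.imp_right fun r v hv => ?_
  obtain ⟨x, x1, x2⟩ := h.dec (h.lB i (hV hv).1) j
  have x3 := mem_cent1_symm.1 (h.cs x1 x2 ha (mem_cent1_symm.1 (hV hv).2))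
  simpa using mul_mem (alt (r.trans (Kc_le k1.le)) (commg_comm _ (Ku A B s) ▸ h.XY s1 s3)
    (mem_K (mem_Xs s1 x1) (c (h.lA j x1) x3).2) (h.lA j x1) x3) (alt r k2 (le_Kc (mem_inf.2 ⟨mul_mem
      (inv_mem (h.le j i (Ne.symm e) x1)) (hV hv).1, x2⟩)) (h.lB j x2) (mul_mem (inv_mem x3) (hV hv).2))

theorem sf (ih : IH A B) (hU : El 2 2 U (A i)) (hV : El 2 2 V (B i)) : ∃ W, OG W ∧
    ∀ u ∈ U, u ≠ 1 → ∀ w ∈ V, w ≠ 1 → W ⊓ C[u] = ph u w ∧ W ⊓ C[w] = ph w u ∧ U ⊔ V ≤ N(W) := by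
  have c : U ≤ C(V) := cents_mono (h.cm i) hU.le hV.le
  have ab := abelem_sup hU.ab hV.ab c
  have s := fun a (ha : a ∈ U ⊔ V) a1 J hJ => h.sepK (J := J) ih (sup_le (hU.le.trans (h.lA i))
    (hV.le.trans (h.lB i)) ha) (sq_one ab ha) a1 hJ (le_inf hU.le (le_sup_left.trans (ab_cent1 ab ha)))
      (le_inf hV.le (le_sup_right.trans (ab_cent1 ab ha)))
  refine cs_sf ⟨fun a ha => ord2 ab ha, ab.1, hU.not_cyc, s⟩ ⟨fun a ha => ord2 ab (sup_comm U V ▸ ha),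
    sup_comm U V ▸ ab.1, hV.not_cyc, fun a ha a1 J hJ => (s a (sup_comm U V ▸ ha) a1 J hJ).symm⟩ ?_
  rw [card_sup_of_disjoint (norms_of_cents (cents_symm c)) (H19.eq_bot_mono (inf_le_inf hU.le hV.le) (h.dj i)),
    hU.card, hV.card]
  norm_num

end CP

/-- the signalizer of a pure involution -/
def Fi (A B : ι → Subgroup G) (u : G) : Subgroup G := ⨆ (w : G) (_ : w ∈ Ys A B u ∧ w * w = 1 ∧ w ≠ 1), ph u w

/-- the join of the signalizers over a four-group -/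
def WU (A B : ι → Subgroup G) (U : Subgroup G) : Subgroup G := ⨆ (u : G) (_ : u ∈ U ∧ u ≠ 1), Fi A B u

theorem le_Fi (h1 : w ∈ Ys A B u) (h2 : w * w = 1) (h3 : w ≠ 1) : ph u w ≤ Fi A B u :=
  le_iSup₂_of_le (f := fun w (_ : w ∈ Ys A B u ∧ w * w = 1 ∧ w ≠ 1) => ph u w) w ⟨h1, h2, h3⟩ le_rfl

theorem le_WU (h1 : u ∈ U) (h2 : u ≠ 1) : Fi A B u ≤ WU A B U :=
  le_iSup₂_of_le (f := fun u (_ : u ∈ U ∧ u ≠ 1) => Fi A B u) u ⟨h1, h2⟩ le_rfl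

theorem cj_WU (g : G) (U : Subgroup G) : cj g (WU A B U) ≤ WU A B (cj g U) :=
  cj_le_iff.2 (iSup₂_le fun u hu => iSup₂_le fun w hw => cj_le_iff.1 (by
    rw [H25.PF.cj_ph]
    exact (le_Fi (Ys_conj hw.1 g) (conj_sq hw.2.1 g) (by simpa using hw.2.2)).trans
      (le_WU (conj_mem_cj.2 hu.1) (by simpa using hu.2))))

theorem ci (ho : OG O) (h : ⁅X, zpowers y⁆ ≤ O) (y2 : y * y = 1) (hy : y ∈ C(O)) : y ∈ C(X) := fun x hx => by
  have k := h (comm_mem hx (mem_zpowers y))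
  have := ho.eq_one k (by
    calc _ = x * y * x⁻¹ * y⁻¹ * (x * y * x⁻¹ * y⁻¹ * y) * y⁻¹ := by group
      _ = x * (y * y) * x⁻¹ * (y * y)⁻¹ := by rw [hy _ k]; group
      _ = 1 := by rw [y2]; group)
  rwa [mul_inv_eq_one, mul_inv_eq_iff_eq_mul] at this

namespace CP
variable (h : CP T ⊤ A B)
include h

theorem mv (hz : z ∈ A j) (z1 : z ≠ 1) (hn : n * z * n⁻¹ ∈ A i) (h1 : B i ≤ D) (h2 : D ≤ C[n * z * n⁻¹])
    (h3 : cj n (B j) ≤ D) : ∃ c ∈ D, cj (c * n) (B j) ≤ B i := by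
  obtain ⟨P, hP, l⟩ := (h.scl.pg.of_le (h.lB i)).exists_syl h1
  obtain ⟨c, hc, e⟩ := hP.scj_le h3 ((h.scl.pg.of_le (h.lB j)).J n)
  refine ⟨c, hc, cj_le_iff.2 fun y hy => mem_cj_inv.2 ((h.KY hn (by simpa using z1) hP.pi l (hP.le.trans h2)).le
    (mem_K ?_ (conj_conj' c n y ▸ e (conj_mem_cj.2 (conj_mem_cj.2 hy)))))⟩
  have := Ys_conj (mem_Ys hz hy) (c * n)
  rwa [← conj_conj' c n z, conj_mem_cent1.1 (h2 hc)] at this

theorem mv' (hz : z ∈ A j) (z1 : z ≠ 1) (hn : n * z * n⁻¹ ∈ A i) :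
    ∃ c ∈ Ku A B (n * z * n⁻¹), cj (c * n) (B j) ≤ B i :=
  h.mv hz z1 hn (h.lK hn (by simpa using z1)) K_le (cj_Ku (A := A) (B := B) n z ▸ cj_mono n (h.lK hz z1))

theorem zB (hw : w ∈ X) (w1 : w ≠ 1) (l : X ≤ T) : ∃ z ∈ X, z * z = 1 ∧ z ≠ 1 ∧ z ∈ C(X) :=
  have p := h.scl.pg.of_le l
  let ⟨z, hz, z2⟩ := exists_inv_pg (p.infl C(X)) (nil_center_ne_bot p.nil (ne_bot_of_mem hw w1))
  ⟨z, hz.1, mul_self_of_ord2 z2, ne_one_of_ord2 z2, hz.2⟩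

theorem giB (k : ∀ y ∈ B i, y * y = 1 → y ∈ M) : B i ≤ M :=
  h.Bgen fun j e => (h.gi j).trans ((closure_le _).2 fun y hy => k y (h.le j i e hy.1) hy.2)

variable (ih : IH A B)
include ih

theorem ph_eq (hu : u ∈ A i) (u2 : u * u = 1) (u1 : u ≠ 1) (hv : v ∈ B i) (v2 : v * v = 1) (v1 : v ≠ 1)
    (hw : w ∈ B i) (w2 : w * w = 1) (w1 : w ≠ 1) : ph u v = ph u w := by
  obtain ⟨U, hU, u0⟩ := h.four' hu u2 u1
  obtain ⟨z, hz, z2, z1, c⟩ := h.zB hw w1 (h.lB i)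
  have key : ∀ v ∈ B i, v * v = 1 → v ≠ 1 → ph u v = ph u z := fun v hv v2 v1 => by
    by_cases e : v = z
    · rw [e]
    obtain ⟨W, -, k⟩ := h.sf ih hU ((el1_zpowers Nat.prime_two hv (ord2_of v2 v1)).sup2 (el1_zpowers Nat.prime_two hz
      (ord2_of z2 z1)) (by rw [cent_zpowers]; exact zpowers_le' (mem_cent1.2 (c v hv))) fun k => e (zp_inj v2 z1 k))
    exact (k u u0 u1 v (mem_sup_left (mem_zpowers v)) v1).1.symm.trans (k u u0 u1 z (mem_sup_right (mem_zpowers z)) z1).1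
  rw [key v hv v2 v1, key w hw w2 w1]

theorem Fi_eq (hu : u ∈ A i) (u2 : u * u = 1) (u1 : u ≠ 1) (hw : w ∈ B i) (w2 : w * w = 1) (w1 : w ≠ 1) :
    Fi A B u = ph u w := by
  obtain ⟨P, hP, l⟩ := (h.scl.pg.of_le (h.lB i)).exists_syl (h.cB hu)
  have m : ∀ {y}, y ∈ Ys A B u → y ∈ P → y ∈ B i := fun r1 r2 => (h.KY hu u1 hP.pi l hP.le).le (mem_K r1 r2)
  obtain ⟨j, s, s1, s2, s3, -⟩ := h.comp (h.lB i hw) w2 w1
  have e : j ≠ i := fun e => s3 (h.one s1 (inv_mem_iff.1 ((mul_mem_cancel_right (e ▸ hw)).1 s2)))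
  have n := (h.pf hu u1).y.zd_fun hP (h.nic s1 s3 fun x hx => ⟨mem_Ys hu (h.le j i e hx), l (h.le j i e hx)⟩) (ph u)
    (fun g hg s => by rw [H25.PF.cj_ph, conj_mem_cent1.1 hg]) (fun s s1 s2 s3 t t1 t2 t3 _ => h.ph_eq ih hu u2 u1
      (m s1 s2) (mul_self_of_ord2 s3) (ne_one_of_ord2 s3) (m t1 t2) (mul_self_of_ord2 t3) (ne_one_of_ord2 t3))
    (mem_Ys hu hw) (l hw) (ord2_of w2 w1)
  refine le_antisymm (iSup₂_le fun y ⟨y1, y2, y3⟩ => ?_) (le_Fi (mem_Ys hu hw) w2 w1)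
  obtain ⟨c, hc, r⟩ := (h.pf hu u1).y.exists_conj hP y1 (let ⟨_, j, a, b⟩ := y1; mem_cent1.2 (cmj (h.cm j a _ b)))
  rw [← cj_le_cj (g := c), cj_of_mem_norm (n hc), H25.PF.cj_ph, conj_mem_cent1.1 hc]
  exact (h.ph_eq ih hu u2 u1 (m ((h.pf hu u1).y.conj y y1 c hc) r) (conj_sq y2 c) (by simpa using y3) hw w2 w1).le

theorem WU_eq' (hU : El 2 2 U (A i)) (hV : El 2 2 V (A j)) (e : j ≠ i) : OG (WU A B U) ∧ WU A B U = WU A B V := by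
  obtain ⟨W, w1, k⟩ := h.sf ih hU (hV.mono (h.le j i e))
  obtain ⟨u, hu, u1⟩ := exists_ne_one hU.ne_bot
  obtain ⟨v, hv, v1⟩ := exists_ne_one hV.ne_bot
  have n := (k u hu u1 v hv v1).2.2
  have k1 : ∀ u ∈ U, u ≠ 1 → W ⊓ C[u] = Fi A B u := fun u hu u1 => (k u hu u1 v hv v1).1.trans
    (h.Fi_eq ih (hU.le hu) (sq_one hU.ab hu) u1 (h.le j i e (hV.le hv)) (sq_one hV.ab hv) v1).symm
  have k2 : ∀ v ∈ V, v ≠ 1 → W ⊓ C[v] = Fi A B v := fun v hv v1 => (k u hu u1 v hv v1).2.1.trans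
    (h.Fi_eq ih (hV.le hv) (sq_one hV.ab hv) v1 (h.le i j e.symm (hU.le hu)) (sq_one hU.ab hu) u1).symm
  have e1 : WU A B U = W := le_antisymm (iSup₂_le fun u r => (k1 u r.1 r.2).ge.trans inf_le_left)
    (le_of_four hU w1 (le_sup_left.trans n) fun u r r' => (k1 u r r').le.trans (le_WU r r'))
  have e2 : WU A B V = W := le_antisymm (iSup₂_le fun u r => (k2 u r.1 r.2).ge.trans inf_le_left)
    (le_of_four hV w1 (le_sup_right.trans n) fun u r r' => (k2 u r r').le.trans (le_WU r r'))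
  exact ⟨e1 ▸ w1, e1.trans e2.symm⟩

variable (h3 : ∀ i j, ∃ l, l ≠ i ∧ l ≠ j ∧ ∃ u ∈ A l, u * u = 1 ∧ u ≠ 1) (h0 : O((⊤ : Subgroup G)) = ⊥)
include h3

theorem WU_eq (hU : El 2 2 U (A i)) (hV : El 2 2 V (A j)) : OG (WU A B U) ∧ WU A B U = WU A B V := by
  obtain ⟨l, e1, e2, u, hu, u2, u1⟩ := h3 i j
  obtain ⟨D, hD, -⟩ := h.four' hu u2 u1
  exact ⟨(h.WU_eq' ih hU hD e1).1, (h.WU_eq' ih hU hD e1).2.trans (h.WU_eq' ih hV hD e2).2.symm⟩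

include h0

theorem cO (hu : u ∈ A i) (u2 : u * u = 1) (u1 : u ≠ 1) : Ku A B u ≤ C(O(C[u])) := by
  obtain ⟨U, hU, u0⟩ := h.four' hu u2 u1
  have m1 : ∀ {j V g}, El 2 2 V (A j) → cj g V ≤ T → g ∈ N(WU A B U) := fun {j V g} hV r => by
    obtain ⟨σ, -, e⟩ := h.fus' (mem_top g)
    refine mem_norm_of_cj_le ?_
    rw [(h.WU_eq ih h3 hU hV).2]
    exact (cj_WU g V).trans (h.WU_eq ih h3 hV (hV.Jle g (cj_le_iff.2 fun x hx => mem_cj_inv.2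
      ((e x (h.lA j (hV.le hx)) (r (conj_mem_cj.2 hx)) j).2 (hV.le hx))))).2.ge
  have m2 : ∀ {j V}, El 2 2 V (A j) → C(V) ≤ N(WU A B U) := fun hV g hg =>
    m1 hV ((cj_of_mem_cent hg).le.trans (hV.le.trans (h.lA _)))
  have := h.gen' hu u1 (M := N(WU A B U)) fun j v hv v2 v1 g r => by
    obtain ⟨j', r, -⟩ := h.pure hv r
    have r1 : g * v * g⁻¹ ≠ 1 := by simpa using v1
    obtain ⟨c, hc, e⟩ := h.mv' hv v1 r
    obtain ⟨l, e1, e2, w, hw, w2, w1⟩ := h3 j j'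
    obtain ⟨V, hV, -⟩ := h.four' hw w2 w1
    obtain ⟨D, hD, d0⟩ := h.four' r (conj_sq v2 g) r1
    have l1 := hV.le.trans (h.le l j' e2)
    refine (mul_mem_cancel_left (((h.pf r r1).cover hD.pg (fun x hx => mem_Xs r (hD.le hx)) (ab_cent1 hD.ab d0)
      (Oc_normal _ _) (h.XY r r1)).trans (sup_le (H25.PF.dec (O_og _) hV.pg ((l1.trans (h.cB r)).trans (Oc_norm _ _))
        ((commg_le_iff.2 fun x hx y hy => ?_).trans le_normalizer) (inf_le_right.trans (m2 hV)))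
        ((K_le.trans inf_le_right).trans (m2 hD))) hc)).1
      (m1 hV ((cj_mono _ (hV.le.trans (h.le l j e1))).trans (e.trans (h.lB _))))
    by_cases y1 : y = 1
    · simp [y1]
    exact (h.WU_eq ih h3 hU hD).2.ge (le_WU d0 r1 (le_Fi (mem_Ys r (l1 hy)) (sq_one hV.ab hy) y1
      (mem_sup_left (comm_mem hx (mem_zpowers y)))))
  have b : WU A B U ≤ ⊥ := h0 ▸ le_Oc ⟨le_top, this.ge⟩ (h.WU_eq ih h3 hU hU).1
  rw [← (h.sclB hu u1).2]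
  refine Kc_cents (h.giB fun y hy y2 => ?_) (Oc_norm _ _)
  by_cases y1 : y = 1
  · exact y1 ▸ one_mem _
  exact zpowers_le.1 (cents_symm (commg_eq_bot.1 (eq_bot_iff.2 (le_sup_left.trans ((le_Fi (mem_Ys hu hy) y2 y1).trans
    ((le_WU u0 u1).trans b))))))

theorem cX (hu : u ∈ A i) (u2 : u * u = 1) (u1 : u ≠ 1) : Ku A B u ≤ C(K (Xs A u) C[u]) :=
  (h.sclB hu u1).2.ge.trans (Kc_cents (h.giB fun _ hy y2 => ci (O_og _) ((commutator_mono le_rfl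
    (zpowers_le' (h.lK hu u1 hy))).trans (h.XY hu u1)) y2 (h.cO ih h3 h0 hu u2 u1 (h.lK hu u1 hy)))
      (h.pf hu u1).x.K_normal'.norm)

theorem cL (hu : u ∈ A i) (u2 : u * u = 1) (u1 : u ≠ 1) (e : j ≠ i) :
    Kc (A j) (Ku A B u) ≤ C(Kc (B j ⊓ B i) (Ku A B u)) :=
  Kc_cents ((h.gi j).trans ((closure_le _).2 fun _ hy => ci (O_og _) ((commg_comm _ _).le.trans ((commutator_mono
    (zpowers_le' (le_Kc hy.1)) le_rfl).trans (h.LL ih hu u1 e).2)) hy.2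
      (h.cO ih h3 h0 hu u2 u1 (h.lK hu u1 (h.le j i e hy.1))))) Kc_norm

theorem Ku_eq (hu : u ∈ A i) (u2 : u * u = 1) (u1 : u ≠ 1) (hv : v ∈ A i) (v2 : v * v = 1) (v1 : v ≠ 1) :
    Ku A B u = Ku A B v := by
  have k : ∀ u ∈ A i, u * u = 1 → u ≠ 1 → ∀ v ∈ A i, v ≠ 1 → v ∈ C[u] → Ku A B u ≤ Ku A B v :=
    fun u hu u2 u1 v hv v1 c => by
      rw [← (h.sclB hv v1).2, ← (h.sclB hu u1).2, ← (h.sclB hu u1).1.Kc_Kc, (h.sclB hu u1).2]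
      exact Kc_mono le_rfl ((h.cX ih h3 h0 hu u2 u1).trans (cent_le_cent1 (mem_K (mem_Xs hu hv) c)))
  obtain ⟨z, hz, z2, z1, c⟩ := h.zB hu u1 (h.lA i)
  have k' : ∀ u ∈ A i, u * u = 1 → u ≠ 1 → Ku A B u = Ku A B z := fun u hu u2 u1 => le_antisymm
    (k u hu u2 u1 z hz z1 (cent_le_cent1 hu c)) (k z hz z2 z1 u hu u1 (mem_cent1_symm.1 (cent_le_cent1 hu c)))
  rw [k' u hu u2 u1, k' v hv v2 v1]

end CP

theorem im_Kc_top {G' : Type u} [Group G'] [Finite G'] {φ : L →* G'} (hf : Function.Surjective φ) (l : T ≤ L)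
    (e : Kc T L = L) : Kc (im φ T) ⊤ = ⊤ := by
  have := congrArg (H19.im φ) e
  rwa [Kc, im_sup (commg_le_of_le le_rfl l) l, im_comm le_rfl l, H1.im_dom hf] at this

namespace CP
section
variable (h : CP T ⊤ A B) (hK : Kc T ⊤ = ⊤)
include h hK

theorem three (ih : IH A B) (h3 : ∀ i j, ∃ l, l ≠ i ∧ l ≠ j ∧ ∃ u ∈ A l, u * u = 1 ∧ u ≠ 1)
    (h0 : O((⊤ : Subgroup G)) = ⊥) (hu : u ∈ A i) (u2 : u * u = 1) (u1 : u ≠ 1) : SCl (B i) ⊤ := by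
  let L := ⨆ (v : G) (_ : (∃ j, v ∈ A j) ∧ v * v = 1 ∧ v ≠ 1), Ku A B v
  have lL : ∀ {v j}, v ∈ A j → v * v = 1 → v ≠ 1 → Ku A B v ≤ L := fun {v j} a b c =>
    le_iSup₂_of_le (f := fun v (_ : (∃ j, v ∈ A j) ∧ v * v = 1 ∧ v ≠ 1) => Ku A B v) v ⟨⟨j, a⟩, b, c⟩ le_rfl
  have n := h.gen' hu u1 (M := N(L)) fun j v hv v2 v1 g r => by
    obtain ⟨j', r, -⟩ := h.pure hv r
    obtain ⟨c, hc, e⟩ := h.mv' hv v1 r
    have l := lL r (conj_sq v2 g) (by simpa using v1)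
    refine (mul_mem_cancel_left (le_normalizer (l hc))).1 (mem_norm_of_cj_le (cj_le_iff.2
      (iSup₂_le fun w ⟨⟨l', hw⟩, w2, w1⟩ => cj_le_iff.1 ?_)))
    by_cases e' : l' = j
    · rw [h.Ku_eq ih h3 h0 (e' ▸ hw) w2 w1 hv v2 v1, cj_mul, cj_Ku]
      exact cj_le_of_mem (l hc) l
    · obtain ⟨_, r', -⟩ := h.pure hw (h.lB _ (e (conj_mem_cj.2 (h.le l' j e' hw))))
      rw [cj_Ku]
      exact lL r' (conj_sq w2 _) fun e => w1 (conj_eq_one_iff.1 e)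
  have sub : ∀ {i j u v D M}, u ∈ A i → u ≠ 1 → SCl D (Ku A B u) → Kc D (Ku A B u) ≤ C[v] → v ∈ A j → v ≠ 1 →
      D ≤ M → M ≤ B j → Kc D (Ku A B u) ≤ Ku A B v ∧ Kc D (Ku A B u) ≤ Kc M (Ku A B v) :=
    fun {i j u v D M} _ _ s c hv v1 l l' =>
      have k := s.Kc_Kc.ge.trans ((Kc_mono (l.trans l') c).trans (h.sclB hv v1).2.le)
      ⟨k, s.Kc_Kc.ge.trans (Kc_mono l k)⟩
  have spl : ∀ {i j u}, u ∈ A i → u ≠ 1 → j ≠ i →
      Ku A B u ≤ Kc (A j) (Ku A B u) ⊔ Kc (B j ⊓ B i) (Ku A B u) := fun {i j u} hu u1 e => by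
    have := (h.sclB hu u1).1.Kc_Kc
    rw [(h.sclB hu u1).2] at this
    exact this.ge.trans (Kc_le_of (((h.step hu u1).sup j).ge.trans (sup_le_sup (inf_le_left.trans le_Kc) le_Kc))
      (norms_sup Kc_norm Kc_norm))
  have l : L ≤ Ku A B u ⊔ C(Ku A B u) := iSup₂_le fun v ⟨⟨j, hv⟩, v2, v1⟩ => by
    by_cases e : j = i
    · exact (h.Ku_eq ih h3 h0 (e ▸ hv) v2 v1 hu u2 u1).le.trans le_sup_left
    obtain ⟨l, e1, e2, w, hw, w2, w1⟩ := h3 i j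
    have c : ∀ {i j l u v}, u ∈ A i → u * u = 1 → u ≠ 1 → j ≠ i → v ∈ A l → l ≠ i → l ≠ j →
        Kc (A j) (Ku A B u) ≤ C[v] := fun hu u2 u1 e hv e1 e2 => (h.cL ih h3 h0 hu u2 u1 e).trans
      (cent_le_cent1 (le_Kc ⟨h.le _ _ e2 hv, h.le _ _ e1 hv⟩))
    have c' : ∀ {i j u v}, u ∈ A i → u * u = 1 → u ≠ 1 → j ≠ i → v ∈ A j →
        Kc (B j ⊓ B i) (Ku A B u) ≤ C[v] := fun hu u2 u1 e hv =>
      (cents_symm (h.cL ih h3 h0 hu u2 u1 e)).trans (cent_le_cent1 (le_Kc hv))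
    have e' := Ne.symm e
    refine (spl hv v1 e').trans (sup_le (le_sup_of_le_right (cent_mono (spl hu u1 e) |>.trans' (cents_sup ?_ ?_)))
      (le_sup_of_le_left (sub hv v1 (ih v j hv v1 i) (c' hv v2 v1 e' hu) hu u1 inf_le_left le_rfl).1))
    · exact cents_mono (h.cL ih h3 h0 hw w2 w1 e1.symm)
        (sub hv v1 (h.LL ih hv v1 e').1 (c hv v2 v1 e' hw e2 e1) hw w1 le_rfl (h.le _ _ e1.symm)).2
        (sub hu u1 (h.LL ih hu u1 e).1 (c hu u2 u1 e hw e1 e2) hw w1 (le_inf (h.le _ _ e) (h.le _ _ e2.symm))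
          inf_le_right).2
    · exact (h.cL ih h3 h0 hv v2 v1 e').trans (cent_mono
        (sub hu u1 (ih u i hu u1 j) (c' hu u2 u1 e hv) hv v1 (inf_comm _ _).le inf_le_right).2)
  refine ⟨le_top, (h.sclB hu u1).1.pg, fun P hP r x hx g _ k => ?_⟩
  obtain ⟨c, hc, d, hd, rfl⟩ := (mem_sup_of_norm (cent_le_norm _)).1 (l (Kc_le_of (h.gen.trans (iSup_le fun j =>
    let ⟨l, e, _, w, hw, w2, w1⟩ := h3 j j
    ((h.le j l e.symm).trans (h.lK hw w1)).trans (lL hw w2 w1))) n.ge (hK.ge (mem_top g))))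
  rw [← conj_conj', ← hd x (h.lK hu u1 hx), mul_inv_cancel_right] at k ⊢
  exact (h.sclB hu u1).1.cl P hP r x hx c (K_le hc) k

theorem two (k : ∀ l, l ≠ i → l ≠ j → A l = ⊥) (ha : a ∈ A i) (r : g * a * g⁻¹ ∈ T) : g * a * g⁻¹ ∈ A i := by
  by_cases a1 : a = 1
  · simp [a1]
  have ne : ∀ {l l'}, #(A l) = #(A l') → A l' ≠ ⊥ → A l ≠ ⊥ := fun e n b => n (by rwa [b, card_bot, eq_comm,
    card_eq_one] at e)
  have i0 := ne_bot_of_mem ha a1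
  have sw : ∀ {x}, x ∈ N(T) → x ∉ N(A i) → cj x (A i) = A j := fun {x} hx x1 => by
    obtain ⟨σ, h1, h2⟩ := h.fus' (mem_top x)
    have : cj x (A i) = A (σ i) := eq_of_le_of_card_eq (cj_le_iff.2 fun y hy => mem_cj_inv.2
      ((h2 y (h.lA i hy) (conj_mem_of_norm hx (h.lA i hy)) i).2 hy)) (by rw [card_cj, h1])
    rw [this, by_contra fun e => ne (h1 i) i0 (k _ (fun e' => x1 (mem_norm_iff_cj.2 (by rw [this, e']))) e)]
  have n := scl_two h.scl hK.ge (h.nA' i) fun x hx y hy => or_iff_not_imp_left.2 fun x1 => or_iff_not_imp_left.2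
    fun y1 => mem_norm_iff_cj.2 (by
      rw [cj_mul, sw hy.2 y1, ← sw (inv_mem hx.2) (mt inv_mem_iff.1 x1), cj_cj_inv])
  obtain ⟨l, r, c⟩ := h.pure ha r
  by_contra e
  have e1 : l ≠ i := fun e' => e (e' ▸ r)
  obtain rfl : l = j := by_contra fun e' => ne c i0 (k l e1 e')
  have b1 : B i = A l := le_antisymm (h.Bgen fun m e => by
    by_cases e' : m = l
    exacts [e' ▸ le_rfl, (k m e e').le.trans bot_le]) (h.le l i e1)
  have b2 : B l = A i := le_antisymm (h.Bgen fun m e => by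
    by_cases e' : m = i
    exacts [e' ▸ le_rfl, (k m e' e).le.trans bot_le]) (h.le i l e1.symm)
  obtain ⟨x, -, r1⟩ := h.mv' ha a1 r
  rw [b1, b2] at r1
  have r2 := eq_of_le_of_card_eq r1 (by rw [card_cj, c])
  obtain ⟨z, hz, z1⟩ := exists_ne_one (ne c i0)
  have z2 := r1 (conj_mem_cj.2 hz)
  obtain ⟨y, hy, r3⟩ := h.mv hz z1 z2 (cents_symm (h.cm i)) (cent_le_cent1 z2) (by
    rw [← r2, ← cj_cent]; exact cj_mono _ (cents_symm (h.cm l)))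
  rw [b1, b2] at r3
  have := cj_of_mem_norm (n ⟨trivial, mem_norm_of_cj_le (by
    rw [← h.sup i, b1, cj_sup, cj_mul y _ (A l), r2, cj_of_mem_cent hy]
    exact sup_le (le_sup_of_le_right r3) le_sup_left)⟩)
  exact a1 (h.one ha (b1 ▸ r3 (this.ge ha)))

theorem core (ih : IH A B) (h0 : O((⊤ : Subgroup G)) = ⊥) (i : ι) : SCl (B i) ⊤ := by
  by_cases e : A i = ⊥
  · exact (by rw [← h.sup i, e, bot_sup_eq] : T = B i) ▸ h.scl
  have iv : ∀ {l}, A l ≠ ⊥ → ∃ u ∈ A l, u * u = 1 ∧ u ≠ 1 := fun {l} e =>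
    let ⟨u, hu, u2⟩ := exists_inv_pg (h.scl.pg.of_le (h.lA l)) e; ⟨u, hu, mul_self_of_ord2 u2, ne_one_of_ord2 u2⟩
  by_cases h3 : ∀ i j, ∃ l, l ≠ i ∧ l ≠ j ∧ ∃ u ∈ A l, u * u = 1 ∧ u ≠ 1
  · obtain ⟨u, hu, u2, u1⟩ := iv e
    exact h.three hK ih h3 h0 hu u2 u1
  obtain ⟨j, k⟩ : ∃ j, ∀ l, l ≠ j → l ≠ i → A l = ⊥ := by
    simp only [not_forall, not_exists, not_and] at h3
    obtain ⟨j, j', k⟩ := h3
    have k' : ∀ l, l ≠ j → l ≠ j' → A l = ⊥ := fun l a b => by_contra fun c =>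
      let ⟨u, a1, a2, a3⟩ := iv c; k l a b u a1 a2 a3
    by_cases r : i = j'
    · exact ⟨j, r ▸ k'⟩
    · exact ⟨j', fun l a b => k' l (fun c => e (k' i (fun d => b (c.trans d.symm)) r)) a⟩
  obtain ⟨S, hS, l⟩ := h.scl.pg.exists_syl le_top
  refine .of_syl hS ((h.lB i).trans l) fun a ha g _ r => ?_
  have b : B i ≤ A j := h.Bgen fun m e => by
    by_cases e' : m = j
    exacts [e' ▸ le_rfl, (k m e' e).le.trans bot_le]
  by_cases e' : j = i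
  · simp [h.one (e' ▸ b ha) ha]
  · exact h.le j i e' (h.two hK k (b ha) (h.scl.cl S hS.pi l a (h.lB i ha) g trivial r))

end

theorem main_aux (n : ℕ) : ∀ {G : Type u} [Group G] [Finite G] {T H : Subgroup G} {A B : ι → Subgroup G},
    #T < n → CP T H A B → ∀ i, SCl (B i) (Kc T H) := by
  induction n with
  | zero => exact fun h => (Nat.not_lt_zero _ h).elim
  | succ n ih =>
  intro G _ _ T H A B hn h i
  have s := H1.pm_surj (p := 2) (Kc T H)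
  have h' := h.im s (Kc_le h.scl.le) le_Kc (O_og _) (fun _ => H1.pm_eq_one) (Oc_normal _ _)
  have := h'.core (im_Kc_top s le_Kc h.scl.Kc_Kc)
    (fun u j hu u1 l => (h'.sclB hu u1).2 ▸ ih ((H19.card_lt ((h'.lB j).lt_of_ne fun e => u1 (h'.one hu
      (e.ge (h'.lA j hu))))).trans_le ((Nat.le_of_dvd (card_pos T) (card_im_dvd _ T)).trans (Nat.le_of_lt_succ hn)))
      (h'.step hu u1) l) (H1.Oc_top'.trans H1.pPrimeCore_quotient_pPrimeCore) i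
  obtain ⟨S, hS, l⟩ := h.scl.pg.exists_syl (le_Kc (H := H))
  refine .of_syl hS ((h.lB i).trans l) fun a ha g hg r => ?_
  exact (mem_im_iff (W := ⊥) (fun x hx e => (O_og _).eq_one' hS.pi (H1.pm_eq_one.1 e) hx) bot_le ((h.lB i).trans l)
    (x := ⟨g, hg⟩ * ⟨a, le_Kc (h.lB i ha)⟩ * ⟨g, hg⟩⁻¹) r).1 (by
      have := this.cl _ (hS.pi.im _) (im_mono ((h.lB i).trans l)) _ (mem_im_of (x := ⟨a, le_Kc (h.lB i ha)⟩) ha)
        (H1.pm 2 _ ⟨g, hg⟩) trivial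
      rw [← map_inv, ← map_mul, ← map_mul] at this
      exact this (mem_im_of r))

/-- in a simple group there is one factor -/
theorem sim (h : CP T ⊤ A B) (hG : Sim (⊤ : Subgroup G)) (e : A i ≠ ⊥) : A i = T := by
  have c : ∀ {X : Subgroup G}, X ≠ ⊥ → Kc X ⊤ = ⊤ := fun r =>
    (hG.cases le_top Kc_norm).resolve_left (ne_bot_mono le_Kc r)
  have k := c (ne_bot_mono (h.lA i) e) ▸ main_aux _ (Nat.lt_succ_self _) h
  obtain ⟨S, hS, l⟩ := h.scl.pg.exists_syl le_top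
  have := H25.PF.scl_main (h.sclA le_top le_top k i) (k i) hS ((h.lA i).trans l) ((h.lB i).trans l) (h.cm i)
  by_contra e'
  rw [c e, c fun b => e' (by rw [← h.sup i, b, sup_bot_eq]), h.dj, hG.perfect, hG.O_eq] at this
  exact hG.ne (eq_bot_iff.2 (this.trans (by simp [Kc])))

end CP

end H19.GG
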