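/-
Standard L2(2^n), part 2: lemmas on the subgroup Q.
-/
import Cfsg.Agent.H19.LS1

set_option autoImplicit false
set_option linter.unusedSectionVars false
set_option linter.style.haveILetI false

namespace H19.L2
open Cfsg Subgroup H18 H17.GS H17.TS
open H19 hiding eq_bot_mono
open H2.GW (K4 V4 V4_le left_mem_V4 right_mem_V4 mul_mem_V4 cent_V4 cj_V4 qm qm_mem mem_quo quo_zp qm_mul qm_inv qm_conj
  qm_eq_one qm_mem_iff mem_qpre qm_one qm_cj qm_norm qm_cent qm_cent1 qm_eq_qm qm_pow quo_V4)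
open H17.FX (ex_sup ex_zp ex_J grow idx_le cent_bd dj_le Bk Sq bk_quo bk_zp sec_of_bk mem_zp)
open H17.HT (exists_two_elt)
open H24.E8 (Ex relIndex_le_of_fun surj_of_fun)

universe u
variable {G : Type u} [Group G] [Finite G] {b c d e g h k r s t u v w x y z b' c' d' e' h' r' s' t' x' y' z' : G}
  {A B D E H K L M N P Q R S T U V W X Y Z A' B' D' N' P' R' S' T' U' Y' Z' : Subgroup G}
  {F : Type} [Field F] [Fintype F] {a : G → F} {l m : F} {σ τ : RingAut F}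
open H17.GM (Ad mem_norm_of e2_of_pow odd_e2 odd_e2')
open H19.A5 (cj_sq cj_ne cyc_uq)
local notation "𝐪" => Fintype.card

theorem dj' (h : X ≤ K) (h' : Y ≤ K) (d : X ⊓ Y = ⊥) : #X * #Y ≤ #K := by
  rw [← card_mul_relIndex h, ← card_inf_mul_relIndex X Y, d, card_bot, one_mul]
  exact Nat.mul_le_mul_left _ (relIndex_le_of_le_right h' (relIndex_ne_zero' _ _))

/-- in an abelian 2-group with transitively permuted involutions the elements of non-maximal order are squares -/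
theorem hsq (ab : Q ≤ C(Q)) (tr : ∀ v ∈ Q, ∀ w ∈ Q, v * v = 1 → w * w = 1 → v ≠ 1 → w ≠ 1 → ∃ h ∈ N(Q), h * v * h⁻¹ = w)
    (i : ℕ) (hx : x ∈ Q) (hw : w ∈ Q) (e1 : x ^ 2 ^ i = 1) (e2 : w ^ 2 ^ i ≠ 1) (e3 : w ^ 2 ^ (i + 1) = 1) :
    ∃ y ∈ Q, y * y = x := by
  induction i generalizing x w with
  | zero => exact ⟨1, one_mem _, by simpa using e1.symm⟩
  | succ i ih =>
    have r : ∀ (z : G) j, (z * z) ^ 2 ^ j = z ^ 2 ^ (j + 1) := fun z j => by rw [← pow_two, ← pow_mul, ← pow_succ']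
    have r' : ∀ (z : G) j, z ^ 2 ^ j * z ^ 2 ^ j = z ^ 2 ^ (j + 1) := fun z j => by rw [← pow_add, ← two_mul, ← pow_succ']
    by_cases k : x ^ 2 ^ i = 1
    · exact ih hx (mul_mem hw hw) k (r w i ▸ e2) (r w _ ▸ e3)
    obtain ⟨h, hh, e⟩ := tr _ (pow_mem hw _) _ (pow_mem hx _) ((r' w _).trans e3) ((r' x _).trans e1) e2 k
    have m := conj_mem_of_norm hh hw
    obtain ⟨y, hy, e'⟩ := ih (mul_mem hx (inv_mem (mul_mem m m))) (mul_mem hw hw) (by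
      rw [Commute.mul_pow (cm' ab hx (inv_mem (mul_mem m m))), inv_pow, r, conj_pow, e, mul_inv_cancel]) (r w i ▸ e2) (r w _ ▸ e3)
    refine ⟨_, mul_mem hy m, ?_⟩
    rw [mul_assoc, ← mul_assoc _ y, cm' ab m hy, mul_assoc y, ← mul_assoc y y, e', inv_mul_cancel_right]
theorem hsq' (ab : Q ≤ C(Q)) (pQ : PG 2 Q)
    (tr : ∀ v ∈ Q, ∀ w ∈ Q, v * v = 1 → w * w = 1 → v ≠ 1 → w ≠ 1 → ∃ h ∈ N(Q), h * v * h⁻¹ = w)
    {i : ℕ} (hx : x ∈ Q) (hw : w ∈ Q) (e1 : x ^ 2 ^ i = 1) (e2 : w ^ 2 ^ i ≠ 1) : ∃ y ∈ Q, y * y = x := by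
  obtain ⟨j, e⟩ := e2_pw (pQ.elt hw)
  induction j generalizing w with
  | zero => exact (e2 (by rw [show w = 1 by simpa using e, one_pow])).elim
  | succ j ih =>
    by_cases k : w ^ 2 ^ (i + 1) = 1
    · exact hsq ab tr i hx hw e1 e2 k
    · exact ih (mul_mem hw hw) (by rwa [← pow_two, ← pow_mul, ← pow_succ']) (by rwa [← pow_two, ← pow_mul, ← pow_succ'])

theorem St.cl2 (o : St F t M A V H T a) (hR : Syl 2 R M) (n : ¬ R ≤ C(R))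
    (cl : ∀ x ∈ R, ∀ y ∈ R, ∀ z ∈ R, z * (x * y * x⁻¹ * y⁻¹) = x * y * x⁻¹ * y⁻¹ * z) (d : 64 ∣ #R) : IsLieTypeChar 2 M :=
  H17.SY.cl2_lie (H19.GG.scl_class_two o.sim.top (SCl.syl hR.subgroupOf_top)
    (fun k => n fun x hx => mem_cent.2 fun y hy => congrArg Subtype.val
      (mul_comm_of_comm k (a := ⟨y, hR.le hy⟩) (b := ⟨x, hR.le hx⟩) hy hx))
    (commg_le_iff.2 fun x hx y hy z hz => Subtype.ext (cl x hx y hy z hz))) (d.trans (card_dvd hR.le)) o.sim.nsol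

theorem bender_lie {X : Type u} [Group X] (h : H3.IsBender X) : IsLieTypeChar 2 X := by
  have := Fact.mk Nat.prime_two
  rcases h with ⟨K, _, _, ⟨n, n2, c⟩, e⟩ | h | ⟨K, _, _, n, n2, c, e⟩
  · exact .inl ⟨K, _, _, H22.charP_of_card c, 2, le_rfl, fun _ => c ▸ Nat.pow_le_pow_right (n := 2) two_pos n2, e⟩
  · exact .inr (.inr (.inr (.inr (.inr (.inr (.inr (.inr (.inl ⟨rfl, h⟩))))))))
  · exact .inr (.inr (.inl ⟨K, _, _, H22.charP_of_card (c.trans (pow_mul _ _ _).symm), 3, _, c, le_rfl, fun k =>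
      absurd (Nat.pow_le_pow_right (n := 2) two_pos n2) (by rw [k.2]; norm_num), e⟩))
/-- a strongly closed abelian subgroup -/
theorem St.scl (o : St F t M A V H T a) (hR : Syl 2 R M) (l : B ≤ R) (ab : B ≤ C(B)) (B0 : B ≠ ⊥)
    (sc : ∀ x ∈ B, ∀ g ∈ M, g * x * g⁻¹ ∈ R → g * x * g⁻¹ ∈ B) (c : 8 < #R) : IsLieTypeChar 2 M := by
  have := o.sM
  rcases gold o.sim (comm_iff_le_cent.2 ab) (SCl.of_syl hR l sc) B0 with ⟨Y, k⟩ | ⟨W, k1, k2⟩ | k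
  · exact bender_lie (H18.Be.bender_simple k.isSE (by
      by_contra! e
      exact o.sim.nab ⟨⟨e⟩⟩))
  · rw [hR.card_eq k2, k1.card] at c; omega
  · obtain ⟨W, k1, k2⟩ := k.syl
    rw [hR.card_eq k2, k1.card] at c; omega

namespace Pq
variable (o : Pq F t M A V H T Q a)
include o
theorem q0 : Q0 F t M A V H T Q a := o.toQ0
theorem s1 : S1 F t M A V H T a := o.toS1
theorem st : St F t M A V H T a := o.toSt
theorem md : Md F A V H a := o.toMd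
theorem QZ : Q ≤ C(V) := cents_symm o.VZ
theorem PZ : Q ⊔ zpowers t ≤ C(V) := sup_le o.QZ (zpowers_le' o.st.tCV)
theorem QC : Q ⊓ C[t] = V := le_antisymm (fun x hx => o.ct x hx.1 hx.2) (le_inf o.VQ o.st.VC)
theorem QT : Q ⊓ T = V := le_antisymm (fun x hx => o.ct x hx.1 (o.st.TC hx.2)) (le_inf o.VQ o.VT)
theorem PC (hx : x ∈ Q ⊔ zpowers t) (c : x ∈ C[t]) : x ∈ V ⊔ zpowers t :=
  o.st.mE.2 ((o.q0.mP.1 hx).imp (o.ct x · c) (o.ct _ · (mul_mem c (mem_cent1_self t))))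
theorem SV : Q ⊔ T ≤ N(V) := sup_le (o.QZ.trans (cent_le_norm V)) o.st.TV
theorem SC (hx : x ∈ Q ⊔ T) (c : x ∈ C[t]) : x ∈ T := o.st.CT o.q0.pS le_sup_right hx c
theorem SZ (hx : x ∈ Q ⊔ T) (c : x ∈ C(V)) : x ∈ Q ⊔ zpowers t := by
  obtain ⟨u, hu, y, hy, rfl⟩ := o.q0.mS hx
  exact mul_mem (mem_sup_left hu) (o.q0.EP (o.s1.TE hy ((mul_mem_cancel_left (o.QZ hu)).1 c)))
theorem OP : O(C[t] ⊓ C(A)) ≤ C(Q ⊔ zpowers t) :=
  cents_sup o.oQ (cent_zpowers t ▸ o.s1.OC.trans inf_le_left)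
theorem cardS : #(Q ⊔ T) * 𝐪 F = #Q * #T := by rw [← o.md.cardV, ← o.QT, card_sup_mul_inf o.q0.TQ]
theorem hsq (ab : Q ≤ C(Q)) (om : ∀ x ∈ Q, x * x = 1 → x ∈ V) {i : ℕ} (hx : x ∈ Q) (hw : w ∈ Q) (e1 : x ^ 2 ^ i = 1)
    (e2 : w ^ 2 ^ i ≠ 1) : ∃ y ∈ Q, y * y = x :=
  hsq' ab o.pQ (fun v hv w hw vv ww v1 w1 => let ⟨h, hh, e⟩ := o.md.tr (om v hv vv) v1 (om w hw ww) w1
    ⟨h, o.q0.HQ hh, e⟩) hx hw e1 e2
theorem tvQ (n : Q ≠ V) (hv : v ∈ V) : ∃ x ∈ Q, x * t * x⁻¹ = v * t := by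
  by_cases v1 : v = 1
  · exact ⟨1, one_mem _, by simp [v1]⟩
  obtain ⟨g, hg, g0, -, -, k⟩ := ela o.pQ (pg_zpowers o.tt) (zpowers_le' o.q0.tN) (zpowers_le' o.st.tNV) (o.VQ.lt_of_ne n.symm)
  obtain ⟨h, hh, e⟩ := o.md.tr (k t (mem_zpowers t)) (fun e => g0 (o.ct g hg (mem_cent1.2 (comm_of_cj
    (mul_inv_eq_one.1 e))))) hv v1
  refine ⟨_, conj_mem_of_norm (o.q0.HQ hh) hg, ?_⟩
  have := cj_comm' (mem_cent1.1 (o.st.HC hh))
  calc _ = h * g * h⁻¹ * (h * t * h⁻¹) * (h * g * h⁻¹)⁻¹ * (h * t * h⁻¹)⁻¹ * t := by rw [this]; group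
    _ = _ := by rw [← e]; group
theorem cq (n : Q ≠ V) : 𝐪 F ^ 2 ≤ #Q := by
  classical
  have := H24.E8.le_relIndex_of_fun (K := V) (X := Q) (Y := V) (fun x => if x * t * x⁻¹ * t ∈ V then x * t * x⁻¹ * t else 1)
    (fun v hv => by
      obtain ⟨x, hx, e⟩ := o.tvQ n hv
      exact ⟨x, hx, by simp [e, o.st.tc, hv]⟩) fun x _ y _ k => by
      rw [show y * t * y⁻¹ = x * (x⁻¹ * y * t * (x⁻¹ * y)⁻¹) * x⁻¹ by group, cj_comm' (mem_cent1.1 (o.st.VC k))]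
  rw [← card_mul_relIndex o.VQ, sq, ← o.md.cardV]
  exact Nat.mul_le_mul_left _ this
theorem nc (n : Q ≠ V) (g : G) : g * t * g⁻¹ ∉ Q := fun k => by
  have c := o.cq n
  have lt := o.s1.cardT_lt
  have q4 := o.q4
  have kV : g * t * g⁻¹ ∉ V := fun k => by
    have := o.st.bd o.q0.pP (le_cent1_iff.2 (cents_symm o.PZ k))
    rw [o.q0.cardP] at this; omega
  rcases o.ty with ⟨-, h⟩ | ⟨h, e⟩ | ⟨-, e, h⟩
  · exact kV (h _ k (o.st.ts g))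
  · have := o.st.exT' h (le_cent1_iff.2 (exab h k)); nlinarith
  have i := cent_bd (X := Q) (Y := V) fun x hx => H24.E8.comm_mem h hx k
  rw [e, o.md.cardV, pow_succ] at i
  replace i := Nat.le_of_mul_le_mul_right i (by omega)
  obtain ⟨r, e1, l⟩ := o.st.back (o.pQ.infl C[g * t * g⁻¹]) inf_le_right
  have eT := H24.E8.eq_of_card l (by rw [card_cj]; omega)
  have c1 : T ≤ C(cj r V) := by rw [← eT, ← cj_cent]; exact cj_mono r (inf_le_left.trans o.QZ)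
  have c2 : T ≤ C(cj r V ⊔ zpowers t) := cents_sup c1 (cent_zpowers t ▸ o.st.TC)
  have l2 : cj r V ⊔ zpowers t ≤ T := sup_le (eT ▸ cj_mono r (le_inf o.VQ (le_cent1_iff.2 (o.QZ k)))) (zpowers_le' o.st.tT)
  have : cj r V ⊔ zpowers t = V ⊔ zpowers t := eq_of_le_of_card_eq
    (fun x hx => o.s1.TE (l2 hx) (cent_mono o.VT (cents_symm c2 hx))) (by
      rw [card_adj o.tt (cent_le_norm _ (c1 o.st.tT)) (fun m => kV (conj_mem_cj.1 (e1 ▸ m))), card_cj, o.md.cardV, o.st.cardE])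
  have := card_le (show T ≤ V ⊔ zpowers t from fun x hx => o.s1.TE hx (cent_mono le_sup_left (this ▸ c2 hx)))
  rw [o.st.cardE, ← eT, card_cj] at this; nlinarith
theorem nQH : Q ⊔ T ≤ N(Q ⊔ H) := sup_le (le_sup_left.trans le_normalizer) (by
  rw [← sup_eq_left.2 o.VQ, sup_assoc]; exact norms_sup o.q0.TQ (o.st.TB.trans o.md.nB))
theorem nH1 (hx : x ∈ Q) (n : x ∈ N(H)) : x = 1 := by
  obtain ⟨h, hh, h1⟩ := o.md.H1
  exact o.ch h hh h1 x hx (mem_cent1.2 (comm_of_cj (mul_inv_eq_one.1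
    (o.md.oH.eq_one' o.pQ (comm_mem_r n hh) (comm_mem_l hx (o.q0.HQ hh))))))
/-- Baer's trick: the involutions of `QT` outside `P` are conjugate under `Q` into `T ∩ N(H)` -/
theorem baer (hs : s ∈ Q ⊔ T) (ss : s * s = 1) (s0 : s ∉ Q ⊔ zpowers t) : ∃ x ∈ Q, x * s * x⁻¹ ∈ T ∧ x * s * x⁻¹ ∈ N(H) := by
  obtain ⟨u, hu, y, hy, rfl⟩ := o.q0.mS hs
  have y0 : y ∉ C(V) := fun k => s0 (o.SZ hs (mul_mem (o.QZ hu) k))
  have n1 := (o.st.TB hy).1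
  have n2 := o.st.TV hy
  have n0 := o.q0.TQ hy
  have yy : y * y ∈ V := o.QT.le <| mem_inf.2 ⟨by
    rw [show y * y = (y * u * y⁻¹)⁻¹ * u⁻¹ * (u * y * (u * y)) by group, ss, mul_one]
    exact mul_mem (inv_mem (conj_mem_of_norm n0 hu)) (inv_mem hu), mul_mem hy hy⟩
  obtain ⟨v, hv, e⟩ := o.md.lift n1 n2 yy y0
  obtain ⟨w, hw, k⟩ := o.md.nH (mul_mem n1 (le_normalizer (o.md.VA hv))) (mul_mem n2 (le_normalizer hv)) e
    fun k => y0 ((mul_mem_cancel_right (o.md.abV hv)).1 k)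
  obtain ⟨h, hh, k'⟩ := o.md.fldh n1 n2 (o.md.abV yy) y0
  obtain ⟨x, hx, n⟩ := trick o.pQ o.md.oH o.md.abH o.q0.HQ o.ch ss (o.nQH hs) hh fun m => k' (by
    rw [show y * h * y⁻¹ * h⁻¹ = u⁻¹ * (u * y * h * (u * y)⁻¹ * h⁻¹) * (h * u * h⁻¹) by group]
    exact o.QZ (mul_mem (mul_mem (inv_mem hu) m) (conj_mem_of_norm (o.q0.HQ hh) hu)))
  have := o.nH1 (x := x * (u * y) * x⁻¹ * (w * (y * v) * w⁻¹)⁻¹) (by
    rw [show x * (u * y) * x⁻¹ * (w * (y * v) * w⁻¹)⁻¹ = x * u * (y * (x⁻¹ * w * v⁻¹) * y⁻¹) * w⁻¹ by group]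
    exact mul_mem (mul_mem (mul_mem hx hu) (conj_mem_of_norm (o.q0.TQ hy) (mul_mem (mul_mem (inv_mem hx) (o.VQ hw))
      (o.VQ (inv_mem hv))))) (o.VQ (inv_mem hw))) (mul_mem n (inv_mem k))
  exact ⟨x, hx, mul_inv_eq_one.1 this ▸ conj_mem_of_norm (le_normalizer (o.VT hw)) (mul_mem hy (o.VT hv)), n⟩
/-- the dihedral trick -/
theorem dih (hs : s ∈ N(H)) (n1 : s ∈ N(A)) (n2 : s ∈ N(V)) (ss : s * s = 1) (s0 : s ∉ C(V)) : #(Q ⊓ C[s]) ^ 2 ≤ #Q := by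
  obtain ⟨h, hh, k⟩ := o.md.fldh n1 n2 (ss ▸ one_mem _) s0
  have si : s⁻¹ = s := inv_eq_of_mul_eq_one_left ss
  have d : (Q ⊓ C[s]) ⊓ cj h (Q ⊓ C[s]) = ⊥ := le_bot_iff.1 fun x hx => by
    rw [cj_inf, cj_of_mem_norm (o.q0.HQ hh), cj_cent1] at hx
    refine o.ch _ (comm_mem_r hs hh) (fun e => k (e ▸ one_mem _)) x hx.1.1 (mem_cent1_symm.1 ?_)
    rw [show s * h * s⁻¹ * h⁻¹ = s * (h * s⁻¹ * h⁻¹) by group, si]
    exact mul_mem (mem_cent1_symm.1 hx.1.2) (mem_cent1_symm.1 hx.2.2)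
  have := dj' (K := Q) inf_le_left (cj_le_of_mem_norm (o.q0.HQ hh) inf_le_left) d
  rwa [card_cj, ← sq] at this
/-- fixed points modulo `V` lift -/
theorem lift (hs : s ∈ T) (ss : s * s = 1) (s0 : s ∉ V ⊔ zpowers t) (hx : x ∈ Q) (k : s * x * s⁻¹ * x⁻¹ ∈ V) :
    ∃ v ∈ V, x * v ∈ C[s] := by
  have si : s⁻¹ = s := inv_eq_of_mul_eq_one_left ss
  obtain ⟨v, hv, e⟩ := (o.s1.fld hs (ss ▸ one_mem _) s0).2 _ ⟨k, H2.GW.mem_cent1_conj'.2 (by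
    rw [← o.md.exV.inv k, o.md.exV.inv k, show s * (s * x * s⁻¹ * x⁻¹) * s⁻¹ = s * s * (s * x * s⁻¹ * x⁻¹)⁻¹ * 1 by
      simp [si, mul_assoc, ← mul_assoc s s, ss], ss, o.md.exV.inv k]; simp)⟩
  refine ⟨v, hv, H2.GW.mem_cent1_conj'.2 ?_⟩
  rw [← conj_mul, ← inv_mul_cancel_right (s * x * s⁻¹) x, ← inv_mul_cancel_right (s * v * s⁻¹) v, e]
  generalize s * x * s⁻¹ * x⁻¹ = w at k
  rw [show w * x * (w * v) = w * (x * w) * v by group, ← cm (o.QZ hx) k, ← mul_assoc, o.md.exV _ k, one_mul]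
/-- `Q` is determined by `t` and `V` -/
theorem same (eQ : Ex Q) (n : Q ≠ V) (e : g * t * g⁻¹ = s) (hs : s ∈ N(Q)) (gV : cj g V = Q ⊓ C[s]) : g ∈ N(Q) := by
  refine mem_norm_of_le_cj fun y hy => mem_cj.2 ?_
  have ss := e ▸ o.st.ts g
  have si : s⁻¹ = s := inv_eq_of_mul_eq_one_left ss
  have m : y * s * y⁻¹ * s⁻¹ ∈ cj g V := gV ▸ ⟨comm_mem_l hy hs, H2.GW.mem_cent1_conj'.2 (by
    rw [← eQ.inv (comm_mem_l hy hs), eQ.inv (comm_mem_l hy hs)]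
    calc _ = (y * s * y⁻¹ * s⁻¹)⁻¹ := by simp [si, mul_assoc, ss]
      _ = _ := eQ.inv (comm_mem_l hy hs))⟩
  obtain ⟨x, hx, r⟩ := o.tvQ n (mem_cj.1 m)
  have c1 : x⁻¹ * (g⁻¹ * y * g) ∈ C[t] := mem_cent1.2 (comm_of_cj (by
    rw [show x⁻¹ * (g⁻¹ * y * g) * t * (x⁻¹ * (g⁻¹ * y * g))⁻¹ = x⁻¹ * (g⁻¹ * (y * (g * t * g⁻¹) * y⁻¹ * (g * t * g⁻¹)⁻¹) * g * t) * x
      by group, e, ← r]; group))
  have c2 : g⁻¹ * y * g ∈ C(V) := by
    rw [← mem_cj, cj_cent, gV]; exact cent_mono inf_le_left (exab eQ hy)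
  obtain ⟨z, hz, d, hd, r'⟩ := o.s1.cEO c1 (mul_mem (inv_mem (o.QZ hx)) c2)
  have mz := mul_mem (mem_sup_left hx) (o.q0.EP hz)
  have yy : g⁻¹ * y * g * (g⁻¹ * y * g) = 1 := by simpa using cj_sq g⁻¹ (eQ y hy)
  replace r' : g⁻¹ * y * g = x * z * d := by rw [mul_assoc x, ← r', mul_inv_cancel_left]
  rw [odd_e2 (e2_inv yy) (o.q0.pP.elt mz) ((O_og _).elt hd) (cm (o.OP hd) mz) r', mul_one] at r'
  refine (o.q0.mP.1 (r' ▸ mz)).resolve_right fun k => ?_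
  obtain ⟨w, -, r⟩ := o.tvQ n (o.ct _ k (mem_cent1.2 (by
    have := mul_eq_one_iff_eq_inv.1 (eQ _ k)
    rw [o.st.tc, this, mul_inv_rev, o.st.ti', inv_eq_of_mul_eq_one_left yy, ← mul_assoc, o.tt, one_mul])))
  rw [o.st.tc] at r
  exact o.nc n (g * w) (by rwa [← conj_conj', r, show g * (g⁻¹ * y * g) * g⁻¹ = y by group])
end Pq

namespace Al
variable (o : Al F t M A V H T Q a)
include o
theorem pq : Pq F t M A V H T Q a := o.toPq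
theorem q0 : Q0 F t M A V H T Q a := o.toQ0
theorem s1 : S1 F t M A V H T a := o.toS1
theorem st : St F t M A V H T a := o.toSt
theorem md : Md F A V H a := o.toMd
theorem nc (g : G) : g * t * g⁻¹ ∉ Q := o.pq.nc o.QV g
theorem mN (hg : g ∈ N(Q ⊔ zpowers t)) : ∃ u ∈ Q, ∃ c ∈ C[t] ⊓ N(V), g = u * c := (mem_sup_of_norm o.nQ).1 (o.nN hg)
theorem cjN (hg : g ∈ N(Q ⊔ zpowers t)) : ∃ u ∈ Q, g * t * g⁻¹ = u * t * u⁻¹ := by
  obtain ⟨u, hu, c, hc, rfl⟩ := o.mN hg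
  exact ⟨u, hu, by rw [← conj_conj', cj_comm' (mem_cent1.1 hc.1)]⟩
theorem sylC (ab : Q ≤ C(Q)) : Syl 2 (Q ⊔ zpowers t) (C(Q) ⊔ zpowers t) :=
  H17.SY.syl_of o.q0.pP (sup_le_sup_right ab _) fun y hy n e _ => by
    obtain ⟨u, hu, c, hc, rfl⟩ := o.mN n
    have c2 : u * c ∈ C(V) := sup_le (cent_mono o.VQ) (zpowers_le' o.st.tCV) hy
    obtain ⟨z, hz, d, hd, rfl⟩ := o.s1.cEO hc.1 ((mul_mem_cancel_left (o.pq.QZ hu)).1 c2)
    have mz := mul_mem (mem_sup_left hu) (o.q0.EP hz)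
    rwa [← mul_assoc, odd_e2 e (o.q0.pP.elt mz) ((O_og _).elt hd) (cm (o.pq.OP hd) mz) (mul_assoc _ _ _).symm, mul_one]
theorem tC : t ∉ C(Q) := fun k => o.QV (le_antisymm (fun x hx => o.ct x hx (mem_cent1.2 (cm k hx))) o.VQ)
/-- the 2-elements of `C(Q)` lie in `Q` -/
theorem cq2 (ab : Q ≤ C(Q)) (hx : x ∈ C(Q)) (e : E2 x) : x ∈ Q := by
  have h := (o.sylC ab).inf_of_norm le_sup_left (sup_le (ab.trans le_normalizer) (zpowers_le' (norm_le_norm_cent Q o.q0.tN)))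
  have : (Q ⊔ zpowers t) ⊓ C(Q) = Q := le_antisymm (fun y hy => (o.q0.mP.1 hy.1).resolve_right fun k =>
    o.tC ((mul_mem_cancel_left hy.2).1 (ab k))) (le_inf le_sup_left ab)
  rw [this] at h
  exact h.mem_of_normal (cent_le_norm Q) hx e
/-- the centralizer of `t` modulo `C(Q)` -/
theorem cx (ab : Q ≤ C(Q)) (n : g ∈ N(Q)) (k : g * t * g⁻¹ * t ∈ C(Q)) : ∃ c ∈ C(Q), c * g ∈ C[t] ⊓ N(V) := by
  have nt := norm_le_norm_cent Q o.q0.tN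
  have e : cj g (C(Q) ⊔ zpowers t) = C(Q) ⊔ zpowers t := cj_of_mem_norm (mem_norm_of_cj_le (by
    rw [cj_sup, cj_of_mem_norm (norm_le_norm_cent Q n), cj_zpowers]
    exact sup_le le_sup_left (zpowers_le' ((mzp o.tt nt).2 (.inr k)))))
  obtain ⟨c, hc, r⟩ := (e ▸ (o.sylC ab).J g).sconj (o.sylC ab)
  have r : c * g ∈ N(Q ⊔ zpowers t) := mem_norm_iff_cj.2 (by rw [cj_mul, r])
  obtain ⟨d, hd, r⟩ : ∃ d ∈ C(Q), d * g ∈ N(Q ⊔ zpowers t) := by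
    rcases (mzp o.tt nt).1 hc with m | m
    · exact ⟨c, m, r⟩
    · refine ⟨_, conj_mem_of_norm nt m, ?_⟩
      rw [show t * (c * t) * t⁻¹ * g = t * (c * g) by group]; exact mul_mem (le_normalizer tL) r
  obtain ⟨u, hu, c, hc, e⟩ := o.mN r
  exact ⟨_, mul_mem (inv_mem (ab hu)) hd, by rwa [mul_assoc, e, inv_mul_cancel_left]⟩
theorem sylN : Syl 2 (Q ⊔ T) N(Q ⊔ zpowers t) := by
  refine H17.SY.syl_of o.q0.pS (sup_le o.q0.QP (o.st.TN0.trans o.q0.nP0)) fun y hy n e _ => ?_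
  obtain ⟨u, hu, k⟩ := o.cjN hy
  exact (mul_mem_cancel_left (inv_mem (mem_sup_left hu))).1 (mem_sup_right (o.st.CT (o.q0.pS.sup e.pg (zpowers_le' n))
    (le_sup_right.trans le_sup_left) (mul_mem_sup (inv_mem (mem_sup_left hu)) (mem_zpowers y)) (mem_cent1.2 (comm_of_cj (by
      rw [← conj_conj', k]; group)))))
end Al

end H19.L2
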