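/-
Maximal 2-local subgroups of a group of Monster type: involutions centralizing the group of order 2^10, and pairs of singular involutions.
-/
import Cfsg.Agent.H15.MX0

set_option autoImplicit false
set_option linter.unusedSectionVars false
set_option linter.unusedVariables false

namespace H19.MX
open Cfsg H15 H19 H0 H0.Mo H0.Y H15.ML H15.MX Subgroup
open scoped commutatorElement

section
variable {G : Type} [Group G] [Finite G]

theorem dc (P X : Set G) (r : G → G → Prop) {m k : ℕ} (h1 : ∀ p ∈ P, m ≤ {x ∈ X | r p x}.ncard)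
    (h2 : ∀ x ∈ X, {p ∈ P | r p x}.ncard ≤ k) (h3 : X.ncard * k ≤ P.ncard * m) : ∀ x ∈ X, {p ∈ P | r p x}.ncard = k := by
  classical
  obtain ⟨P, rfl⟩ := P.toFinite.exists_finset_coe
  obtain ⟨X, rfl⟩ := X.toFinite.exists_finset_coe
  have e : ∀ (Y : Finset G) (q : G → Prop), {x | x ∈ Y ∧ q x}.ncard = (Y.filter q).card := fun Y q => by
    rw [← Set.ncard_coe_finset, Finset.coe_filter]
  simp only [Set.ncard_coe_finset, Finset.mem_coe, e] at h1 h2 h3 ⊢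
  have s := Finset.sum_card_bipartiteAbove_eq_sum_card_bipartiteBelow (s := P) (t := X) r
  simp only [Finset.bipartiteAbove, Finset.bipartiteBelow] at s
  refine (Finset.sum_eq_sum_iff_of_le (g := fun _ => k) h2).1 (le_antisymm (Finset.sum_le_sum h2) ?_)
  rw [← s, Finset.sum_const, smul_eq_mul]
  exact h3.trans (by simpa using Finset.sum_le_sum h1)

theorem nc_diff {A B : Subgroup G} (h : B ≤ A) : ((A : Set G) \ B).ncard + #B = #A :=
  Set.ncard_sdiff_add_ncard_of_subset (show (B : Set G) ⊆ A from h)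

theorem nc_one (A : Subgroup G) : ((A : Set G) \ {1}).ncard + 1 = #A := by
  simpa using nc_diff (bot_le : ⊥ ≤ A)

theorem two_le {A B : Subgroup G} (h : A < B) : 2 * #A ≤ #B := by
  obtain ⟨k, hk⟩ := card_dvd h.le
  have := card_lt h
  rw [hk] at this ⊢
  rw [mul_comm]
  exact Nat.mul_le_mul_left _ (by by_contra c; interval_cases k <;> omega)

theorem idx2 {A B : Subgroup G} (h : A ≤ B) (e : #B = 2 * #A) {x y : G} (hx : x ∈ B) (hy : y ∈ B) (nx : x ∉ A) (ny : y ∉ A) :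
    x * y ∈ A := by
  have : A.relIndex B = 2 := Nat.eq_of_mul_eq_mul_left (card_pos A) (by rw [card_mul_relIndex h, e, mul_comm])
  exact (mul_mem_iff_of_index_two this (a := ⟨x, hx⟩) (b := ⟨y, hy⟩)).2 (iff_of_false nx ny)

variable {E : Subgroup G}

theorem cm_mul (sp : ⁅C(E), C(E)⁆ ≤ E) {a b x : G} (ha : a ∈ C(E)) (hb : b ∈ C(E)) (hx : x ∈ C(E)) :
    ⁅a * b, x⁆ = ⁅a, x⁆ * ⁅b, x⁆ := by
  have := mem_cent.1 ha _ (sp (commutator_mem_commutator hb hx))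
  have k := mem_cent.1 (mul_mem (mul_mem hx (inv_mem ha)) (inv_mem hx)) _ (sp (commutator_mem_commutator hb hx))
  calc ⁅a * b, x⁆ = a * (⁅b, x⁆ * (x * a⁻¹ * x⁻¹)) := by simp only [commutatorElement_def]; group
    _ = _ := by rw [k]; simp only [commutatorElement_def]; group

theorem cm_E {c x : G} (hc : c ∈ E) (hx : x ∈ C(E)) : ⁅c, x⁆ = 1 :=
  commutatorElement_eq_one_iff_mul_comm.2 (mem_cent.1 hx c hc)

theorem cm_E' {k d c : G} (hc : c ∈ E) (hk : k ∈ C(E)) : ⁅k, d * c⁆ = ⁅k, d⁆ := by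
  have := mem_cent.1 (inv_mem hk) c hc
  calc ⁅k, d * c⁆ = k * d * (c * k⁻¹) * c⁻¹ * d⁻¹ := by simp only [commutatorElement_def]; group
    _ = _ := by rw [this]; simp only [commutatorElement_def]; group

theorem cnt (sp : ⁅C(E), C(E)⁆ ≤ E) {D : Subgroup G} (hD : D ≤ C(E)) {x : G} (hx : x ∈ C(E)) :
    ∃ R : Subgroup G, (∀ r, r ∈ R ↔ ∃ d ∈ D, ⁅d, x⁆ = r) ∧ #D = #(D ⊓ C[x]) * #R := by
  let φ : D →* G := .mk' (fun d => ⁅(d : G), x⁆) fun a b => cm_mul sp (hD a.2) (hD b.2) hx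
  refine ⟨φ.range, fun r => ⟨fun ⟨d, e⟩ => ⟨d, d.2, e⟩, fun ⟨d, m, e⟩ => ⟨⟨d, m⟩, e⟩⟩, ?_⟩
  have : φ.ker = (C[x]).subgroupOf D := by
    ext d; exact commutatorElement_eq_one_iff_mul_comm.trans mem_cent1.symm
  rw [← index_ker, this, inf_comm, ← card_subgroupOf, card_mul_index]

theorem cm_norm {Q : Subgroup G} {k d : G} (hk : k ∈ N(Q)) (hd : d ∈ Q) : ⁅k, d⁆ ∈ Q :=
  mul_mem (conj_mem_of_norm hk hd) (inv_mem hd)
theorem cm_norm' {Q : Subgroup G} {k d : G} (hk : k ∈ N(Q)) (hd : d ∈ Q) : ⁅d, k⁆ ∈ Q := by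
  rw [← commutatorElement_inv]; exact inv_mem (cm_norm hk hd)

variable {z u v x y : G} (h : MG z) (a : Ark z E) (l : La z E) (c : Lc z E)
include h

theorem nK (uE : u ∈ E) (b : IsConj z u) : C(E) ≤ N(Qo u) := (cent_le_cent1 uE).trans (nQ h b)

include c in
theorem cm_u (uE : u ∈ E) (b : IsConj z u) (hx : x ∈ (Qo u ⊔ E) ⊓ C(E)) (hy : y ∈ (Qo u ⊔ E) ⊓ C(E)) : ⁅x, y⁆ ∈ zpowers u := by
  obtain ⟨d, hd, e, he, rfl⟩ := c.dec u uE b x hx.1 hx.2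
  obtain ⟨d', hd', e', he', rfl⟩ := c.dec u uE b y hy.1 hy.2
  rw [cm_E' he' hx.2, ← commutatorElement_inv, cm_E' he hd'.2]
  exact inv_mem ((es h b).comm_mem hd'.1 hd.1)

include h a l c in
theorem bigT (vE : v ∈ E) (uE : u ∈ E) (bv : IsConj z v) (b : IsConj z u) (m : u ∈ Qo v) (n : u ≠ v) :
    2 ^ 13 ≤ #(Qo v ⊓ C(E) ⊓ (Qo u ⊔ E)) := by
  obtain ⟨t, tE, t1, t2⟩ := l.two v vE u uE bv b n.symm
  have := two_le (A := Qo v ⊓ Qo u ⊓ C(E)) (B := Qo v ⊓ C(E) ⊓ (Qo u ⊔ E)) (lt_of_le_of_ne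
    (fun s hs => ⟨⟨hs.1.1, hs.2⟩, mem_sup_left hs.1.2⟩) fun e => t2 (e.ge ⟨⟨t1, l.EC tE⟩, mem_sup_right tE⟩).1.2)
  have := c.e7 v vE u uE bv b m n
  omega

include l c

theorem self_perp (hx : x ∈ C(E)) (nx : x ∉ E) (k : #(Ux z E x) = 32) : E ⊓ QU (Ux z E x) = Ux z E x := by
  have := l.perp _ Ux_le (c.sUx x hx nx)
  exact (eq_of_le_of_card_eq (le_inf Ux_le (c.sUx x hx nx).le_QU) (by rw [k] at this ⊢; omega)).symm

include a in
theorem kc' (hx : x ∈ C(E)) (nx : x ∉ E) (k32 : #(Ux z E x) = 32) {k : G} (hk : k ∈ C(E)) : ⁅k, x⁆ ∈ Ux z E x := by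
  rw [← self_perp h l c hx nx k32]
  refine ⟨a.sp (commutator_mem_commutator hk hx), mem_QU.2 fun u hu n => ?_⟩
  obtain ⟨uE, b, m⟩ := ((c.mUx x hx nx u).1 hu).resolve_left n
  obtain ⟨d, hd, e, he, rfl⟩ := c.dec u uE b x m hx
  rw [cm_E' he hk]
  exact cm_norm (nK h uE b hk) hd.1

theorem K3 (s : Sq z) (hx : x ∈ C(E)) (nx : x ∉ E) (hy : y ∈ C(E)) (ny : y ∉ E) (n : x⁻¹ * y ∉ E) :
    #(Ux z E x ⊓ Ux z E y) ≤ 8 := by
  by_contra k
  have sx := c.sUx x hx nx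
  have : Fact (Nat.Prime 2) := ⟨Nat.prime_two⟩
  obtain ⟨j, hj⟩ := (Nat.dvd_prime_pow Nat.prime_two).1 (l.card ▸ card_dvd (inf_le_left.trans Ux_le : Ux z E x ⊓ Ux z E y ≤ E))
  obtain ⟨U, hU⟩ := Sylow.exists_subgroup_card_pow_prime 2 (G := ↥(Ux z E x ⊓ Ux z E y)) (n := 4) (hj.2 ▸ pow_dvd_pow 2 (by
    by_contra t; rw [hj.2] at k; exact k (Nat.pow_le_pow_right two_pos (by omega : j ≤ 3))))
  have hU' : #(U.map (Ux z E x ⊓ Ux z E y).subtype) = 16 := (card_map_of_injective (subtype_injective _)).trans hU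
  have le : U.map (Ux z E x ⊓ Ux z E y).subtype ≤ Ux z E x ⊓ Ux z E y := map_subtype_le _
  generalize U.map (Ux z E x ⊓ Ux z E y).subtype = U at hU' le
  have sU := sx.mono (le.trans inf_le_left)
  have UE := (le.trans inf_le_left).trans Ux_le
  obtain ⟨g, t⟩ := s U sU hU'
  obtain ⟨e, he, m⟩ := l.rep U UE sU x fun u hu n => (((c.mUx x hx nx u).1 (le hu).1).resolve_left n).2.2
  obtain ⟨e', he', m'⟩ := l.rep U UE sU y fun u hu n => (((c.mUx y hy ny u).1 (le hu).2).resolve_left n).2.2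
  have p := l.perp U UE sU
  have := idx2 (inf_le_right : E ⊓ QU U ≤ QU U) (by rw [hU'] at p; rw [t.card]; omega) (inv_mem m) m'
    (fun k => nx ((mul_mem_cancel_right he).1 (inv_mem_iff.1 k.1))) fun k => ny ((mul_mem_cancel_right he').1 k.1)
  exact n (by simpa [mul_assoc] using mul_mem (mul_mem he this.1) (inv_mem he'))

end

section
variable {G : Type} [Group G] [Finite G] {E : Subgroup G} {z u v x y : G} (h : MG z) (s : Sq z) (a : Ark z E) (l : La z E)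
  (c : Lc z E) (k1 : K1 z E)
include h s a l c k1

theorem K2 (hx : x ∈ C(E)) (nx : x ∉ E) (x2 : x * x = 1) (uE : u ∈ E) (bu : IsConj z u) (xu : x ∈ Qo u ⊔ E) (hy : y ∈ C(E))
    (ny : y ∉ E) (vE : v ∈ E) (bv : IsConj z v) (yv : y ∈ Qo v ⊔ E) (n : v ∉ Qo u) (xy : x * y = y * x) :
    #(Ux z E x ⊓ Ux z E y) = 8 := by
  have n' : u ∉ Qo v := fun k => n (symm h bv bu k)
  have k32 := k1 u uE bu x ⟨xu, hx⟩ nx x2
  have mU := c.mUx x hx nx
  have uU : u ∈ Ux z E x := (mU u).2 (.inr ⟨uE, bu, xu⟩)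
  have xv : x ∉ Qo v ⊔ E := fun k => nx (c.e6 u uE v vE bu bv n ⟨⟨xu, k⟩, hx⟩)
  have le8 : ∀ w ∈ C(E), w ∉ E → w ∈ Qo v ⊔ E → #(Ux z E x ⊓ Ux z E w) ≤ 8 := fun w hw nw wv => K3 h l c s hx nx hw nw fun k =>
    xv (by simpa using mul_mem wv (inv_mem (mem_sup_right k : x⁻¹ * w ∈ Qo v ⊔ E)))
  obtain ⟨R, hR, cR⟩ := cnt a.sp (inf_le_right : Qo v ⊓ C(E) ≤ _) hx
  have RU : R ≤ Ux z E x ⊓ Qo v := fun r hr => by
    obtain ⟨d, hd, rfl⟩ := (hR r).1 hr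
    exact ⟨kc' h a l c hx nx k32 hd.2, cm_norm' (nK h vE bv hx) hd.1⟩
  have U16 : #(Ux z E x ⊓ Qo v) ≤ 16 := by
    have := two_le (lt_of_le_of_ne (inf_le_left : Ux z E x ⊓ Qo v ≤ _) fun e => n' (e.ge uU).2)
    omega
  have R16 : 16 ≤ #R := by
    have le : Ux z E x ≤ R ⊔ zpowers u := fun p hp => by
      by_cases p1 : p = 1
      · exact p1 ▸ one_mem _
      obtain ⟨pE, bp, m⟩ := ((mU p).1 hp).resolve_left p1
      obtain ⟨k, hk, -, rfl⟩ := c.nd p pE bp 1 (one_mem _) x ⟨m, hx⟩ (by simpa using nx)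
      obtain ⟨d, hd, d', hd', e, he, rfl⟩ := c.kk u uE v vE bu bv n k hk.2
      rw [cm_mul a.sp (mul_mem hd.2 hd'.2) (l.EC he) hx, cm_E he hx, mul_one, cm_mul a.sp hd.2 hd'.2 hx]
      exact mul_mem (mem_sup_right (cm_u h c uE bu ⟨mem_sup_left hd.1, hd.2⟩ ⟨xu, hx⟩)) (mem_sup_left ((hR _).2 ⟨_, hd', rfl⟩))
    have RE : R ≤ E := RU.trans (inf_le_left.trans Ux_le)
    have := (card_le le).trans (Nat.le_of_dvd (Nat.mul_pos (card_pos _) (card_pos _))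
      (card_sup_dvd (norms_of_cents ((zpowers_le.2 (l.EC uE)).trans (cent_mono RE)))))
    rw [(es h bu).card_zp] at this
    omega
  have cU : #(Ux z E x ⊓ Qo v) = 16 := le_antisymm U16 (R16.trans (card_le RU))
  have cN : #(Qo v ⊓ C(E) ⊓ C[x]) = 2 ^ 13 := by
    rw [a.cardD v vE bv, le_antisymm ((card_le RU).trans U16) R16] at cR
    omega
  have WN : E ⊓ Qo v ≤ Qo v ⊓ C(E) ⊓ C[x] := fun e he => ⟨⟨he.2, l.EC he.1⟩, mem_cent1.2 (mem_cent.1 hx e he.1)⟩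
  have eqs : ∀ w ∈ C(E), w ∉ E → {p ∈ (↑(Ux z E x ⊓ Qo v) : Set G) \ {1} | w ∈ Qo p ⊔ E} =
      (↑(Ux z E x ⊓ Qo v ⊓ Ux z E w) : Set G) \ {1} := fun w hw nw => by
    ext p
    refine ⟨fun ⟨⟨m, p1⟩, k⟩ => ⟨⟨m, ?_⟩, p1⟩, fun ⟨m, p1⟩ => ⟨⟨m.1, p1⟩, (((c.mUx w hw nw p).1 m.2).resolve_left p1).2.2⟩⟩
    obtain ⟨pE, bp, -⟩ := ((mU p).1 m.1).resolve_left p1
    exact (c.mUx w hw nw p).2 (.inr ⟨pE, bp, k⟩)
  have key := dc ((↑(Ux z E x ⊓ Qo v) : Set G) \ {1}) ((↑(Qo v ⊓ C(E) ⊓ C[x]) : Set G) \ ↑(E ⊓ Qo v)) (fun p w => w ∈ Qo p ⊔ E)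
    (m := 7 * 512) (k := 7) (fun p hp => ?_) (fun w hw => ?_) ?_
  · obtain ⟨d, hd, e, he, rfl⟩ := c.dec v vE bv y yv hy
    have nd : d ∉ E := fun k => ny (mul_mem k he)
    have dx : d ∈ C[x] := mem_cent1.2 (mul_right_cancel (b := e) (by
      rw [mul_assoc, ← mem_cent.1 hx e he, ← mul_assoc, ← xy, mul_assoc]))
    have k := key d ⟨⟨hd, dx⟩, fun k => nd k.1⟩
    rw [eqs d hd.2 nd] at k
    have k' := nc_one (Ux z E x ⊓ Qo v ⊓ Ux z E d)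
    have le : Ux z E x ⊓ Qo v ⊓ Ux z E d ≤ Ux z E x ⊓ Ux z E (d * e) := fun p hp => ⟨hp.1.1, (c.mUx _ hy ny p).2
      (((c.mUx d hd.2 nd p).1 hp.2).imp_right fun t => ⟨t.1, t.2.1, mul_mem t.2.2 (mem_sup_right he)⟩)⟩
    have := card_le le
    have := le8 _ hy ny yv
    omega
  · obtain ⟨pE, bp, m⟩ := ((mU p).1 hp.1.1).resolve_left hp.2
    have := bigT h a l c vE pE bv bp hp.1.2 fun e => xv (e ▸ m)
    obtain ⟨R', hR', cR'⟩ := cnt a.sp (D := Qo v ⊓ C(E) ⊓ (Qo p ⊔ E)) (inf_le_left.trans inf_le_right) hx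
    have r2 : #R' ≤ 2 := (es h bp).card_zp ▸ card_le fun r hr => by
      obtain ⟨d, hd, rfl⟩ := (hR' r).1 hr
      exact cm_u h c pE bp ⟨hd.2, hd.1.2⟩ ⟨m, hx⟩
    have t := nc_diff (A := Qo v ⊓ C(E) ⊓ (Qo p ⊔ E) ⊓ C[x]) (B := E ⊓ Qo v) fun e he =>
      ⟨⟨(WN he).1, mem_sup_right he.1⟩, (WN he).2⟩
    rw [l.cardW v vE bv] at t
    have t2 := Nat.mul_le_mul_left #(Qo v ⊓ C(E) ⊓ (Qo p ⊔ E) ⊓ C[x]) r2
    refine le_trans (by omega) (Set.ncard_le_ncard (s := (↑(Qo v ⊓ C(E) ⊓ (Qo p ⊔ E) ⊓ C[x]) : Set G) \ ↑(E ⊓ Qo v)) ?_)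
    exact fun w hw => ⟨⟨⟨hw.1.1.1, hw.1.2⟩, hw.2⟩, hw.1.1.2⟩
  · have nw : w ∉ E := fun k => hw.2 ⟨k, hw.1.1.1⟩
    rw [eqs w hw.1.1.2 nw]
    have k' := nc_one (Ux z E x ⊓ Qo v ⊓ Ux z E w)
    have := (card_le (inf_le_inf_right _ inf_le_left : Ux z E x ⊓ Qo v ⊓ Ux z E w ≤ _)).trans
      (le8 w hw.1.1.2 nw (mem_sup_left hw.1.1.1))
    omega
  · have t := nc_diff WN
    have t' := nc_one (Ux z E x ⊓ Qo v)
    rw [l.cardW v vE bv, cN] at t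
    omega

omit s c k1 in
theorem ex_uv : ∃ u ∈ E, ∃ v ∈ E, IsConj z u ∧ IsConj z v ∧ v ∉ Qo u := by
  obtain ⟨e, p, rfl, k, -⟩ := a.co
  have b : IsConj z (e (Pi.single (.inl 0) 1)) := (k _ (by simp)).1 (by simp [Cfsg.quadFormPlus, Pi.single_apply])
  have uE := p.mem (Pi.single (.inl 0) 1)
  generalize e (Pi.single (.inl 0) 1) = u at b uE
  obtain ⟨t, tE, nt⟩ : ∃ t ∈ p.grp, t ∉ Qo u := by
    by_contra! k
    have := l.cardW u uE b
    rw [inf_eq_left.2 k, l.card] at this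
    omega
  by_cases bt : IsConj z t
  · exact ⟨u, uE, t, tE, b, bt, nt⟩
  · exact ⟨u, uE, t * u, mul_mem tE uE, b, by_contra fun k => bt ((l.hyp u uE b t tE nt).2 k),
      fun k => nt ((mul_mem_cancel_right (self h b)).1 k)⟩

theorem k32 (hx : x ∈ C(E)) (nx : x ∉ E) (x2 : x * x = 1) : #(Ux z E x) = 32 := by
  obtain ⟨u, uE, v, vE, bu, bv, n⟩ := ex_uv h a l
  obtain ⟨d, hd, d', hd', e, he, rfl⟩ := c.kk u uE v vE bu bv n x hx
  by_cases nd : d ∈ E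
  · exact k1 v vE bv _ ⟨mul_mem (mul_mem (mem_sup_right nd) (mem_sup_left hd'.1)) (mem_sup_right he), hx⟩ nx x2
  by_cases nd' : d' ∈ E
  · exact k1 u uE bu _ ⟨mul_mem (mul_mem (mem_sup_left hd.1) (mem_sup_right nd')) (mem_sup_right he), hx⟩ nx x2
  have e1 : d * d' * (d * d') = 1 := by
    rwa [mul_assoc (d * d'), ← mul_assoc e, mem_cent.1 (mul_mem hd.2 hd'.2) e he, mul_assoc _ e, l.ab e he, mul_one] at x2
  have e2 : d * d * (⁅d⁻¹, d'⁆ * (d' * d')) = 1 := by rw [← e1, commutatorElement_def]; group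
  have mu : ⁅d⁻¹, d'⁆ ∈ Qo u := cm_norm' (nK h uE bu hd'.2) (inv_mem hd.1)
  have mv : ⁅d⁻¹, d'⁆ ∈ Qo v := cm_norm (nK h vE bv (inv_mem hd.2)) hd'.1
  have d2 : d * d = 1 := ((es h bu).sq d hd.1).resolve_right fun k => n (symm h bv bu (by
    rw [k] at e2; rw [eq_inv_of_mul_eq_one_left e2]; exact inv_mem (mul_mem mv (mul_mem hd'.1 hd'.1))))
  rw [d2, one_mul] at e2
  have d2' : d' * d' = 1 := ((es h bv).sq d' hd'.1).resolve_right fun k => n (by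
    rw [k] at e2; rw [eq_inv_of_mul_eq_one_right e2]; exact inv_mem mu)
  rw [d2', mul_one, inv_eq_of_mul_eq_one_right d2, commutatorElement_eq_one_iff_mul_comm] at e2
  have k := K2 h s a l c k1 hd.2 nd d2 uE bu (mem_sup_left hd.1) hd'.2 nd' vE bv (mem_sup_left hd'.1) n e2
  obtain ⟨p, hp, p1⟩ := exists_ne_one (H := Ux z E d ⊓ Ux z E d') (ne_bot_iff_one_lt_card.2 (by omega))
  obtain ⟨pE, bp, m⟩ := ((c.mUx d hd.2 nd p).1 hp.1).resolve_left p1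
  exact k1 p pE bp _ ⟨mul_mem (mul_mem m (((c.mUx d' hd'.2 nd' p).1 hp.2).resolve_left p1).2.2) (mem_sup_right he), hx⟩ nx x2

end

theorem kb : KB := by
  intro G _ _ z E h s a l c k1
  refine ⟨fun x hx nx x2 => k32 h s a l c k1 hx nx x2, fun x hx nx x2 k hk => kc' h a l c hx nx (k32 h s a l c k1 hx nx x2) hk,
    fun x hx nx x2 y hy ny y2 xy => ?_, fun u uE b w wu nw wE w2 => ?_⟩
  · by_cases k : ∀ u ∈ Ux z E x, u ≠ 1 → Ux z E y ≤ Qo u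
    · have le : Ux z E y ≤ Ux z E x := by
        rw [← self_perp h l c hx nx (k32 h s a l c k1 hx nx x2)]
        exact le_inf Ux_le fun v hv => mem_QU.2 fun u hu n => k u hu n hv
      have e := k32 h s a l c k1 hy ny y2
      refine ⟨by rw [inf_eq_right.2 le, e]; omega, fun n => ?_⟩
      have := K3 h l c s hx nx hy ny (by rwa [inv_eq_of_mul_eq_one_right x2])
      rw [inf_eq_right.2 le] at this
      omega
    · push Not at k
      obtain ⟨u, hu, u1, k⟩ := k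
      obtain ⟨v, hv, n⟩ := SetLike.not_le_iff_exists.1 k
      obtain ⟨uE, bu, m⟩ := ((c.mUx x hx nx u).1 hu).resolve_left u1
      obtain ⟨vE, bv, m'⟩ := ((c.mUx y hy ny v).1 hv).resolve_left fun e => n (e ▸ one_mem _)
      have := K2 h s a l c k1 hx nx x2 uE bu m hy ny vE bv m' n xy
      exact ⟨this.ge, fun _ => this⟩
  · have hw := a.e3 u uE b w wu nw w2
    obtain ⟨k, hk, -, e⟩ := c.nd u uE b 1 (one_mem _) w ⟨wu, hw⟩ (by simpa using wE)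
    have cj : IsConj w (w * u) := isConj_iff.2 ⟨k, by rw [← mem_cent.1 hw u uE, ← e, commutatorElement_def]; group⟩
    suffices IsConj z w from ⟨this, this.trans cj⟩
    by_contra nb
    have a2 : A2 z w := ⟨w2, fun e => wE (e ▸ one_mem _), nb⟩
    have sw := c.sUx w hw wE
    have := l.nb _ Ux_le sw w fun p hp p1 => (((c.mUx w hw wE p).1 hp).resolve_left p1).2.2
    rw [k1 u uE b w ⟨wu, hw⟩ wE w2] at this
    obtain ⟨p, hp, p1⟩ := exists_ne_one (H := Nb z (Ux z E w) w) (ne_bot_iff_one_lt_card.2 (by omega))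
    obtain ⟨pU, m⟩ := ((mem_Nb h sw).1 hp).resolve_left p1
    exact nw (memQ h (sw p pU p1).1 b ((sw p pU p1).2 ((c.mUx w hw wE u).2 (.inr ⟨uE, b, wu⟩))) m a2 (a2.conj cj))

theorem card_sing : 528 ≤ {y : V10 | q10 y = 0}.ncard := by
  have : {y : V10 | q10 y = 0} = ↑(Finset.univ.filter fun y : V10 => Cfsg.quadFormPlus 5 (ZMod 2) y = 0) := by
    ext y; simp
  rw [this, Set.ncard_coe_finset]
  decide +kernel

section
variable {G : Type} [Group G] [Finite G] {E : Subgroup G} {z u v x y : G} (h : MG z) (a : Ark z E) (l : La z E)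
  (c : Lc z E)
include h a l

theorem n270 (uE : u ∈ E) (b : IsConj z u) : 270 ≤ {v | v ∈ E ∧ IsConj z v ∧ v ∈ Qo u ∧ v ≠ u}.ncard := by
  have h1 : 528 ≤ {v | v ∈ E ∧ (v = 1 ∨ IsConj z v)}.ncard := by
    obtain ⟨e, p, rfl, k, -⟩ := a.co
    refine card_sing.trans (Set.ncard_le_ncard_of_injOn e (fun y hy => ⟨p.mem y, ?_⟩) p.injective.injOn)
    by_cases y0 : y = 0
    exacts [.inl (y0 ▸ p.zero), .inr ((k y y0).1 hy)]
  have h2 : 2 * {v | v ∈ E ∧ IsConj z v ∧ v ∉ Qo u}.ncard ≤ 512 := by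
    have t := nc_diff (inf_le_left : E ⊓ Qo u ≤ E)
    rw [l.card, l.cardW u uE b] at t
    have e := Set.ncard_image_of_injective {v | v ∈ E ∧ IsConj z v ∧ v ∉ Qo u} (mul_left_injective u)
    have := Set.ncard_union_eq (s := {v | v ∈ E ∧ IsConj z v ∧ v ∉ Qo u}) (t := (· * u) '' {v | v ∈ E ∧ IsConj z v ∧ v ∉ Qo u})
      (Set.disjoint_left.2 fun v hv ⟨w, hw, e⟩ => (l.hyp u uE b w hw.1 hw.2.2).1 hw.2.1 ((show w * u = v from e) ▸ hv.2.1))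
    have le := Set.ncard_le_ncard (s := {v | v ∈ E ∧ IsConj z v ∧ v ∉ Qo u} ∪ (· * u) '' {v | v ∈ E ∧ IsConj z v ∧ v ∉ Qo u})
      (t := (E : Set G) \ ↑(E ⊓ Qo u)) (by
        rintro v (hv | ⟨w, hw, rfl⟩)
        exacts [⟨hv.1, fun k => hv.2.2 k.2⟩, ⟨mul_mem hw.1 uE, fun k => hw.2.2 ((mul_mem_cancel_right (self h b)).1 k.2)⟩])
    omega
  have le := Set.ncard_le_ncard (s := {v | v ∈ E ∧ (v = 1 ∨ IsConj z v)}) (t := insert 1 (insert u
    ({v | v ∈ E ∧ IsConj z v ∧ v ∈ Qo u ∧ v ≠ u} ∪ {v | v ∈ E ∧ IsConj z v ∧ v ∉ Qo u}))) fun v hv => by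
      simp only [Set.mem_insert_iff, Set.mem_union, Set.mem_ofPred_eq] at hv ⊢
      tauto
  have := Set.ncard_insert_le (1 : G) (insert u ({v | v ∈ E ∧ IsConj z v ∧ v ∈ Qo u ∧ v ≠ u} ∪ {v | v ∈ E ∧ IsConj z v ∧ v ∉ Qo u}))
  have := Set.ncard_insert_le u ({v | v ∈ E ∧ IsConj z v ∧ v ∈ Qo u ∧ v ≠ u} ∪ {v | v ∈ E ∧ IsConj z v ∧ v ∉ Qo u})
  have := Set.ncard_union_le {v | v ∈ E ∧ IsConj z v ∧ v ∈ Qo u ∧ v ≠ u} {v | v ∈ E ∧ IsConj z v ∧ v ∉ Qo u}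
  omega

theorem ninv (uE : u ∈ E) (b : IsConj z u) : {x | x ∈ Qo u ⊓ C(E) ∧ x * x = 1}.ncard ≤ 136 * 512 := by
  have e := es h b
  have ce : CE (G := ↥(Qo u ⊓ C(E))) ⟨u, self h b, l.EC uE⟩ := ⟨fun k => e.z1 (congrArg Subtype.val k), Subtype.ext e.zz,
    fun x y => (e.comm x x.2.1 y y.2.1).imp Subtype.ext Subtype.ext, fun x => (e.sq x x.2.1).imp Subtype.ext Subtype.ext,
    fun x => Subtype.ext (e.cent x x.2.1)⟩
  have := Fintype.ofFinite ↥(Qo u ⊓ C(E))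
  have s := ce.sum_sq
  have t := CE.two_mul_card (G := ↥(Qo u ⊓ C(E)))
  have zc : #(center ↥(Qo u ⊓ C(E))) ≤ 2 ^ 9 := by
    rw [← card_map_of_injective (subtype_injective (Qo u ⊓ C(E))), center_map_eq, ← l.cardW u uE b]
    exact card_le fun x hx => ⟨a.cD u uE b hx.2, hx.1.1⟩
  have e1 : {x | x ∈ Qo u ⊓ C(E) ∧ x * x = 1}.ncard = Nat.card {x : ↥(Qo u ⊓ C(E)) // x ^ 2 = 1} :=
    Nat.card_congr ⟨fun x => ⟨⟨x.1, x.2.1⟩, Subtype.ext ((pow_two _).trans x.2.2)⟩,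
      fun x => ⟨x.1.1, x.1.2, (pow_two _).symm.trans (congrArg Subtype.val x.2)⟩, fun _ => rfl, fun _ => rfl⟩
  rw [a.cardD u uE b] at s t
  generalize ∑ x : ↥(Qo u ⊓ C(E)), sg (x * x) = S at s t
  have : S ^ 2 ≤ (2 ^ 13) ^ 2 := by
    rw [s]; split_ifs
    · have : (#(center ↥(Qo u ⊓ C(E))) : ℤ) ≤ 2 ^ 9 := by exact_mod_cast zc
      push_cast; linarith
    · positivity
  have := (abs_le_of_sq_le_sq' this (by positivity)).2
  rw [e1]; push_cast at t; omega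

end

theorem ka : KA := by
  intro G _ _ z E h a l c u uE b x hx nx x2
  obtain ⟨d, hd, e, he, rfl⟩ := c.dec u uE b x hx.1 hx.2
  have nd : d ∉ E := fun k => nx (mul_mem k he)
  have d2 : d * d = 1 := by
    rwa [mul_assoc, ← mul_assoc e, mem_cent.1 hd.2 e he, mul_assoc, l.ab e he, mul_one] at x2
  have eqs : ∀ w ∈ Qo u ⊓ C(E), w ∉ E → {v ∈ {v | v ∈ E ∧ IsConj z v ∧ v ∈ Qo u ∧ v ≠ u} | w ∈ Qo v ⊔ E}.ncard + 2 = #(Ux z E w) := by
    intro w hw nw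
    have mU := c.mUx w hw.2 nw
    have uU := (mU u).2 (.inr ⟨uE, b, mem_sup_left hw.1⟩)
    rw [← nc_diff (zpowers_le.2 uU), (es h b).card_zp]
    congr 2
    ext v
    refine ⟨fun ⟨m, k⟩ => ⟨(mU v).2 (.inr ⟨m.1, m.2.1, k⟩), fun t => ((es h b).mem_zp.1 t).elim (ne1 h m.2.1) m.2.2.2⟩,
      fun ⟨m, k⟩ => ?_⟩
    obtain ⟨vE, bv, t⟩ := ((mU v).1 m).resolve_left fun e => k (e ▸ one_mem _)
    exact ⟨⟨vE, bv, (c.sUx w hw.2 nw u uU (ne1 h b)).2 m, fun e => k (e ▸ mem_zpowers _)⟩, t⟩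
  have key := dc {v | v ∈ E ∧ IsConj z v ∧ v ∈ Qo u ∧ v ≠ u} ({x | x ∈ Qo u ⊓ C(E) ∧ x * x = 1} \ ↑(E ⊓ Qo u))
    (fun v w => w ∈ Qo v ⊔ E) (m := 15 * 512) (k := 30) (fun v ⟨vE, bv, m, n⟩ => ?_) (fun w hw => ?_) ?_ d ⟨⟨hd, d2⟩, fun k => nd k.1⟩
  · have := eqs d hd nd
    rw [show Ux z E (d * e) = Ux z E d by simp only [Ux, mul_mem_cancel_right (mem_sup_right he : e ∈ Qo _ ⊔ E)]]
    omega
  · have := bigT h a l c uE vE b bv m n
    have t := nc_diff (A := Qo u ⊓ C(E) ⊓ (Qo v ⊔ E)) (B := E ⊓ Qo u) fun e he => ⟨⟨he.2, l.EC he.1⟩, mem_sup_right he.1⟩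
    rw [l.cardW u uE b] at t
    refine le_trans (by omega) (Set.ncard_le_ncard (s := (↑(Qo u ⊓ C(E) ⊓ (Qo v ⊔ E)) : Set G) \ ↑(E ⊓ Qo u)) ?_)
    refine fun w hw => ⟨⟨⟨hw.1.1, ((es h b).sq w hw.1.1.1).resolve_right fun k => ?_⟩, hw.2⟩, hw.1.2⟩
    obtain ⟨d, hd, e, he, rfl⟩ := c.dec v vE bv w hw.1.2 hw.1.1.2
    rw [mul_assoc, ← mul_assoc e, mem_cent.1 hd.2 e he, mul_assoc, l.ab e he, mul_one] at k
    exact ((es h bv).sq d hd.1).elim (fun t => ne1 h b (k.symm.trans t)) fun t => n (t.symm.trans k)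
  · have nw : w ∉ E := fun k => hw.2 ⟨k, hw.1.1.1⟩
    have := eqs w hw.1.1 nw
    have p := l.perp _ Ux_le (c.sUx w hw.1.1.2 nw)
    have q := card_le (le_inf Ux_le (c.sUx w hw.1.1.2 nw).le_QU)
    have : #(Ux z E w) ≤ 32 := by nlinarith
    omega
  · have := n270 h a l uE b
    have t := ninv h a l uE b
    have := Set.ncard_sdiff_add_ncard_of_subset (s := ↑(E ⊓ Qo u)) (t := {x | x ∈ Qo u ⊓ C(E) ∧ x * x = 1})
      fun e he => ⟨⟨he.2, l.EC he.1⟩, l.ab e he.1⟩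
    have w : (↑(E ⊓ Qo u) : Set G).ncard = 2 ^ 9 := l.cardW u uE b
    omega

section
variable {G : Type} [Group G] [Finite G] {z s s' g : G} {𝒜 : Subgroup G → Prop} {E E' U : Subgroup G}

theorem mem_sup_inv {A : Subgroup G} {t x : G} (n : t ∈ C(A)) (tt : t * t = 1) : x ∈ A ⊔ zpowers t ↔ x ∈ A ∨ x * t ∈ A := by
  refine ⟨fun m => ?_, fun m => m.elim mem_sup_left fun m => by
    simpa [mul_assoc, tt] using mul_mem (mem_sup_left m) (mem_sup_right (mem_zpowers t) : t ∈ A ⊔ zpowers t)⟩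
  obtain ⟨a, ha, b, hb, rfl⟩ := (mem_sup_of_norm (zpowers_le.2 (cent_le_norm _ n))).1 m
  rcases (mem_zpowers_inv tt).1 hb with rfl | rfl
  exacts [.inl (by simpa using ha), .inr (by simpa [mul_assoc, tt] using ha)]

theorem sq_sup {A B : Subgroup G} (a : ∀ x ∈ A, x * x = 1) (b : ∀ x ∈ B, x * x = 1) (c : B ≤ C(A)) : ∀ x ∈ A ⊔ B, x * x = 1 := by
  intro x hx
  obtain ⟨p, hp, q, hq, rfl⟩ := (mem_sup_of_norm (norms_of_cents c)).1 hx
  rw [mul_assoc, ← mul_assoc q, ← mem_cent.1 (c hq) p hp, mul_assoc, b q hq, mul_one, a p hp]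

theorem sing32 (l : La z E) (le : U ≤ E) (u : Sing z U) : #U ≤ 32 ∧ (#U = 32 → E ⊓ QU U = U) := by
  have p := l.perp _ le u
  have q := card_le (le_inf le u.le_QU)
  exact ⟨by nlinarith, fun k => (eq_of_le_of_card_eq (le_inf le u.le_QU) (by rw [k] at p ⊢; omega)).symm⟩

/-- the singular group of order 16 attached to a pair -/
structure Hf (z : G) (E : Subgroup G) (s s' : G) (U : Subgroup G) : Prop where
  sing : Sing z U
  card : #U = 16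
  le : U ≤ E
  mem : ∀ r, r ∈ U ↔ r = 1 ∨ IsConj z r ∧ r ∈ Qo s ∧ r ∈ Qo s'
  sU : s ∉ U
  ux : Ux z E s' = U ⊔ zpowers s

variable (cx : Cx z 𝒜) (p : Pr z 𝒜 E s s') (p' : Pr z 𝒜 E' s' s)
include cx p p'

theorem sK : s' ∈ C(E) := (cx.ark p.a).e3 s p.sE p.b s' p.mem p.nQ (sq cx.mg p'.b)

theorem half1 : ∃ U, Hf z E s s' U := by
  have h := cx.mg
  have l := cx.la p.a
  have c := cx.lc p.a
  have K := sK cx p p'
  have s2 := sq h p'.b
  have k32 := (cx.kf p.a).k32 s' K p.nE s2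
  have mU := c.mUx s' K p.nE
  have sU := c.sUx s' K p.nE
  have m : s ∈ Ux z E s' := (mU s).2 (.inr ⟨p.sE, p.b, p.mem⟩)
  have n : s ∉ Nb z (Ux z E s') s' := fun k => ((mem_Nb h sU).1 k).elim (ne1 h p.b) fun k => p.nQ k.2
  have g16 := l.nb _ Ux_le sU s' fun r hr r1 => (((mU r).1 hr).resolve_left r1).2.2
  have t1 := two_le (lt_of_le_of_ne (Nb_le : Nb z (Ux z E s') s' ≤ _) fun e => n (e.ge m))
  have t2 := two_le (lt_of_le_of_ne (le_sup_left : Nb z (Ux z E s') s' ≤ _ ⊔ zpowers s) fun e => n (e.ge (mem_sup_right (mem_zpowers s))))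
  have k : ∀ r ∈ E, IsConj z r → r ∈ Qo s' → r ∈ Nb z (Ux z E s') s' := fun r rE b q => (mem_Nb h sU).2 (.inr
    ⟨(mU r).2 (.inr ⟨rE, b, mem_sup_left (symm h p'.b b q)⟩), symm h p'.b b q⟩)
  have k' : ∀ r ∈ Nb z (Ux z E s') s', r ∈ Qo s := fun r hr => (sU s m (ne1 h p.b)).2 (Nb_le hr)
  refine ⟨_, sU.mono Nb_le, by omega, Nb_le.trans Ux_le, fun r => ⟨fun hr => or_iff_not_imp_left.2 fun r1 => ?_, ?_⟩, n,
    (eq_of_le_of_card_ge (sup_le Nb_le (zpowers_le.2 m)) (by omega)).symm⟩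
  · have := ((mem_Nb h sU).1 hr).resolve_left r1
    exact ⟨(sU r this.1 r1).1, k' r hr, symm h (sU r this.1 r1).1 p'.b this.2⟩
  rintro (rfl | ⟨b, q, q'⟩)
  · exact one_mem _
  have rK : r ∈ C(E) := (cx.ark p.a).e1 s p.sE p.b s' p.mem p.nQ ⟨q, (es h p'.b).le_cent q'⟩
  by_cases e : r ∈ E ⊔ zpowers s'
  · rcases (mem_sup_inv K s2).1 e with e | e
    · exact k r e b q'
    · have := k' _ (k _ e (mul_b h p'.b b q' fun t => p.nQ (t ▸ q)) (mul_mem q' (self h p'.b)))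
      exact absurd ((mul_mem_cancel_left q).1 this) p.nQ
  · obtain ⟨t, ht, t1, t2⟩ := c.nd s p.sE p.b s' ⟨p.mem, K⟩ r ⟨mem_sup_left q, rK⟩ e
    exact absurd (t2 ▸ cm_norm (nQ h p'.b (mem_cent1.2 t1)) q') p'.nQ

omit p' in
theorem Hf.sQ (f : Hf z E s s' U) (b : IsConj z s') : s ∈ QU U ∧ s' ∈ QU U :=
  ⟨mem_QU.2 fun r hr r1 => let ⟨a, c, _⟩ := ((f.mem r).1 hr).resolve_left r1; symm cx.mg p.b a c,
    mem_QU.2 fun r hr r1 => let ⟨a, _, c⟩ := ((f.mem r).1 hr).resolve_left r1; symm cx.mg b a c⟩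

omit cx p p' in
theorem Hf.leQ (f : Hf z E s s' U) : U ≤ Qo s ⊓ Qo s' := fun r hr =>
  ((f.mem r).1 hr).elim (fun e => e ▸ one_mem _) fun k => k.2

theorem half2 (f : Hf z E s s' U) (t : T4 z U g) : g ∈ E ∧ g ∉ Qo s := by
  have h := cx.mg
  have l := cx.la p.a
  have c := cx.lc p.a
  have K := sK cx p p'
  have s2 := sq h p'.b
  obtain ⟨sQ, sQ'⟩ := f.sQ cx p p'.b
  have bb := ((cx.kf p.a).a0 s p.sE p.b s' p.mem p.nQ p.nE s2).2
  obtain ⟨e, he, n⟩ : ∃ e ∈ E ⊓ QU U, e ∉ Qo s := by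
    by_contra! k
    have : E ⊓ QU U ≤ Ux z E s' := by
      rw [← self_perp h l c K p.nE ((cx.kf p.a).k32 s' K p.nE s2), f.ux]
      refine fun e he => ⟨he.1, mem_QU.2 fun r hr r1 => ?_⟩
      rcases (mem_sup_inv (cent_mono f.le (l.EC p.sE)) (sq h p.b)).1 hr with m | m
      · exact mem_QU.1 he.2 r m r1
      by_cases r2 : r * s = 1
      · rw [eq_inv_of_mul_eq_one_left r2, (es h p.b).zinv]; exact k e he
      · have := inf_le_mul h p.b (f.sing _ m r2).1 (f.leQ m).1 (fun e => r1 (by simpa using e)) ⟨k e he, mem_QU.1 he.2 _ m r2⟩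
        rwa [mul_assoc, sq h p.b, mul_one] at this
    have := card_le this
    have q := l.perp U f.le f.sing
    rw [(cx.kf p.a).k32 s' K p.nE s2] at this
    rw [f.card] at q
    omega
  obtain ⟨e, he, n, b, nb⟩ : ∃ e ∈ E ⊓ QU U, e ∉ Qo s ∧ IsConj z e ∧ ¬ IsConj z (e * s) := by
    have := l.hyp s p.sE p.b e he.1 n
    by_cases b : IsConj z e
    · exact ⟨e, he, n, b, this.1 b⟩
    · exact ⟨e * s, mul_mem he ⟨p.sE, sQ⟩, fun k => n ((mul_mem_cancel_right (self h p.b)).1 k), by_contra fun k => b (this.2 k),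
        by rwa [mul_assoc, sq h p.b, mul_one]⟩
  rcases t.d2 e he.2 s sQ b p.b ⟨l.ab _ (mul_mem he.1 p.sE), fun k => n (by
    rw [eq_inv_of_mul_eq_one_left k]; exact inv_mem (self h p.b)), nb⟩ with m | m
  · exact ⟨(E.mul_mem_cancel_left he.1).1 (f.le m), fun k => n ((mul_mem_cancel_right k).1 (mem_inf.1 (f.leQ m)).1)⟩
  have gE : g ∈ E := (mul_mem_cancel_left p.sE).1 (f.le m)
  have a2 := t.dist.2.2.2 s' sQ' p'.b (fun k => p.nE (f.le k)) fun k => p.nE ((mul_mem_cancel_right gE).1 (f.le k))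
  have e1 : s' * g = s' * s * (s * g) := by rw [mul_assoc, ← mul_assoc s, sq h p.b, one_mul]
  refine absurd ?_ a2.2.2
  rw [e1]
  by_cases r1 : s * g = 1
  · rwa [r1, mul_one]
  · exact mul_b h (f.sing _ m r1).1 bb (mem_QU.1 (mul_mem sQ' sQ) _ m r1) fun k =>
      p.nE ((mul_mem_cancel_right p.sE).1 (k ▸ f.le m))

theorem half3 (f : Hf z E s s' U) (f' : Hf z E' s' s U) (t : T4 z U g) : Geo z E E' s s' U := by
  have h := cx.mg
  have l := cx.la p.a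
  have l' := cx.la p'.a
  have c := cx.lc p.a
  have K := sK cx p p'
  have K' := sK cx p' p
  have s2 := sq h p'.b
  obtain ⟨sQ, sQ'⟩ := f.sQ cx p p'.b
  obtain ⟨gE, gs⟩ := half2 cx p p' f t
  obtain ⟨gE', gs'⟩ := half2 cx p' p f' t
  obtain ⟨gQ, bg, gU, -⟩ := t.dist
  have mF : ∀ r, r ∈ U ⊔ zpowers g ↔ r ∈ U ∨ r * g ∈ U := fun r => mem_sup_inv (f.sing.QU_cent h gQ) (sq h bg)
  have FE : U ⊔ zpowers g ≤ E := sup_le f.le (zpowers_le.2 gE)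
  have FE' : U ⊔ zpowers g ≤ E' := sup_le f'.le (zpowers_le.2 gE')
  have sF : Sing z (U ⊔ zpowers g) := l.sing _ FE fun r hr r1 => ((mF r).1 hr).elim (fun m => (f.sing r m r1).1) fun m => by
    have e : r = g * (r * g) := by rw [← mem_cent.1 (l.EC (FE hr)) g gE, ← mul_assoc, sq h bg, one_mul]
    by_cases r2 : r * g = 1
    · rwa [e, r2, mul_one]
    · rw [e]; exact mul_b h (f.sing _ m r2).1 bg (mem_QU.1 gQ _ m r2) fun k => gU (k ▸ m)
  have c32 : #(U ⊔ zpowers g) = 32 := by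
    have := two_le (lt_of_le_of_ne (le_sup_left : U ≤ U ⊔ zpowers g) fun e => gU (e.ge (mem_sup_right (mem_zpowers g))))
    have := (sing32 l FE sF).1
    have := f.card
    omega
  have EE : E ⊓ E' = U ⊔ zpowers g := by
    refine le_antisymm (fun e he => ?_) (le_inf FE FE')
    rw [← (sing32 l FE sF).2 c32]
    refine ⟨he.1, mem_QU.2 fun r hr r1 => by_contra fun n => ?_⟩
    have br := (sF r hr r1).1
    have k : ∀ v ∈ E ⊓ E', IsConj z v → v ∈ Qo r := fun v hv bv => by_contra fun n => p.nE (by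
      rw [c.gen r (FE hr) v hv.1 br bv n, ← (cx.lc p'.a).gen r (FE' hr) v hv.2 br bv n]; exact p'.sE)
    by_cases b : IsConj z e
    · exact n (k e he b)
    · exact n ((mul_mem_cancel_right (self h br)).1 (k _ (mul_mem he ⟨FE hr, FE' hr⟩) (by_contra fun k => b ((l.hyp r (FE hr) br e he.1 n).2 k))))
  have FQ : E ⊓ E' ≤ QU U := EE ▸ sF.le_QU.trans (QU_anti le_sup_left)
  have cE : E' ≤ C(E) := fun e he => by
    have k : ∀ e ∈ E', e ∈ Qo g → e ∈ C(E) := fun e he m => (cx.ark p.a).e1 g gE bg s (mem_sup_right p.sE)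
      (fun k => gs (symm h bg p.b k)) ⟨m, mem_cent1.2 (mem_cent.1 K' e he)⟩
    by_cases m : e ∈ Qo g
    · exact k e he m
    · exact (mul_mem_cancel_right K).1 (k _ (mul_mem he p'.sE) (l'.idx g gE' bg e (mem_sup_right he) s' (mem_sup_right p'.sE) m
        fun k => gs' (symm h bg p'.b k)))
  have nE' : C[s'] ⊓ C[s] ≤ N(E') := (cx.ark p'.a).e2 s' p'.sE p'.b s p'.mem p'.nQ
  refine ⟨f.sing, f.card, f.le, fun k hk => mem_norm_of_cj_le fun x hx => ?_, sQ', f.sU, f.ux, cE, fun y hy y2 m => ?_,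
    fun y hy => ?_, fun y hy e he => ?_⟩
  · obtain ⟨r, hr, rfl⟩ := mem_cj'.1 hx
    exact (f.mem _).2 (((f.mem r).1 hr).imp (fun e => by simp [e]) fun a =>
      ⟨cjB a.1 k, conj_mem_of_norm (nQ h p.b hk.1) a.2.1, conj_mem_of_norm (nQ h p'.b hk.2) a.2.2⟩)
  · have c15 := card_sup_mul_inf (norms_of_cents cE)
    rw [EE, c32, l.card, l'.card] at c15
    have := cx.rk _ (sq_sup (sq_sup l.ab l'.ab cE) (fun x hx => ((mem_zpowers_inv y2).1 hx).elim (fun e => by simp [e]) fun e => e ▸ y2)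
      (zpowers_le.2 (cent_sup E E' ▸ hy)))
    have e := eq_of_le_of_card_ge (le_sup_left : E ⊔ E' ≤ E ⊔ E' ⊔ zpowers y) (by omega)
    obtain ⟨a, ha, b, hb, rfl⟩ := (mem_sup_of_norm (norms_of_cents cE)).1 (e.ge (mem_sup_right (mem_zpowers y)))
    refine mul_mem (mem_sup_left ha) (by_contra fun n => ?_)
    obtain ⟨k, hk, k1, k2⟩ := c.nd s p.sE p.b s' ⟨p.mem, K⟩ b ⟨(mul_mem_cancel_left (mem_sup_right ha)).1 m, cE hb⟩ n
    exact p'.nE (k2 ▸ cm_norm (nE' ⟨mem_cent1.2 k1, (es h p.b).le_cent hk.1⟩) hb)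
  · rcases (mem_sup_inv K s2).1 hy.1 with a | a <;> rcases (mem_sup_inv K' (sq h p.b)).1 hy.2 with b | b
    · exact FQ ⟨a, b⟩
    · exact (mul_mem_cancel_right sQ).1 (FQ ⟨mul_mem a p.sE, b⟩)
    · exact (mul_mem_cancel_right sQ').1 (FQ ⟨a, mul_mem b p'.sE⟩)
    · refine (mul_mem_cancel_right sQ').1 ((mul_mem_cancel_right sQ).1 (FQ ⟨mul_mem a p.sE, ?_⟩))
      rw [mul_assoc, ← mem_cent.1 K s p.sE, ← mul_assoc]; exact mul_mem b p'.sE
  · have yN := nE' ⟨hy.2, cent_le_cent1 p.sE hy.1⟩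
    have m : ⁅e, y⁆ ∈ U ⊔ zpowers g := EE ▸ ⟨(cx.ark p.a).sp (commutator_mem_commutator (cE he) hy.1), cm_norm' yN he⟩
    have q : ⁅e, y⁆ ∈ Qo s' := by
      by_cases q : e ∈ Qo s'
      · exact cm_norm' (nQ h p'.b hy.2) q
      · have := l'.idx s' p'.sE p'.b e (mem_sup_right he) _ (mem_sup_right (conj_mem_of_norm yN (inv_mem he))) q fun k =>
          q (by simpa [mul_assoc] using inv_mem (conj_mem_of_norm' (nQ h p'.b hy.2) k))
        simpa [commutatorElement_def, mul_assoc] using this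
    exact ((mF _).1 m).resolve_right fun k => gs' ((mul_mem_cancel_left q).1 (f.leQ k).2)

end

theorem g3 : G3 := by
  intro G _ _ z 𝒜 cx E E' s s' p p'
  obtain ⟨U, f⟩ := half1 cx p p'
  obtain ⟨U', f'⟩ := half1 cx p' p
  obtain rfl : U = U' := by ext r; rw [f.mem, f'.mem, and_comm (a := r ∈ Qo s)]
  obtain ⟨g, t⟩ := cx.t4 U f.sing f.card
  exact ⟨U, half3 cx p p' f f' t, half3 cx p' p f' f t⟩

end H19.MX
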