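import Cfsg.Agent.H12.MS0

/-! S5899, chunk `T9`: the tall case with `C/Q ≅ L₃(3)`. -/

set_option autoImplicit false
set_option linter.unusedVariables false
set_option linter.unusedSectionVars false

namespace H19.MS
open Cfsg Subgroup H18 H17.GS H28.S H2.GW
open H19 hiding eq_bot_mono
open H28.NG hiding Hyp Uniq Ch
open H27.MS H12.MS
open scoped MatrixGroups

universe u

abbrev S9 := SL(3, ZMod 3)
def z9 : S9 := ⟨!![1, 0, 0; 0, 2, 0; 0, 0, 2], by decide +kernel⟩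
def c1 : S9 := ⟨!![2, 0, 0; 0, 1, 0; 0, 1, 2], by decide +kernel⟩
def c2 : S9 := ⟨!![2, 0, 0; 0, 0, 1; 0, 1, 0], by decide +kernel⟩
def c3 : S9 := ⟨!![2, 0, 0; 0, 2, 0; 0, 1, 1], by decide +kernel⟩
def u9 : S9 := ⟨!![2, 0, 0; 0, 0, 1; 0, 1, 1], by decide +kernel⟩
def k9 : S9 := ⟨!![1, 0, 0; 0, 1, 2; 0, 0, 1], by decide +kernel⟩
def e9 : S9 := ⟨!![1, 0, 1; 0, 1, 0; 0, 0, 1], by decide +kernel⟩
def a9 : S9 := ⟨!![1, 2, 0; 0, 1, 0; 0, 0, 1], by decide +kernel⟩
def g9 : S9 := ⟨!![0, 1, 0; 1, 0, 0; 2, 2, 2], by decide +kernel⟩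

/-- no quadratic four-group -/
theorem core {W : Type*} [CommGroup W] (h2 : ∀ w : W, w * w = 1) (α : S9 →* MulAut W)
    (h : ∀ w, α c1 (α z9 w * w) = α z9 w * w) (w : W) : α e9 w = w := by
  have m : ∀ ξ η w, α ξ (α η w) = α (ξ * η) w := fun ξ η w => by rw [map_mul]; rfl
  have mm : ∀ ξ v w, α ξ (v * w) = α ξ v * α ξ w := fun ξ => map_mul (α ξ)
  have fx : ∀ {d d'}, (∀ w, α d (α z9 w * w) = α z9 w * w) → d' * k9 = k9 * d →
      ∀ w, α d' (α z9 w * w) = α z9 w * w := fun hd e w => by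
    obtain ⟨w, rfl⟩ := (α k9).surjective w
    rw [m, show z9 * k9 = k9 * z9 by decide +kernel, ← m, ← mm, m, e, ← m, hd]
  have f2 := fx h (show c2 * k9 = k9 * c1 by decide +kernel)
  have f3 := fx f2 (show c3 * k9 = k9 * c2 by decide +kernel)
  have tr : ∀ {v d η}, α d v = v → d * e9 = η * d → v * α e9 v * α (e9 * e9) v = 1 →
      v * α η v * α (η * η) v = 1 := fun {v d η} hv he hK => by
    have e1 : α η v = α d (α e9 v) := by rw [m, he, ← m, hv]
    have e2 : α (η * η) v = α d (α (e9 * e9) v) := by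
      rw [m, ← mul_assoc, he, mul_assoc, he, ← mul_assoc, ← m (η * η), hv]
    calc _ = α d (v * α e9 v * α (e9 * e9) v) := by rw [mm, mm, hv, e1, e2]
      _ = 1 := by rw [hK, map_one]
  have zero : ∀ v, v * α e9 v * α (e9 * e9) v = 1 → α c1 v = v → α c2 v = v → α c3 v = v → v = 1 :=
    fun v K h1 h2' h3 => by
    have A1 := congrArg (α a9) K
    have A2 := congrArg (α (a9 * a9)) K
    rw [mm, mm, map_one, m, m] at A1 A2
    have B1 := tr h2' (show c2 * e9 = a9 * c2 by decide +kernel) K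
    have B2 := tr h1 (show c1 * e9 = (a9 * e9) * c1 by decide +kernel) K
    have B3 := tr h3 (show c3 * e9 = (a9 * (e9 * e9)) * c3 by decide +kernel) K
    rw [show a9 * e9 * (a9 * e9) = a9 * a9 * (e9 * e9) by decide +kernel] at B2
    rw [show a9 * (e9 * e9) * (a9 * (e9 * e9)) = a9 * a9 * e9 by decide +kernel] at B3
    calc v = v * v * v * 1 * 1 := by rw [h2, one_mul, mul_one, mul_one]
      _ = 1 * 1 * 1 := by
        nth_rw 1 [← A1]; nth_rw 1 [← A2]; nth_rw 1 [← B1]; nth_rw 1 [← B2]; nth_rw 1 [← B3]; ac_rfl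
      _ = 1 := by simp
  have K : ∀ w, (α e9 w * w) * α e9 (α e9 w * w) * α (e9 * e9) (α e9 w * w) = 1 := fun w => by
    rw [mm, mm, m, m, show e9 * e9 * e9 = 1 by decide +kernel, map_one, MulAut.one_apply]
    calc _ = (w * w) * (α e9 w * α e9 w) * (α (e9 * e9) w * α (e9 * e9) w) := by ac_rfl
      _ = 1 := by simp only [h2]
  have iv : ∀ {v w : W}, v * w = 1 → v = w := fun {v w} e => by
    rw [← mul_one v, ← h2 w, ← mul_assoc, e, one_mul]
  have F : ∀ w, α z9 (α e9 w * w) = α e9 w * w := fun w => iv (zero _ (by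
    have := K w
    generalize α e9 w * w = v at this
    rw [mm, mm, m, m, show e9 * z9 = z9 * (e9 * e9) by decide +kernel,
      show e9 * e9 * z9 = z9 * e9 by decide +kernel, ← m, ← m z9]
    calc _ = α z9 (v * α e9 v * α (e9 * e9) v) * (v * α e9 v * α (e9 * e9) v) := by
          rw [mm, mm]; ac_rfl
      _ = 1 := by rw [this, map_one, one_mul]) (h _) (f2 _) (f3 _))
  have a := F (α e9 w)
  have b := K w
  rw [← mm, m, show z9 * e9 = e9 * e9 * z9 by decide +kernel, ← m, F] at a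
  rw [a, mul_assoc, h2, mul_one] at b
  exact iv b

theorem c33 : Nat.card S9 = 5616 := by
  have h := H11.card_units_mul_card_sl (ι := Fin 3) (F := ZMod 3)
  rw [Matrix.card_GL_field, Fin.prod_univ_three] at h
  simp only [ZMod.card, Fin.val_zero, Fin.val_one, Fin.val_two] at h
  exact Nat.eq_of_mul_eq_mul_left two_pos h

theorem o9 : orderOf u9 = 2 ^ 3 := orderOf_eq_prime_pow (by decide +kernel) (by decide +kernel)

theorem mem9 {b : S9} (h : b ∈ zpowers u9) : ∃ j < 8, b = u9 ^ j := by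
  rw [mem_zpowers_iff_mem_range_orderOf, o9] at h
  obtain ⟨j, hj, e⟩ := Finset.mem_image.1 h
  exact ⟨j, Finset.mem_range.1 hj, e.symm⟩

theorem pg9 : H19.PG 2 (zpowers u9 ⊔ zpowers c1) := by
  refine PiN.sup (pG_iff.2 (.of_card ((Nat.card_zpowers _).trans o9))) (pg_zpowers (by decide +kernel))
    (zpowers_le' (mem_norm_of_cj_le ?_))
  rw [H19.cj_zpowers, zpowers_le, show c1 * u9 * c1⁻¹ = u9 ^ 3 from mul_inv_eq_iff_eq_mul.2 (by decide +kernel)]
  exact pow_mem (mem_zpowers _) _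

/-- normal involutions of the semidihedral group -/
theorem sd16 {P : Subgroup S9} (p : H19.PG 2 P) (hu : u9 ∈ P) (hc : c1 ∈ P) {b : S9} (hb : b ∈ P) (b2 : b * b = 1)
    (k : b * (u9 * b * u9⁻¹) = u9 * b * u9⁻¹ * b) : b = 1 ∨ b = z9 := by
  have n : c1 ∉ zpowers u9 := fun q => by
    obtain ⟨j, hj, e⟩ := mem9 q
    revert e; interval_cases j <;> decide +kernel
  have e := card_mul_relIndex (zpowers_le' hu)
  obtain ⟨j, hj⟩ := p.exists_card
  have d : 2 ^ j ∣ 5616 := hj ▸ c33 ▸ card_subgroup_dvd_card P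
  have : j ≤ 4 := by
    by_contra! q
    exact absurd ((pow_dvd_pow 2 q).trans d) (by decide)
  have l : 2 ^ j ≤ 2 ^ 4 := Nat.pow_le_pow_right two_pos this
  have i1 : (zpowers u9).relIndex P ≠ 1 := fun q => n (relIndex_eq_one.1 q hc)
  have i0 : 0 < 2 ^ j := by positivity
  rw [Nat.card_zpowers, o9, hj] at e
  have i2 : ((zpowers u9).subgroupOf P).index = 2 := by rw [relIndex] at e i1; omega
  rw [show u9⁻¹ = u9 ^ 7 from inv_eq_of_mul_eq_one_right (by decide +kernel)] at k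
  by_cases q : b ∈ zpowers u9
  · obtain ⟨j, hj, rfl⟩ := mem9 q
    revert b2; clear k; interval_cases j <;> decide +kernel
  · obtain ⟨j, hj, r⟩ := mem9 (b := b * c1)
      ((mul_mem_iff_of_index_two i2 (a := ⟨b, hb⟩) (b := ⟨c1, hc⟩)).2 (iff_of_false q n))
    obtain rfl : b = u9 ^ j * c1 := by rw [← r, mul_assoc, show c1 * c1 = 1 by decide +kernel, mul_one]
    revert b2 k; interval_cases j <;> decide +kernel

variable {G : Type u} [Group G] [Finite G] {N Q T S Y : Subgroup G}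

/-- `L₃(3)` has no quadratic four-group on `Q/Φ(Q)` -/
theorem nquad (f : Fr N Q T) (chr : C(Q) ≤ Q) {π : N →* S9} (su : Function.Surjective π)
    (k : ∀ g : N, π g = 1 ↔ (g : G) ∈ Q) {y a : N} (hy : π y = z9) (ha : π a = c1)
    (h : ∀ v ∈ Q, a.1 * (y.1 * v * y.1⁻¹ * v⁻¹) * a.1⁻¹ = y.1 * v * y.1⁻¹ * v⁻¹) : False := by
  have nF : N ≤ N(Phi Q) := H4.norms_Phi f.nq.norm
  have ab := H4.abelem_quo_Phi f.pg
  let ρ : N →* Quo (Phi Q) := (qmk _).comp (inclusion nF)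
  have mρ : ∀ g : N, ρ g ∈ quo (Phi Q) N := fun g => mem_im_of g.2
  have mq : ∀ g : N, g.1 ∈ Q → ρ g ∈ quo (Phi Q) Q := fun g q => mem_im_of q
  let β : N →* MulAut (quo (Phi Q) Q) :=
    (normalizerMonoidHom _).comp (ρ.codRestrict _ fun g => quo_norms f.nq.norm (mρ g))
  have hβ : ∀ g w, (β g w).1 = ρ g * w.1 * (ρ g)⁻¹ := fun g w => rfl
  have kβ : π.ker ≤ β.ker := fun g q => MulEquiv.ext fun w => Subtype.ext (by
    rw [hβ, ab_comm ab (mq g ((k g).1 q)) w.2, mul_inv_cancel_right]; rfl)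
  let α := π.liftOfRightInverse _ (Function.rightInverse_surjInv su) ⟨β, kβ⟩
  have hα : ∀ g, α (π g) = β g := π.liftOfRightInverse_comp_apply _ _ _
  have sj : ∀ w : quo (Phi Q) Q, ∃ v : N, v.1 ∈ Q ∧ w.1 = ρ v := fun w =>
    let ⟨v, p, q⟩ := w.2; ⟨⟨v, f.nq.le p⟩, p, q.symm⟩
  let : CommGroup (quo (Phi Q) Q) := { mul_comm := fun v w => Subtype.ext (ab_comm ab v.2 w.2) }
  have key := core (fun w => Subtype.ext (sq_one ab w.2)) α fun w => Subtype.ext (by
    obtain ⟨v, p, q⟩ := sj w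
    rw [← hy, ← ha, hα, hα, hβ, coe_mul, hβ]
    nth_rw 2 4 [← inv_eq ab w.2]
    rw [q]
    simp only [← map_inv, ← map_mul]
    exact congrArg ρ (Subtype.ext (h v p)))
  obtain ⟨g, hg⟩ := su e9
  obtain ⟨m, hm⟩ := f.pg.exists_card
  have g3 : (g ^ #Q) ^ 3 = 1 := by
    rw [← pow_mul, mul_comm, pow_mul]
    exact Subtype.ext (congrArg (Subtype.val : Q → G) (pow_card_eq_one' (x := (⟨_, (k (g ^ 3)).1 (by
      rw [map_pow, hg]; decide +kernel)⟩ : Q))))
  have cp : (#Q).Coprime 3 := hm ▸ Nat.Coprime.pow_left _ (by norm_num)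
  have gc : g.1 ∈ Cm (Phi Q) Q := ⟨nF g.2, fun v p => (qmk_eq_one (x := inclusion nF
      (g * (⟨v, f.nq.le p⟩ : N) * g⁻¹ * (⟨v, f.nq.le p⟩ : N)⁻¹))).1 (by
    have := congrArg Subtype.val (key ⟨_, mq ⟨v, f.nq.le p⟩ p⟩)
    rw [← hg, hα, hβ] at this
    show ρ _ = 1
    rw [map_mul, map_mul, map_mul, map_inv, map_inv, this, mul_inv_cancel])⟩
  have q : (g ^ #Q).1 ∈ Q := chr (coprime_cent_Phi (A := zpowers (g ^ #Q).1) (cp.coprime_dvd_right (by
      rw [Nat.card_zpowers, orderOf_coe]; exact orderOf_dvd_of_pow_eq_one g3))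
    (by rw [commg_comm]; exact commg_le_iff.2 fun x p => (zpowers_le' (pow_mem gc _) p).2) (mem_zpowers _))
  have r := (k _).2 q
  rw [map_pow, hg, ← orderOf_dvd_iff_pow_eq_one,
    orderOf_eq_prime (p := 3) (by decide +kernel) (by decide +kernel)] at r
  exact absurd (cp.coprime_dvd_left r) (by norm_num)

theorem t9 : T9.{u} := fun {G} _ _ {S Y Q} h ⟨π₀, su₀, k₀⟩ => by
  have f := h.lc.toFr
  have sy := f.syl.subgroupOf_top.map π₀
  rw [map_top_of_surjective _ su₀] at sy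
  obtain ⟨t, -, ht⟩ := sy.scj_le le_top pg9
  let π := (MulAut.conj t⁻¹).toMonoidHom.comp π₀
  have su : Function.Surjective π := (MulAut.conj t⁻¹).surjective.comp su₀
  have k : ∀ g, π g = 1 ↔ g.1 ∈ Q := fun g => (map_eq_one_iff _ (MulAut.conj t⁻¹).injective).trans (k₀ g)
  have le : zpowers u9 ⊔ zpowers c1 ≤ im π S := by
    rw [show im π S = cj t⁻¹ (im π₀ S) from (map_map _ _ _).symm]
    exact cj_le_iff.1 ht
  have pg : H19.PG 2 (im π S) := (f.syl.subgroupOf_top.map π).pi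
  clear_value π
  have mS : ∀ g, π g ∈ im π S → g.1 ∈ S := fun g ⟨y, a, b⟩ => by
    have : (y⁻¹ * g).1 ∈ Q := (k _).1 (by rw [map_mul, map_inv, b, inv_mul_cancel])
    simpa using mul_mem (show y.1 ∈ S from a) (f.le this)
  have hu : u9 ∈ im π S := le (mem_sup_left (mem_zpowers _))
  have hc : c1 ∈ im π S := le (mem_sup_right (mem_zpowers _))
  have YC := h.YS.trans f.TN
  have two : ∀ y, y.1 ∈ Y → π y = 1 ∨ π y = z9 := fun y p => by
    obtain ⟨s, s1, s2⟩ := id hu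
    refine sd16 pg hu hc (mem_im_of (h.YS p)) ?_ ?_
    · rw [← map_mul, show y * y = 1 from Subtype.ext (sq_one h.ab p), map_one]
    · rw [← s2]
      simp only [← map_inv, ← map_mul]
      exact congrArg π (Subtype.ext (ab_comm h.ab p (conj_mem_of_norm (h.SM s1) p)))
  obtain ⟨y, p, q⟩ := SetLike.not_le_iff_exists.1 h.nq
  have hy := (two ⟨y, YC p⟩ p).resolve_left fun e => q ((k _).1 e)
  have sw : ∀ g, π g * z9 * (π g)⁻¹ = c1 → cj g.1 Y ≤ S := fun g e w hw => by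
    obtain ⟨x, x1, rfl⟩ := mem_cj'.1 hw
    refine mS (g * ⟨x, YC x1⟩ * g⁻¹) ?_
    rw [map_mul, map_mul, map_inv]
    rcases two ⟨x, YC x1⟩ x1 with r | r
    · rw [r, mul_one, mul_inv_cancel]; exact one_mem _
    · rwa [r, e]
  obtain ⟨g, hg⟩ := su g9
  have e1 : π g * z9 * (π g)⁻¹ = c1 := by rw [hg, mul_inv_eq_iff_eq_mul]; decide +kernel
  have e2 : π g⁻¹ * z9 * (π g⁻¹)⁻¹ = c1 := by
    rw [map_inv, hg, inv_inv, mul_assoc, inv_mul_eq_iff_eq_mul]; decide +kernel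
  have cm := h.comm' ((sw g e1).trans h.SM) (by rw [← cj_norm]; exact le_cj_iff.2 ((sw g⁻¹ e2).trans h.SM))
  refine nquad f h.lc.chr su k hy (a := g * ⟨y, YC p⟩ * g⁻¹) (by rw [map_mul, map_mul, map_inv, hy, e1])
    fun v hv => mul_inv_eq_iff_eq_mul.2 (mem_cent.1 (cm (conj_mem_cj.2 p)) _ ?_).symm
  have := mul_mem p (conj_mem_of_norm (h.SM (f.le hv)) (inv_mem p))
  simpa only [mul_assoc] using this

end H19.MS
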