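/-
Saturated fusion systems on bicyclic `2`-groups.
-/
import Cfsg.Agent.H19.BI1
import Cfsg.Agent.H25.HSat
import Cfsg.Agent.H25.Tate
import Cfsg.Agent.H25.Gen
import Cfsg.Agent.H25.Ess
import Cfsg.Agent.H25.PC
import Cfsg.Agent.H25.Trans2
import Cfsg.Agent.H4.Res6
import Cfsg.Agent.H25.Down

set_option autoImplicit false
set_option linter.unusedSectionVars false

namespace H19.BF
export H25 (cj_def cj_zpowers cj_le_cj im_sup relIndex_cj cj_inv_cj im_bot im cj_lt_cj cj_eq_bot im_pre im_cj card_cj cj_top pre le_cj_iff cj_le_iff syl_sylow cj_inf im_pre_le cj_inj im_le_iff cj_bot conj_mem_cj mem_im pre_le pre_mono exists_syl cj_sup cj cj_one cj_mono cj_cj_inv cj_closure pre_inf im_zpowers le_pre_im cj_cj mem_pre mem_cj' mem_cj cj_eq_iff orderOf_conj' cj_le_of_mem Syl im_mono)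
export H25.FS (quo)
open Cfsg Subgroup H25 H25.FS H19.BI
open scoped commutatorElement

universe u
variable {Γ : Type u} [Group Γ] [Finite Γ] {S P Q R L D K : Subgroup Γ} {F : FS Γ}
variable {a b c d e f g h l s t u v w x y z : Γ}

/-- adding automorphisms of one subgroup to the inner fusion system -/
theorem build {p : ℕ} [Fact p.Prime] (hS : IsPGroup p S) (hQ : Q < S) 
    (h1 : Syl p (ai S Q) L) (h2 : L ≤ nz Q) (h3 : ¬ L ≤ ai S Q)
    (h4 : ∀ P < Q, ∃ l ∈ L, ¬ S ⊓ cz (cj l P) ≤ cj l P)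
    (h5 : ∀ l ∈ L, ∀ u ∈ S ⊓ nz Q, u ∉ Q → l * u * l⁻¹ ∈ ai S Q → l ∈ ai S Q) :
    ∃ F : FS Γ, F.S = S ∧ F.Sat p ∧ F ≠ inner S := by
  let F := gen S fun P g => P = Q ∧ g ∈ L
  have tL : ∀ l ∈ L, F.T Q l := fun l hl => gen_T ⟨rfl, hl⟩ hQ.le ((mem_nz.1 (h2 hl)).trans_le hQ.le)
  let Z : Subgroup Γ → Prop := fun P => ∀ g, F.T P g → ¬ cj g P < Q
  have nL : ∀ s ∈ S, cj s Q = Q → s ∈ L := fun s hs e => h1.1 (mem_ai_of_mem hs (mem_nz.2 e))
  have key : ∀ P g, F.T P g → Z P → (∃ s ∈ S, Agree P g s) ∨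
      ∃ s ∈ S, ∃ r ∈ S, ∃ l ∈ L, P = cj s Q ∧ Agree P g (r * l * s⁻¹) := by
    intro P g H
    induction H with
    | base h _ _ => exact fun _ => .inr ⟨1, one_mem _, 1, one_mem _, _, h.2, by simp [h.1], by simpa using .refl _ _⟩
    | mem _ h => exact fun _ => .inl ⟨_, h, .refl _ _⟩
    | congr H e ih =>
      exact fun z => (ih z).imp (fun ⟨s, h, k⟩ => ⟨s, h, e.trans k⟩)
        fun ⟨s, h, r, h', l, h'', k, k'⟩ => ⟨s, h, r, h', l, h'', k, e.trans k'⟩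
    | @mono P P' g H e ih =>
      intro z
      rcases ih fun k Hk lt => z k (T.mono Hk e) ((cj_mono k e).trans_lt lt) with ⟨s, h, k⟩ | ⟨s, h, r, h', l, h'', k, k'⟩
      · exact .inl ⟨s, h, k.mono e⟩
      · refine .inr ⟨s, h, r, h', l, h'', ?_, k'.mono e⟩
        have := cj_le_iff.2 ((e.trans k.le).trans_eq (by rw [inv_inv s]) : P' ≤ cj s⁻¹⁻¹ Q)
        rw [eq_comm, cj_eq_iff, eq_comm]
        exact this.eq_or_lt.resolve_right (z _ (F.of_mem (e.trans H.le.1) (inv_mem h)))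
    | @mul P g h H H' ih ih' =>
      intro z
      have z' : Z (cj g P) := fun k Hk => by rw [cj_cj]; exact z _ (T.mul H Hk)
      rcases ih z with ⟨s, m, k⟩ | ⟨s, m, r, m', l, m'', k, k'⟩ <;>
      rcases ih' z' with ⟨s1, n, j⟩ | ⟨s1, n, r1, n', l1, n'', j, j'⟩
      · exact .inl ⟨_, mul_mem n m, k.mul j⟩
      · refine .inr ⟨_, mul_mem (inv_mem m) n, r1, n', l1, n'', ?_, by simpa [mul_assoc] using k.mul j'⟩
        rw [← cj_cj, ← j, k.cj_eq, cj_inv_cj]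
      · exact .inr ⟨s, m, _, mul_mem n m', l, m'', k, by simpa [mul_assoc] using k'.mul j⟩
      · refine .inr ⟨s, m, r1, n', _, mul_mem (mul_mem n'' (nL _ (mul_mem (inv_mem n) m') ?_)) m'', k,
          by simpa [mul_assoc] using k'.mul j'⟩
        rw [k'.cj_eq, k, cj_cj, inv_mul_cancel_right, ← cj_cj, mem_nz.1 (h2 m'')] at j
        rw [← cj_cj, j, cj_inv_cj]
    | @inv P g H ih =>
      intro z
      rcases ih fun k Hk => by simpa [cj_cj] using z _ (T.mul' (T.inv H) Hk (cj_inv_cj _ _).le) with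
        ⟨s, m, k⟩ | ⟨s, m, r, m', l, m'', k, k'⟩
      · exact .inl ⟨_, inv_mem m, k.inv⟩
      · refine .inr ⟨r, m', s, m, _, inv_mem m'', ?_, by simpa [mul_assoc] using k'.inv⟩
        rw [k'.cj_eq, k, cj_cj, inv_mul_cancel_right, ← cj_cj, mem_nz.1 (h2 m'')]
  have zc : ∀ P : Subgroup Γ, Nat.card Q ≤ Nat.card P → Z P := fun P h g _ lt => by
    have := card_lt_of_lt lt
    rw [card_cj] at this; omega
  have lt := card_lt_of_lt hQ
  have kQ : ∀ g, F.T Q g → ∃ r ∈ S, ∃ l ∈ L, Agree Q g (r * l) := fun g H => by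
    rcases key _ _ H (zc _ le_rfl) with ⟨s, m, k⟩ | ⟨s, m, r, m', l, m'', k, k'⟩
    · exact ⟨s, m, 1, one_mem _, by simpa using k⟩
    · exact ⟨r, m', _, mul_mem m'' (inv_mem (nL s m k.symm)), by simpa [mul_assoc] using k'⟩
  have aQ : F.A Q ≤ L := fun g H => by
    obtain ⟨r, m, l, m', k⟩ := kQ g (T_of_mem_A hQ.le H)
    refine k.mem_of_cz_le ((cz_le_ai _ _).trans h1.1) (mul_mem (nL r m ?_) m')
    rw [← mem_nz.1 (h2 m'), cj_cj, ← k.cj_eq, cj_eq_of_mem_A H, mem_nz.1 (h2 m')]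
  have kP : ∀ P ≤ S, Z P → (∀ s ∈ S, P ≠ cj s Q) → F.A P ≤ ai S P := fun P hP z n g H => by
    rcases key _ _ (T_of_mem_A hP H) z with ⟨s, m, k⟩ | ⟨s, m, -, -, -, -, k, -⟩
    · exact ⟨H.1, s, m, k⟩
    · exact (n s m k).elim
  have sQ : F.SatAt p Q := by
    refine ⟨1, one hQ.le, ?_⟩
    rw [cj_one]
    refine ⟨⟨hQ.le, h1.mono_right (F.ai_le_A Q) aQ⟩, hQ.le, fun P g H e => ?_⟩
    rcases key _ _ H (zc _ (by rw [← e, card_cj])) with ⟨s, m, k⟩ | ⟨s, m, r, m', l, m'', k, k'⟩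
    · exact ⟨s, F.of_mem ((F.Nf_le_N _ _).trans inf_le_left) m, k.symm⟩
    by_cases c : F.Nf P g ≤ P
    · exact ⟨g, H.mono c, .refl _ _⟩
    obtain ⟨x, x1, x2⟩ := SetLike.not_le_iff_exists.1 c
    rw [k'.Nf_eq, mem_Nf, ← k'.cj_eq, e] at x1
    have e1 : cj r Q = Q := by
      rwa [k'.cj_eq, k, cj_cj, inv_mul_cancel_right, ← cj_cj, mem_nz.1 (h2 m'')] at e
    obtain ⟨-, n, n1, n2⟩ := h5 _ (mul_mem (nL r m' e1) m'') (s⁻¹ * x * s) (mem_inf.2 ⟨mul_mem (mul_mem (inv_mem m) x1.1.1) m,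
      by rw [← mem_cj, cj_nz, ← k]; exact x1.1.2⟩) (by rwa [← mem_cj, ← k]) (by simpa [mul_assoc, F, gen_S] using x1.2)
    refine ⟨n * s⁻¹, F.of_mem ((F.Nf_le_N _ _).trans inf_le_left) (mul_mem n1 (inv_mem m)), (k'.trans ?_).symm⟩
    exact Agree.mul_right (by rwa [k, cj_inv_cj])
  refine ⟨F, rfl, sat_of_family (ℋ := fun P => P = S ∨ ∃ g, F.T Q g ∧ P = cj g Q) hS ?_ ?_ ?_ ?_, fun e => h3 fun l hl => ?_⟩
  · rintro _ g (rfl | ⟨k, H, rfl⟩) H'
    · exact .inl (cj_eq_of_le H'.cj_le)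
    · exact .inr ⟨_, H.mul H', cj_cj _ _ _⟩
  · rintro P (e | ⟨k, H, rfl⟩) -
    · rw [e]
      refine ⟨1, one le_rfl, ?_⟩
      rw [cj_one]
      have := kP S le_rfl (zc _ lt.le) fun s _ e => by rw [e, card_cj] at lt; omega
      refine ⟨⟨le_rfl, (Syl.refl _).mono_right (F.ai_le_A S) this⟩, le_rfl, fun P g H e => ⟨g, H.mono ?_, .refl _ _⟩⟩
      rw [eq_of_le_of_card_ge H.le (show Nat.card S ≤ _ by rw [← e, card_cj])]
      exact (F.Nf_le_N _ _).trans inf_le_left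
    · exact sQ.cj H
  · exact fun E e h => gen_le e.ge fun P g ⟨k, m⟩ _ _ => k ▸ h Q g (.inr ⟨1, one hQ.le, by simp⟩) (tL g m)
  · intro P c n
    refine ⟨1, one c.le, ?_⟩
    rw [cj_one]
    have := kP P c.le (fun g H lt => by
      obtain ⟨l, m, k⟩ := h4 _ lt
      exact k ((c.cj H).2 l ((tL l m).mono lt.le))) fun s m e => n (.inr ⟨s, F.of_mem hQ.le m, e⟩)
    rw [inf_eq_left.2 (le_Op (F.ai_le_A P) (this.trans (le_nz_self _)) (pel_ai hS))]
    exact fun k => c.ai_ne hS (fun e => n (.inl e)) (le_antisymm k (ai_mono c.le P))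
  · obtain ⟨-, s, m, k⟩ := inner_T.1 (e ▸ tL l hl)
    exact ⟨h2 hl, s, m, k⟩

/-- `D⟨x, w⟩` is a central product of `D` with a four-group or a quaternion group -/
structure QP (D : Subgroup Γ) (x w : Γ) : Prop where
  ab : D ≤ cz D
  cx : x ∈ cz D
  cw : w ∈ cz D
  inv : x * w * x⁻¹ = w⁻¹
  sq : x * x = w * w
  mem : w * w ∈ D
  nx : x ∉ D
  nw : w ∉ D
  nm : x * w ∉ D

abbrev Qg (D : Subgroup Γ) (x w : Γ) : Subgroup Γ := D ⊔ (zpowers x ⊔ zpowers w)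

theorem mem_sup_sq (hc : c ∈ cz D) (h : c * c ∈ D) (hg : g ∈ D ⊔ zpowers c) : g ∈ D ∨ c⁻¹ * g ∈ D := by
  obtain ⟨d, h1, e, h2, rfl⟩ := (mem_sup_of_le_nz_left ((zpowers_le.2 hc).trans (cz_le_nz D))).1 hg
  have k := zpowers_le.2 (pow_two c ▸ h)
  refine (zp_par h2).imp (fun m => mul_mem h1 (k m)) fun m => ?_
  rw [show c⁻¹ * (d * e) = (c * c)⁻¹ * (c * d * c⁻¹) * (c * e) by group, mem_cz.1 hc d h1]
  exact mul_mem (mul_mem (inv_mem h) h1) (k m)

namespace QP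
variable (q : QP D x w)
include q

theorem wxw : w * (x * w) = x := by rw [← inv_mul_cancel_right (x * w) x, q.inv]; group

theorem z2 : w * w * (w * w) = 1 := by
  have := mem_cz.1 q.cx _ q.mem
  rw [← conj_mul, q.inv] at this
  nth_rw 1 [← this]; group

theorem winv : w⁻¹ = w * (w * w) := inv_eq_of_mul_eq_one_right (by rw [← q.z2]; group)

theorem sq' : x * w * (x * w) = w * w := by rw [mul_assoc, q.wxw, q.sq]

theorem next : QP D w (x * w) :=
  ⟨q.ab, q.cw, mul_mem q.cx q.cw, by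
    rw [q.wxw, eq_inv_iff_mul_eq_one, q.winv]
    calc _ = x * w * (w * (w * (x * w))) := by group
      _ = x * w * x⁻¹ * (x * w * x⁻¹) * (x * x) := by rw [q.wxw]; group
      _ = 1 := by rw [q.inv, q.sq]; group, q.sq'.symm, q.sq' ▸ q.mem, q.nw, q.nm, q.wxw.symm ▸ q.nx⟩

theorem sub (h : K ≤ D) (m : w * w ∈ K) : QP K x w :=
  ⟨h.trans (q.ab.trans (cz_anti h)), cz_anti h q.cx, cz_anti h q.cw, q.inv, q.sq, m, fun k => q.nx (h k),
    fun k => q.nw (h k), fun k => q.nm (h k)⟩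

theorem swap (j : ℤ) (k : ℕ) : w ^ j * x ^ k = x ^ k * w ^ ((-1) ^ k * j) := by
  induction k with
  | zero => simp
  | succ k ih =>
    have : x * w ^ ((-1) ^ (k + 1) * j) * x⁻¹ = w ^ ((-1) ^ k * j : ℤ) := by
      rw [← conj_zpow, q.inv]; group
    rw [pow_succ, ← mul_assoc, ih, ← this]; group

theorem mulf (i k : ℕ) (j l : ℤ) (hd : d ∈ D) (e : Γ) :
    x ^ i * w ^ j * d * (x ^ k * w ^ l * e) = x ^ (i + k) * w ^ ((-1) ^ k * j + l) * (d * e) := by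
  have := mem_cz'.1 (mul_mem (pow_mem q.cx k) (zpow_mem q.cw l)) d hd
  calc _ = x ^ i * w ^ j * (d * (x ^ k * w ^ l)) * e := by group
    _ = x ^ i * (w ^ j * x ^ k) * w ^ l * d * e := by rw [this]; group
    _ = _ := by rw [q.swap]; group

theorem red (i : ℕ) (j : ℤ) : x ^ i * w ^ j = x ^ (i % 2) * w ^ (j % 2) * (w * w) ^ (i / 2 + j / 2 : ℤ) := by
  have := mem_cz'.1 (mul_mem (pow_mem q.cx (i % 2)) (zpow_mem q.cw (j % 2))) _ (pow_mem q.mem (i / 2))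
  calc _ = (x * x) ^ (i / 2) * (x ^ (i % 2) * w ^ (j % 2)) * (w * w) ^ (j / 2) := by
        rw [← pow_two, ← zpow_two, ← pow_mul, ← mul_assoc, ← pow_add, Nat.div_add_mod, mul_assoc, ← zpow_mul,
          ← zpow_add, Int.emod_add_mul_ediv]
    _ = _ := by rw [q.sq, this, zpow_add, mul_assoc]; norm_cast

theorem cases (i : ℕ) (j : ℤ) : ∃ c, (c = 1 ∧ i % 2 = 0 ∧ j % 2 = 0 ∨ c = x ∨ c = w ∨ c = x * w) ∧
    x ^ (i % 2) * w ^ (j % 2) = c := by
  refine ⟨_, ?_, rfl⟩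
  rcases Nat.mod_two_eq_zero_or_one i with e | e <;> rcases Int.emod_two_eq_zero_or_one j with f | f <;>
    simp [e, f]

/-- the graph of the isomorphism -/
def W {y v : Γ} (r : QP D y v) : Subgroup (Γ × Γ) :=
  let M : Submonoid (Γ × Γ) :=
    { carrier := {p | ∃ (i : ℕ) (j : ℤ), ∃ d ∈ D, p = (x ^ i * w ^ j * d, y ^ i * v ^ j * d)}
      one_mem' := ⟨0, 0, 1, one_mem _, by simp; rfl⟩
      mul_mem' := by
        rintro _ _ ⟨i, j, d, h, rfl⟩ ⟨k, l, e, h', rfl⟩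
        exact ⟨_, _, _, mul_mem h h', Prod.ext (q.mulf i k j l h e) (r.mulf i k j l h e)⟩ }
  { M with
    inv_mem' := fun {p} h => (Submonoid.powers_le.2 h : _ ≤ M)
      (mem_powers_iff_mem_zpowers.2 (inv_mem (mem_zpowers p))) }

theorem nf (hg : g ∈ Qg D x w) : g ∈ D ∨ x⁻¹ * g ∈ D ∨ w⁻¹ * g ∈ D ∨ (x * w)⁻¹ * g ∈ D := by
  obtain ⟨_, ⟨i, j, d, h, rfl⟩, rfl⟩ := (sup_le (fun d h => ⟨_, ⟨0, 0, d, h, rfl⟩, by simp⟩) (sup_le
    (zpowers_le.2 ⟨_, ⟨1, 0, 1, one_mem _, rfl⟩, by simp⟩) (zpowers_le.2 ⟨_, ⟨0, 1, 1, one_mem _, rfl⟩, by simp⟩)) :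
    Qg D x w ≤ (q.W q).map (MonoidHom.fst Γ Γ)) hg
  obtain ⟨c, k, e⟩ := q.cases i j
  have := mul_mem (zpow_mem q.mem (i / 2 + j / 2 : ℤ)) h
  rw [MonoidHom.coe_fst, q.red, e, mul_assoc]
  rcases k with ⟨rfl, -⟩ | rfl | rfl | rfl
  exacts [.inl (by rwa [one_mul]), .inr (.inl (by rwa [inv_mul_cancel_left])),
    .inr (.inr (.inl (by rwa [inv_mul_cancel_left]))), .inr (.inr (.inr (by rwa [inv_mul_cancel_left])))]

theorem inj {y v : Γ} (r : QP D y v) (e : w * w = v * v) {i : ℕ} {j : ℤ} (hd : d ∈ D)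
    (h : x ^ i * w ^ j * d = 1) : y ^ i * v ^ j * d = 1 := by
  obtain ⟨c, k, f⟩ := q.cases i j
  rw [q.red, f] at h
  have m : c ∈ D := (mul_mem_cancel_right (zpow_mem q.mem _)).1 ((mul_mem_cancel_right hd).1 (h ▸ one_mem _))
  rcases k with ⟨rfl, k1, k2⟩ | rfl | rfl | rfl
  exacts [by rw [r.red, k1, k2, ← e, ← h]; simp, (q.nx m).elim, (q.nw m).elim, (q.nm m).elim]

end QP

theorem QP.aut {N : ℕ} {S D : Subgroup (Univ N)} {x w y v : Univ N} (q : QP D x w) (r : QP D y v)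
    (e : w * w = v * v) (hS : Good S) (h1 : Qg D x w ≤ S) (h2 : Qg D y v ≤ S) :
    ∃ g ∈ cz D, g * x * g⁻¹ = y ∧ g * w * g⁻¹ = v := by
  have k : ∀ {x w : Univ N}, Qg D x w ≤ S → ∀ (i : ℕ) (j : ℤ), ∀ d ∈ D, x ^ i * w ^ j * d ∈ S := fun h i j d m =>
    h (mul_mem (mem_sup_right (mul_mem (mem_sup_left (npow_mem_zpowers _ _)) (mem_sup_right (zpow_mem_zpowers _ _))))
      (mem_sup_left m))
  obtain ⟨g, hg⟩ := exists_conj_of_good ((MonoidHom.fst _ _).comp (q.W r).subtype)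
    ((MonoidHom.snd _ _).comp (q.W r).subtype)
    ((injective_iff_map_eq_one _).2 (by
      rintro ⟨_, i, j, d, h, rfl⟩ f
      exact Subtype.ext (Prod.ext f (q.inj r e h f))))
    ((injective_iff_map_eq_one _).2 (by
      rintro ⟨_, i, j, d, h, rfl⟩ f
      exact Subtype.ext (Prod.ext (r.inj q e.symm h f) f)))
    (hS.mono (by rintro _ ⟨⟨_, i, j, d, h, rfl⟩, rfl⟩; exact k h1 i j d h))
    (hS.mono (by rintro _ ⟨⟨_, i, j, d, h, rfl⟩, rfl⟩; exact k h2 i j d h))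
  exact ⟨g, mem_cz.2 fun d h => by simpa using (hg ⟨_, 0, 0, d, h, rfl⟩).symm,
    by simpa using (hg ⟨_, 1, 0, 1, one_mem _, rfl⟩).symm, by simpa using (hg ⟨_, 0, 1, 1, one_mem _, rfl⟩).symm⟩

theorem nz_M (hg : g ∈ cz D) (h : g * w * g⁻¹ ∈ D ⊔ zpowers w) : g ∈ nz (D ⊔ zpowers w) := mem_nz_of_le (by
  rw [cj_sup, cj_zpowers, mem_nz.1 (cz_le_nz D hg)]; exact sup_le le_sup_left (zpowers_le.2 h))

namespace QP
variable (q : QP D x w)
include q

theorem nxM : x ∉ D ⊔ zpowers w := fun h => (mem_sup_sq q.cw q.mem h).elim q.nx fun k =>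
  q.nm (by rwa [← q.inv, inv_mul_cancel_right] at k)

theorem le_nzM : Qg D x w ≤ nz (D ⊔ zpowers w) := sup_le (le_sup_left.trans (le_nz_self _)) (sup_le
  (zpowers_le.2 (nz_M q.cx (q.inv ▸ inv_mem (mem_sup_right (mem_zpowers w))))) (le_sup_right.trans (le_nz_self _)))

theorem le_M (h1 : D ≤ P) (h2 : P ≤ Qg D x w) (h : D ≤ K) (k1 : x ∈ P → x ∈ K) (k2 : w ∈ P → w ∈ K)
    (k3 : x * w ∈ P → x * w ∈ K) : P ≤ K := fun g m => by
  have k : ∀ c, (c ∈ P → c ∈ K) → c⁻¹ * g ∈ D → g ∈ K := fun c k e => by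
    simpa using mul_mem (k (by simpa using mul_mem m (inv_mem (h1 e)))) (h e)
  rcases q.nf (h2 m) with e | e | e | e
  exacts [h e, k _ k1 e, k _ k2 e, k _ k3 e]

theorem build (hS : IsPGroup 2 S) (hQ : Qg D x w ≤ S) (ht : t ∈ S) (t1 : t ∈ cz D)
    (t2 : (x * w)⁻¹ * (t * x * t⁻¹) ∈ zpowers (w * w)) (t3 : t * w * t⁻¹ = w)
    (hN : ∀ g ∈ S, g ∈ nz (Qg D x w) → g ∈ Qg D x w ∨ t⁻¹ * g ∈ Qg D x w) (a1 : a ∈ cz D)
    (a2 : a * x * a⁻¹ = w) (a3 : a * w * a⁻¹ = x * w) : ∃ F : FS Γ, F.S = S ∧ F.Sat 2 ∧ F ≠ inner S := by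
  have hZ := zpowers_le.2 q.mem
  have r := q.sub hZ (mem_zpowers _)
  have a4 : a * (x * w) * a⁻¹ = x := by rw [← conj_mul, a2, a3, q.wxw]
  have nM := q.nxM
  have nM' : x * w ∉ D ⊔ zpowers w := fun h => nM ((mul_mem_cancel_right (mem_sup_right (mem_zpowers w))).1 h)
  set Z := zpowers (w * w)
  set M := D ⊔ zpowers w
  have ZM : Z ≤ M := hZ.trans le_sup_left
  have xE : x ∈ Qg Z x w := mem_sup_right (mem_sup_left (mem_zpowers x))
  have wE : w ∈ Qg Z x w := mem_sup_right (mem_sup_right (mem_zpowers w))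
  have eQ : Qg D x w = D ⊔ Qg Z x w := by rw [← sup_assoc D Z, sup_eq_left.2 hZ]
  have cD : ∀ g ∈ cz D, ∀ d ∈ Z, ∀ c, g * (c * d) * g⁻¹ = g * c * g⁻¹ * d := fun g m d n c => by
    rw [← conj_mul, mem_cz.1 m d (hZ n)]
  have mL : ∀ g ∈ cz D, g * x * g⁻¹ ∈ Qg Z x w → g * w * g⁻¹ ∈ Qg Z x w → g ∈ cz D ⊓ nz (Qg Z x w) :=
    fun g m k1 k2 => ⟨m, mem_nz_of_le (by
      rw [cj_sup, cj_sup, mem_nz.1 (cz_le_nz Z (cz_anti hZ m)), cj_zpowers, cj_zpowers]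
      exact sup_le le_sup_left (sup_le (zpowers_le.2 k1) (zpowers_le.2 k2)))⟩
  have cE : Qg Z x w ≤ cz D := sup_le (hZ.trans q.ab) (sup_le (zpowers_le.2 q.cx) (zpowers_le.2 q.cw))
  set L := cz D ⊓ nz (Qg Z x w)
  have LQ : L ≤ nz (Qg D x w) := fun g m => eQ ▸ mem_nz_sup (cz_le_nz D m.1) m.2
  have QL : Qg D x w ≤ L := eQ ▸ sup_le (le_inf q.ab ((le_cz_comm.1 cE).trans (cz_le_nz _))) (le_inf cE (le_nz_self _))
  have tL : t ∈ L := mL t t1 ((mul_mem_cancel_left (inv_mem (mul_mem xE wE))).1 (mem_sup_left t2)) (t3.symm ▸ wE)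
  have aL : a ∈ L := mL a a1 (a2 ▸ wE) (a3 ▸ mul_mem xE wE)
  obtain ⟨ζ, z1, t4⟩ : ∃ ζ ∈ Z, t * x * t⁻¹ = x * w * ζ := ⟨_, t2, by group⟩
  have tM : t ∈ nz M := nz_M t1 (t3.symm ▸ mem_sup_right (mem_zpowers w))
  have U1 : ai S (Qg D x w) ≤ L ⊓ nz M := by
    have := le_inf QL q.le_nzM
    refine ai_le (fun g m => (hN g m.1 m.2).elim (@this g) fun k => by
      simpa using mul_mem (⟨tL, tM⟩ : t ∈ L ⊓ nz M) (this k)) (le_inf (le_inf (cz_anti le_sup_left)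
      ((cz_anti (eQ ▸ le_sup_right)).trans (cz_le_nz _))) ((cz_anti ?_).trans (cz_le_nz _)))
    exact sup_le_sup_left le_sup_right _
  have ag : ∀ l ∈ L, ∀ s ∈ Qg Z x w, l * x * l⁻¹ = s * x * s⁻¹ → l * w * l⁻¹ = s * w * s⁻¹ → l ∈ ai S (Qg D x w) :=
    fun l m s n k1 k2 => ⟨LQ m, s, hQ (eQ ▸ mem_sup_right n), agree_sup.2 ⟨(agree_one_iff.2 m.1).trans
      (agree_one_iff.2 (cE n)).symm, agree_sup.2 ⟨agree_zpowers.2 k1, agree_zpowers.2 k2⟩⟩⟩
  have w1 : w * x * w⁻¹ = x * (w * w) := by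
    rw [← inv_eq_of_mul_eq_one_right q.z2]; nth_rw 2 [← q.wxw]; group
  have U0 : ∀ l ∈ L, x⁻¹ * (l * x * l⁻¹) ∈ Z → w⁻¹ * (l * w * l⁻¹) ∈ Z → l ∈ ai S (Qg D x w) := fun l m k1 k2 => by
    rcases zp_two q.z2 k1 with e | e <;> rcases zp_two q.z2 k2 with f | f <;>
      rw [inv_mul_eq_iff_eq_mul] at e f
    · exact ag l m 1 (one_mem _) (by simpa using e) (by simpa using f)
    · exact ag l m x xE (by simpa using e) (by rw [f, q.inv, q.winv])
    · exact ag l m w wE (by rw [e, w1]) (by simpa using f)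
    · refine ag l m _ (mul_mem xE wE) ?_ (by rw [f, ← q.winv, ← q.inv]; group)
      rw [e, show x * w * x * (x * w)⁻¹ = x * (w * x * w⁻¹) * x⁻¹ by group, w1, ← q.sq]; group
  have nD : ∀ l ∈ L, l * w * l⁻¹ ∉ Z := fun l m k => q.nw (by
    simpa [mul_assoc] using conj_mem_of_mem_nz' (cz_le_nz D m.1) (hZ k))
  have tU : t ∈ ai S (Qg D x w) := mem_ai_of_mem ht (LQ tL)
  have U2 : ∀ l ∈ L, l ∈ nz M → l ∈ ai S (Qg D x w) := fun l m n => by
    have k1 := conj_mem_of_mem_nz n (mem_sup_right (mem_zpowers w))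
    have k2 : l * x * l⁻¹ ∉ M := fun k => nM (by simpa [mul_assoc] using conj_mem_of_mem_nz' n k)
    have k3 : w⁻¹ * (l * w * l⁻¹) ∈ Z := by
      rcases r.nf (conj_mem_of_mem_nz m.2 wE) with e | e | e | e
      exacts [(nD l m e).elim, (nM (inv_mem_iff.1 ((mul_mem_cancel_right k1).1 (ZM e)))).elim, e,
        (nM' (inv_mem_iff.1 ((mul_mem_cancel_right k1).1 (ZM e)))).elim]
    rcases r.nf (conj_mem_of_mem_nz m.2 xE) with e | e | e | e
    · exact (k2 (ZM e)).elim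
    · exact U0 l m e k3
    · exact (k2 ((mul_mem_cancel_left (inv_mem (mem_sup_right (mem_zpowers w)))).1 (ZM e))).elim
    refine (mul_mem_cancel_left (inv_mem tU)).1 (U0 _ (mul_mem (inv_mem tL) m) ?_ ?_)
    · have := conj_mem_of_mem_nz' (cz_le_nz Z (cz_anti hZ t1)) (mul_mem (inv_mem z1) e)
      rw [← mul_assoc ζ⁻¹, ← mul_inv_rev, ← t4] at this
      simpa [mul_assoc] using this
    · have := conj_mem_of_mem_nz' (cz_le_nz Z (cz_anti hZ t1)) k3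
      nth_rw 1 [← t3] at this
      simpa [mul_assoc] using this
  have cov : ∀ l ∈ L, ∃ h, (h = 1 ∨ h = a ∨ h = a⁻¹) ∧ h⁻¹ * l ∈ nz M := fun l m => by
    have k : ∀ h ∈ L, (h * w * h⁻¹)⁻¹ * (l * w * l⁻¹) ∈ Z → h⁻¹ * l ∈ nz M := fun h n e =>
      nz_M (mul_mem (inv_mem n.1) m.1) (by
        simpa [mul_assoc] using mul_mem (mem_sup_right (mem_zpowers w))
          (ZM (conj_mem_of_mem_nz' (cz_le_nz Z (cz_anti hZ n.1)) e)))
    rcases r.nf (conj_mem_of_mem_nz m.2 wE) with e | e | e | e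
    · exact (nD l m e).elim
    · exact ⟨_, .inr (.inr rfl), k _ (inv_mem aL) (by rwa [show a⁻¹ * w * a⁻¹⁻¹ = x by rw [← a2]; group])⟩
    · exact ⟨_, .inl rfl, k _ (one_mem _) (by simpa using e)⟩
    · exact ⟨_, .inr (.inl rfl), k _ aL (a3 ▸ e)⟩
  have n1 : a * t * a⁻¹ ∉ nz M := fun h => nM (by
    have := conj_mem_of_mem_nz h (mem_sup_right (mem_zpowers w))
    nth_rw 1 [← a2] at this
    rw [show a * t * a⁻¹ * (a * x * a⁻¹) * (a * t * a⁻¹)⁻¹ = a * (t * x * t⁻¹) * a⁻¹ by group, t4, cD a a1 ζ z1, a4] at this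
    exact (mul_mem_cancel_right (ZM z1)).1 this)
  have n2 : a⁻¹ * t * a ∉ nz M := fun h => nM' (by
    have := conj_mem_of_mem_nz h (mem_sup_right (mem_zpowers w))
    rw [show a⁻¹ * t * a * w * (a⁻¹ * t * a)⁻¹ = a⁻¹ * (t * (a * w * a⁻¹) * t⁻¹) * a⁻¹⁻¹ by group, a3, ← conj_mul (b := t), t4, t3,
      mul_assoc _ ζ, mem_cz'.1 q.cw ζ (hZ z1), show x * w * (w * ζ) = x * (w * w * ζ) by group,
      cD _ (inv_mem a1) _ (mul_mem (mem_zpowers _) z1)] at this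
    nth_rw 1 [← a4] at this
    simpa [mul_assoc] using (mul_mem_cancel_right (ZM (mul_mem (mem_zpowers _) z1))).1 this)
  have tQ : t ∉ Qg D x w := fun h => n1 (q.le_nzM (conj_mem_of_mem_nz (LQ aL) h))
  have UL := U1.trans inf_le_left
  refine H19.BF.build hS (lt_of_le_not_ge hQ fun h => tQ (h ht)) ⟨UL, ?_⟩ LQ
    (fun h => nM' (a3 ▸ conj_mem_of_mem_nz (U1 (h aL)).2 (mem_sup_right (mem_zpowers w)))) (fun P hP => ?_)
    fun l m u n k1 k2 => ?_
  · rw [relIndex_eq_of_cover (zpowers_le.2 aL) fun l m => by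
      obtain ⟨h, k, e⟩ := cov l m
      have : h ∈ zpowers a := by rcases k with rfl | rfl | rfl <;> simp
      exact ⟨h, this, U2 _ (mul_mem (inv_mem (zpowers_le.2 aL this)) m) e⟩]
    have a5 : a ^ 3 * x * (a ^ 3)⁻¹ = x := by nth_rw 2 [← a4]; rw [← a3, ← a2]; simp [pow_succ, mul_assoc]
    have a6 : a ^ 3 ∈ ai S (Qg D x w) := ag _ (pow_mem aL 3) 1 (one_mem _) (by simpa using a5) (by
      rw [← a2]; nth_rw 2 [← a5]; group)
    rw [← inf_relIndex_right]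
    refine (syl_of_pow inf_le_right (n := 3) (by decide) fun b m => ⟨?_, pow_mem m 3⟩).2
    obtain ⟨i, rfl⟩ := m
    rw [← zpow_natCast, zpow_comm, zpow_natCast]
    exact zpow_mem a6 i
  · by_cases c : D ≤ P
    swap
    · exact ⟨1, one_mem _, fun h => c ((le_inf (le_sup_left.trans hQ) (le_cz_comm.1 (by
        simpa using hP.le.trans (QL.trans inf_le_left)))).trans (by simpa using h))⟩
    have k : ∀ h ∈ L, P ≤ D ⊔ zpowers (h⁻¹ * w * h) → ∃ l ∈ L, ¬ S ⊓ cz (cj l P) ≤ cj l P := fun h m e => by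
      have : cj h P ≤ M := by
        simpa [cj_sup, cj_zpowers, mem_nz.1 (cz_le_nz D m.1), mul_assoc] using cj_mono h e
      exact ⟨h, m, fun k => tQ ((sup_le_sup_left le_sup_right _ : M ≤ _) (this (k ⟨ht, cz_anti this (by
        rw [cz_sup]; exact ⟨t1, mem_cz_zpowers.2 t3⟩)⟩)))⟩
    have k0 : ¬ (x ∈ P ∧ w ∈ P) := fun e => hP.not_ge (sup_le c (sup_le (zpowers_le.2 e.1) (zpowers_le.2 e.2)))
    by_cases c1 : x ∈ P
    · exact k a aL (q.le_M c hP.le le_sup_left (fun _ => mem_sup_right (by rw [← a2]; simp [mul_assoc]))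
        (fun e => (k0 ⟨c1, e⟩).elim) fun e => (k0 ⟨c1, (mul_mem_cancel_left c1).1 e⟩).elim)
    by_cases c2 : w ∈ P
    · exact k 1 (one_mem _) (q.le_M c hP.le le_sup_left (fun e => (c1 e).elim) (fun _ => mem_sup_right (by simp))
        fun e => (c1 ((mul_mem_cancel_right c2).1 e)).elim)
    · exact k a⁻¹ (inv_mem aL) (q.le_M c hP.le le_sup_left (fun e => (c1 e).elim) (fun e => (c2 e).elim)
        fun _ => mem_sup_right (by simp [a3]))
  · obtain ⟨h, k, e⟩ := cov _ (inv_mem m)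
    have hL : h ∈ L := by rcases k with rfl | rfl | rfl <;> simp [aL]
    have : h⁻¹ * t * h ∈ nz M := by
      simpa [mul_assoc] using mul_mem (mul_mem (mul_mem e (U1 k2).2) (inv_mem e)) (inv_mem (q.le_nzM
        (conj_mem_of_mem_nz' (LQ hL) ((hN u n.1 n.2).resolve_left k1))))
    rcases k with rfl | rfl | rfl
    exacts [U2 l m (by simpa using e), (n2 this).elim, (n1 (by simpa using this)).elim]

end QP

theorem QP.build' {N : ℕ} {S D : Subgroup (Univ N)} {x w t : Univ N} (q : QP D x w) (hG : Good S) (hS : IsPGroup 2 S)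
    (hQ : Qg D x w ≤ S) (ht : t ∈ S) (t1 : t ∈ cz D)
    (t2 : (x * w)⁻¹ * (t * x * t⁻¹) ∈ zpowers (w * w)) (t3 : t * w * t⁻¹ = w ∨ t * w * t⁻¹ = w⁻¹)
    (hN : ∀ g ∈ S, g ∈ nz (Qg D x w) → g ∈ Qg D x w ∨ t⁻¹ * g ∈ Qg D x w) :
    ∃ F : FS (Univ N), F.S = S ∧ F.Sat 2 ∧ F ≠ inner S := by
  have xQ : x ∈ Qg D x w := mem_sup_right (mem_sup_left (mem_zpowers x))
  have wQ : w ∈ Qg D x w := mem_sup_right (mem_sup_right (mem_zpowers w))
  obtain ⟨a, a1, a2, a3⟩ := q.aut q.next q.sq'.symm hG hQ ((sup_le le_sup_left (sup_le (zpowers_le.2 wQ)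
    (zpowers_le.2 (mul_mem xQ wQ)))).trans hQ)
  rcases t3 with t3 | t3
  · exact q.build hS hQ ht t1 t2 t3 hN a1 a2 a3
  refine q.build hS hQ (mul_mem ht (hQ xQ)) (mul_mem t1 q.cx) (by simpa [mul_assoc] using t2) ?_
    (fun g m n => (hN g m n).imp_right fun k => by simpa [mul_assoc] using mul_mem (inv_mem xQ) k) a1 a2 a3
  rw [show t * x * w * (t * x)⁻¹ = t * (x * w * x⁻¹) * t⁻¹ by group, q.inv, ← conj_inv, t3, inv_inv]

theorem QP.comm (q : QP D x w) (hg : g ∈ Qg D x w) : x * g * x⁻¹ * g⁻¹ ∈ zpowers (w * w) := by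
  have k : ∀ c, x * c * x⁻¹ * c⁻¹ ∈ zpowers (w * w) → c⁻¹ * g ∈ D → x * g * x⁻¹ * g⁻¹ ∈ zpowers (w * w) :=
    fun c k e => by
      rwa [show x * g * x⁻¹ * g⁻¹ = x * c * x⁻¹ * (x * (c⁻¹ * g) * x⁻¹) * g⁻¹ by group, mem_cz.1 q.cx _ e,
        show x * c * x⁻¹ * (c⁻¹ * g) * g⁻¹ = x * c * x⁻¹ * c⁻¹ by group]
  rcases q.nf hg with e | e | e | e
  · exact k 1 (by simp) (by simpa using e)
  · exact k x (by simp) e
  · exact k w (by rw [q.inv, ← mul_inv_rev]; exact inv_mem (mem_zpowers _)) e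
  · refine k _ ?_ e
    rw [show x * (x * w) * x⁻¹ * (x * w)⁻¹ = x * ((x * w * x⁻¹) * w⁻¹) * x⁻¹ by group, q.inv, ← mul_inv_rev,
      mem_cz.1 q.cx _ (inv_mem q.mem)]
    exact inv_mem (mem_zpowers _)

theorem cyc_mem {m k : ℕ} (h : orderOf v = 2 ^ (m + k)) (hu : u ∈ zpowers v) (e : u ^ 2 ^ k = 1) :
    u ∈ zpowers (v ^ 2 ^ m) := by
  obtain ⟨i, rfl⟩ := nat_pow hu
  rw [← pow_mul, ← orderOf_dvd_iff_pow_eq_one, h, pow_add] at e
  obtain ⟨j, rfl⟩ := Nat.dvd_of_mul_dvd_mul_right (by positivity) e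
  rw [pow_mul]; exact npow_mem_zpowers _ _

/-- normal form of a bicyclic non-metacyclic `2`-group with cyclic derived subgroup -/
structure NF (S : Subgroup Γ) (a b v : Γ) (e : ℕ) : Prop where
  pg : IsPGroup 2 S
  aS : a ∈ S
  bS : b ∈ S
  ab : a * b * a⁻¹ = b * v
  bv : b * v * b⁻¹ = v⁻¹
  av : a * v * a⁻¹ = v ^ (2 * e + 1)
  bb : b * b ∈ zpowers (v ^ 2)
  nf : ∀ g ∈ S, ∃ c ∈ zpowers b, ∃ d ∈ zpowers a, ∃ u ∈ zpowers v, g = c * d * u
  n1 : v ∉ zpowers a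
  n2 : v ∉ zpowers (a * b)

theorem odd_gen' (hS : IsPGroup 2 S) (hx : x ∈ S) {m : ℤ} (hm : Odd m) : x ∈ zpowers (x ^ m) := by
  obtain ⟨k, e⟩ := hS.exists_orderOf_eq_pow (⟨x, hx⟩ : S)
  rw [Subgroup.orderOf_mk] at e
  rw [mem_zpowers_zpow_iff, e]
  exact_mod_cast (Nat.coprime_two_right.2 (Int.natAbs_odd.2 hm)).pow_right k

namespace NF
variable {e : ℕ} (r : NF S a b v e)
include r

theorem vS : v ∈ S := (mul_mem_cancel_left r.bS).1 (r.ab ▸ mul_mem (mul_mem r.aS r.bS) (inv_mem r.aS))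

theorem bu (hu : u ∈ zpowers v) : b * u * b⁻¹ = u⁻¹ := by
  obtain ⟨i, rfl⟩ := hu
  simp only [← conj_zpow, r.bv, inv_zpow]

theorem au (hu : u ∈ zpowers v) : a * u * a⁻¹ = u ^ (2 * e + 1) := by
  obtain ⟨i, rfl⟩ := hu
  simp only [← conj_zpow, r.av, ← zpow_natCast, zpow_comm v i]

theorem bbV : b * b ∈ zpowers v := zpowers_le.2 (npow_mem_zpowers v 2) r.bb

theorem b4 : b * b * (b * b) = 1 := by
  have := r.bu r.bbV
  rw [show b * (b * b) * b⁻¹ = b * b by group] at this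
  nth_rw 1 [this]; group

theorem na : a * a ∉ zpowers v := by
  rintro ⟨i, h⟩
  simp only at h
  obtain ⟨k, rfl | rfl⟩ := Int.even_or_odd' i
  · obtain ⟨j, f⟩ := r.bb
    simp only at f
    have : (a * b) ^ 2 = v ^ (2 * (j - k - 1) + 1) := by
      calc _ = a * b * a⁻¹ * (a * a) * b⁻¹ * (b * b) := by rw [pow_two]; group
        _ = b * v ^ (2 * k + 1) * b⁻¹ * (b * b) := by rw [r.ab, ← h]; group
        _ = _ := by rw [r.bu (zpow_mem_zpowers _ _), ← f, ← zpow_natCast]; group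
    exact r.n2 (zpowers_le.2 (this ▸ npow_mem_zpowers _ _) (odd_gen' r.pg r.vS (odd_two_mul_add_one _)))
  · exact r.n1 (zpowers_le.2 (h ▸ mul_mem (mem_zpowers a) (mem_zpowers a)) (odd_gen' r.pg r.vS (odd_two_mul_add_one k)))

theorem db : v ^ (e + 1) * (a * a) * b * (v ^ (e + 1) * (a * a))⁻¹ = b := by
  calc _ = v ^ (e + 1) * (a * (a * b * a⁻¹) * a⁻¹) * (v ^ (e + 1))⁻¹ := by group
    _ = b * (b⁻¹ * v ^ (e + 1) * b) * (v * v ^ (2 * e + 1)) * (v ^ (e + 1))⁻¹ := by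
        rw [r.ab, ← conj_mul (b := a), r.ab, r.av]; group
    _ = b := by
        nth_rw 1 [← inv_inv (v ^ (e + 1)), ← r.bu (inv_mem (npow_mem_zpowers v (e + 1)))]
        group

theorem du (hu : u ∈ zpowers v) (h : u ^ 8 = 1) : Commute (v ^ (e + 1) * (a * a)) u := by
  refine Commute.mul_left ((comm_zp hu (Commute.refl v)).symm.pow_left _) (mul_inv_eq_iff_eq_mul.1 ?_)
  obtain ⟨m, hm⟩ := Nat.even_mul_succ_self e
  rw [show a * a * u * (a * a)⁻¹ = a * (a * u * a⁻¹) * a⁻¹ by group, r.au hu, ← conj_pow, r.au hu, ← pow_mul,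
    show (2 * e + 1) * (2 * e + 1) = 8 * m + 1 by nlinarith, pow_succ, pow_mul, h, one_pow, one_mul]

theorem ad (h : v ^ 4 = 1) : Commute a (v ^ (e + 1) * (a * a)) := by
  refine Commute.mul_right (mul_inv_eq_iff_eq_mul.1 ?_) ((Commute.refl a).mul_right (Commute.refl a))
  obtain ⟨m, hm⟩ := Nat.even_mul_succ_self e
  rw [r.au (npow_mem_zpowers _ _), ← pow_mul, show (e + 1) * (2 * e + 1) = 4 * m + (e + 1) by nlinarith, pow_add,
    pow_mul, h, one_pow, one_mul]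

theorem nf' (hd : d = v ^ (e + 1) * (a * a)) (hg : g ∈ S) : ∃ c ∈ zpowers b ⊔ zpowers d, ∃ u ∈ zpowers v,
    g = c * u ∨ g = c * a⁻¹ * u := by
  obtain ⟨c, c1, f, f1, u, u1, rfl⟩ := r.nf g hg
  have n : a ∈ nz (zpowers v) := mem_nz_of_conj_mem fun u h => r.au h ▸ pow_mem h _
  have k : zpowers (a ^ 2) ≤ zpowers d ⊔ zpowers v := zpowers_le.2 (by
    rw [pow_two, ← mul_mem_cancel_left (mem_sup_right (npow_mem_zpowers v (e + 1))), ← hd]
    exact mem_sup_left (mem_zpowers d))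
  have k' := fun g => (mem_sup_of_le_nz_right (x := g) (zpowers_le.2 (hd ▸ mul_mem (le_nz_self _
    (npow_mem_zpowers v (e + 1))) (mul_mem n n)) : zpowers d ≤ _)).1
  rcases zp_par f1 with h | h <;> obtain ⟨s, s1, w, w1, h⟩ := k' _ (k h)
  · exact ⟨_, mul_mem (mem_sup_left c1) (mem_sup_right s1), _, mul_mem w1 u1, .inl (by rw [← h]; group)⟩
  · refine ⟨_, mul_mem (mem_sup_left c1) (mem_sup_right s1), _, mul_mem (conj_mem_of_mem_nz n w1) u1, .inr ?_⟩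
    rw [← (comm_zp f1 (Commute.refl a)).eq, ← mul_inv_eq_iff_eq_mul] at h
    rw [← h]; group

end NF

theorem NF.fin {N e m k : ℕ} {S : Subgroup (Univ N)} {a b c d v w : Univ N} (r : NF S a b v e) (hG : Good S)
    (hd : d = v ^ (e + 1) * (a * a)) (ho : orderOf v = 2 ^ (m + (k + 1))) (hk : k ≤ 1) (hw : w = v ^ 2 ^ m)
    (hc : c ∈ zpowers d) (h1 : b * c * (b * c) = w * w) (h2 : k = 0 → w ∉ zpowers d) :
    ∃ F : FS (Univ N), F.S = S ∧ F.Sat 2 ∧ F ≠ inner S := by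
  have wV : w ∈ zpowers v := hw ▸ npow_mem_zpowers _ _
  have ow : orderOf w = 2 ^ (k + 1) := by
    rw [hw, orderOf_pow_of_dvd (by positivity) (ho ▸ pow_dvd_pow _ le_self_add), ho, pow_add,
      Nat.mul_div_cancel_left _ (by positivity)]
  have w2 : (w * w) ^ 2 ^ k = 1 := by rw [← pow_two, ← pow_mul, ← pow_succ', ← ow, pow_orderOf_eq_one]
  have w4 : w ^ 4 = 1 := orderOf_dvd_iff_pow_eq_one.1 (ow ▸ pow_dvd_pow 2 (show k + 1 ≤ 2 by omega))
  have cD : ∀ g, Commute g d → Commute g (w * w) → g ∈ cz (zpowers d ⊔ zpowers (w * w)) := fun g h h' => by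
    rw [cz_sup]
    exact ⟨mem_cz_zpowers.2 (mul_inv_eq_iff_eq_mul.2 h), mem_cz_zpowers.2 (mul_inv_eq_iff_eq_mul.2 h')⟩
  have dw : Commute d w := hd ▸ r.du wV (by rw [show 8 = 4 * 2 from rfl, pow_mul, w4, one_pow])
  have db : Commute d b := mul_inv_eq_iff_eq_mul.1 (hd ▸ r.db)
  have bw : Commute b (w * w) := mul_inv_eq_iff_eq_mul.1 (by
    rw [r.bu (mul_mem wV wV), inv_eq_iff_mul_eq_one, ← w4]; simp [pow_succ, mul_assoc])
  have xw : b * c * w * (b * c)⁻¹ = w⁻¹ := by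
    rw [← r.bu wV, mul_assoc b, (comm_zp hc dw).eq]; group
  have cx := cD _ (db.symm.mul_left (comm_zp hc (.refl d))) (bw.mul_left (comm_zp hc (dw.mul_right dw)))
  set D := zpowers d ⊔ zpowers (w * w)
  have nw : w ∉ D := fun h => by
    rcases k with _ | k
    · exact h2 rfl (by simpa [D, show w * w = 1 by simpa using w2] using h)
    have := (mem_cz.1 cx w h).symm.trans xw
    rw [eq_inv_iff_mul_eq_one, ← pow_two, ← orderOf_dvd_iff_pow_eq_one, ow] at this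
    have := Nat.le_of_dvd two_pos this
    rw [pow_succ, pow_succ] at this
    have := Nat.two_pow_pos k
    omega
  obtain ⟨t, t0, t1, t2, t3, t4⟩ : ∃ t ∈ S, t ∈ cz D ∧ (b * c * w)⁻¹ * (t * (b * c) * t⁻¹) ∈ zpowers (w * w) ∧
      (t * w * t⁻¹ = w ∨ t * w * t⁻¹ = w⁻¹) ∧ (m = 0 ∧ t = a ∨ ∃ j, m = j + 1 ∧ t = v ^ 2 ^ j) := by
    rcases m with _ | m
    · obtain rfl : w = v := by simpa using hw
      have ad : Commute a d := hd ▸ r.ad w4
      refine ⟨a, r.aS, cD a ad (mul_inv_eq_iff_eq_mul.1 ?_), ?_, ?_, .inl ⟨rfl, rfl⟩⟩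
      · rw [r.au (mul_mem wV wV), pow_succ, pow_mul, show (w * w) ^ 2 = w ^ 4 by simp [pow_succ, mul_assoc], w4, one_pow, one_mul]
      · rw [← conj_mul, r.ab, (comm_zp hc ad.symm).symm.eq, mul_assoc b c, (comm_zp hc dw).eq]; simp [mul_assoc]
      · rw [r.av]
        obtain ⟨j, rfl | rfl⟩ := Nat.even_or_odd' e
        · left; rw [show 2 * (2 * j) + 1 = 4 * j + 1 by ring, pow_succ, pow_mul, w4, one_pow, one_mul]
        · right; rw [eq_inv_iff_mul_eq_one, ← pow_succ, show 2 * (2 * j + 1) + 1 + 1 = 4 * (j + 1) by ring, pow_mul, w4,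
            one_pow]
    have tw : v ^ 2 ^ m * v ^ 2 ^ m = w := by rw [hw, pow_succ, pow_mul, pow_two]
    have tV := npow_mem_zpowers v (2 ^ m)
    refine ⟨_, pow_mem r.vS _, ?_, ?_, ?_, .inr ⟨m, rfl, rfl⟩⟩ <;> generalize v ^ 2 ^ m = t at tw tV <;>
      have dt : Commute d t := hd ▸ r.du tV (by rw [← w4, ← tw, ← pow_two, ← pow_mul])
    · exact cD _ dt.symm (by rw [← tw]; simp)
    · rw [show t * (b * c) * t⁻¹ = b * (b⁻¹ * t⁻¹⁻¹ * b) * (c * t⁻¹) by group, ← r.bu (inv_mem tV),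
        (comm_zp hc dt.inv_right).eq, mul_assoc b c, (comm_zp hc dw).eq, ← tw,
        show (b * (t * t * c))⁻¹ * (b * (b⁻¹ * (b * t⁻¹ * b⁻¹) * b) * (t⁻¹ * c)) = c⁻¹ * ((t * t * (t * t))⁻¹ * c) by group,
        ← (comm_zp hc (tw ▸ dw.mul_right dw).inv_right).eq, inv_mul_cancel_left]
      exact inv_mem (mem_zpowers _)
    · left; rw [← tw]; group
  have nx : b * c ∉ D := fun h => nw (by
    rw [mem_cz.1 t1 _ h] at t2
    simpa [mul_assoc] using (mem_sup_right t2 : _ ∈ D))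
  have q : QP D (b * c) w := ⟨sup_le (zpowers_le.2 (cD d (.refl d) (dw.mul_right dw))) (zpowers_le.2
    (cD _ (dw.mul_right dw).symm (.refl _))), cx, cD w dw.symm (by simp), xw, h1, mem_sup_right (mem_zpowers _), nx, nw,
    fun h => nx (by
      simpa [mul_assoc] using conj_mem_of_mem_nz' (cz_le_nz D t1) ((mul_mem_cancel_left (inv_mem h)).1
        (mem_sup_right t2)))⟩
  have dS : d ∈ S := hd ▸ mul_mem (pow_mem r.vS _) (mul_mem r.aS r.aS)
  have wS := zpowers_le.2 r.vS wV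
  have dQ : zpowers d ≤ Qg D (b * c) w := le_sup_left.trans le_sup_left
  have wQ : zpowers w ≤ Qg D (b * c) w := le_sup_right.trans le_sup_right
  have bQ : b ∈ Qg D (b * c) w := (mul_mem_cancel_right (dQ hc)).1 (mem_sup_right (mem_sup_left (mem_zpowers _)))
  refine q.build' hG r.pg (sup_le (sup_le (zpowers_le.2 dS) (zpowers_le.2 (mul_mem wS wS))) (sup_le
    (zpowers_le.2 (mul_mem r.bS (zpowers_le.2 dS hc))) (zpowers_le.2 wS))) t0 t1 t2 t3 fun g g1 g2 => ?_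
  set Q := Qg D (b * c) w
  have key : ∀ u ∈ zpowers v, u ∈ Q → u ^ 2 ^ (k + 1) = 1 := fun u h h' => by
    have := q.comm h'
    have cu : c * u * c⁻¹ = u := mem_cz.1 (le_cz_comm.1 (sup_le q.ab (sup_le (zpowers_le.2 q.cx)
      (zpowers_le.2 q.cw)) : Q ≤ cz D) (mem_sup_left hc)) u h'
    rw [show b * c * u * (b * c)⁻¹ = b * (c * u * c⁻¹) * b⁻¹ by group, cu, r.bu h, ← mul_inv_rev, inv_mem_iff] at this
    obtain ⟨i, f⟩ := this
    rw [pow_succ', pow_mul, pow_two, ← f, ← zpow_natCast, zpow_comm, zpow_natCast, w2, one_zpow]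
  obtain ⟨s, s1, u, u1, h⟩ := r.nf' hd g1
  have s2 : s ∈ Q := sup_le (zpowers_le.2 bQ) dQ s1
  have uS := zpowers_le.2 r.vS u1
  rcases h with rfl | rfl
  · rcases t4 with ⟨rfl, -⟩ | ⟨j, rfl, rfl⟩
    · exact .inl (mul_mem s2 (wQ (by simpa [hw] using u1)))
    have n := (mul_mem_cancel_left (le_nz_self Q s2)).1 g2
    have : u * u ∈ Q := by
      simpa [mul_assoc, r.bu (inv_mem u1)] using mul_mem (conj_mem_of_mem_nz n bQ) (inv_mem bQ)
    have := cyc_mem (m := j) (k := k + 2) (by rw [ho]; congr 1; ring) u1 (by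
      rw [pow_succ', pow_mul, pow_two]; exact key _ (mul_mem u1 u1) this)
    have e2 : zpowers ((v ^ 2 ^ j) ^ 2) ≤ Q := by rwa [← pow_mul, ← pow_succ, ← hw]
    generalize v ^ 2 ^ j = t at *
    refine (zp_par this).imp (fun h => mul_mem s2 (e2 h)) fun h => ?_
    have n' := (mul_mem_cancel_right n).1 (le_nz_self Q (e2 h))
    simpa [mul_assoc, pow_two] using mul_mem (mul_mem (conj_mem_of_mem_nz' n' s2) (inv_mem (e2 (mem_zpowers _)))) (e2 h)
  · have n := inv_mem ((mul_mem_cancel_left (le_nz_self Q s2)).1 (mul_assoc s _ _ ▸ g2))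
    have vQ : v ∈ Q := by
      have := mul_mem (inv_mem bQ) (conj_mem_of_mem_nz n bQ)
      obtain ⟨i, rfl⟩ := u1
      rw [show b⁻¹ * ((a⁻¹ * v ^ i)⁻¹ * b * (a⁻¹ * v ^ i)⁻¹⁻¹) = b⁻¹ * (v ^ i)⁻¹ * (a * b * a⁻¹) * v ^ i by group,
        r.ab, ← r.bu (zpow_mem_zpowers v i), show b⁻¹ * (b * v ^ i * b⁻¹) * (b * v) * v ^ i = v ^ (2 * i + 1) by group] at this
      exact zpowers_le.2 this (odd_gen' r.pg r.vS (odd_two_mul_add_one i))
    have := Nat.le_of_dvd (by positivity) (ho ▸ orderOf_dvd_of_pow_eq_one (key v (mem_zpowers v) vQ))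
    rw [Nat.pow_le_pow_iff_right (by decide)] at this
    rcases t4 with ⟨-, rfl⟩ | ⟨j, rfl, -⟩
    swap
    · omega
    have uQ := zpowers_le.2 vQ u1
    have n' : t ∈ nz Q := by simpa using mul_mem (le_nz_self Q uQ) n
    have : t * t ∈ Q := (mul_mem_cancel_left (pow_mem vQ (e + 1))).1 (hd ▸ dQ (mem_zpowers d))
    exact .inr (by simpa [mul_assoc] using mul_mem (mul_mem (conj_mem_of_mem_nz' n' s2) (inv_mem this)) uQ)

theorem NF.exists {N e : ℕ} {S : Subgroup (Univ N)} {a b v : Univ N} (r : NF S a b v e) (hG : Good S) :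
    ∃ F : FS (Univ N), F.S = S ∧ F.Sat 2 ∧ F ≠ inner S := by
  obtain ⟨n, ho⟩ := r.pg.exists_orderOf_eq_pow (⟨v, r.vS⟩ : S)
  rw [Subgroup.orderOf_mk] at ho
  rcases n with _ | n
  · exact (r.n1 (by rw [orderOf_eq_one_iff.1 ho]; exact one_mem _)).elim
  have z2 : v ^ 2 ^ n * v ^ 2 ^ n = 1 := by rw [← pow_two, ← pow_mul, ← pow_succ, ← ho, pow_orderOf_eq_one]
  have z1 : v ^ 2 ^ n ≠ 1 := pow_ne_one_of_lt_orderOf (by positivity) (ho ▸ Nat.pow_lt_pow_succ one_lt_two)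
  have two : ∀ c ∈ zpowers (v ^ (e + 1) * (a * a)), b * c * (b * c) = v ^ 2 ^ n → n ≠ 0 →
      ∃ F : FS (Univ N), F.S = S ∧ F.Sat 2 ∧ F ≠ inner S := fun c h1 h2 h3 => by
    obtain ⟨m, rfl⟩ := Nat.exists_eq_succ_of_ne_zero h3
    exact r.fin hG rfl (k := 1) ho le_rfl rfl h1 (by rw [h2, ← pow_two, ← pow_mul, ← pow_succ]) (by simp)
  rcases zp_two z2 (cyc_mem (k := 1) ho r.bbV (by rw [pow_one, pow_two, r.b4])) with h | h
  swap
  · refine two 1 (one_mem _) (by simpa using h) ?_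
    rintro rfl
    have := r.bb
    rw [h, show v ^ 2 = 1 by simpa [pow_two] using z2] at this
    exact z1 (by simpa using this)
  by_cases k : v ^ 2 ^ n ∈ zpowers (v ^ (e + 1) * (a * a))
  swap
  · exact r.fin hG rfl (k := 0) ho zero_le_one rfl (one_mem _) (by simp [h, z2]) fun _ => k
  obtain ⟨i, f⟩ := k
  simp only at f
  have dS := mul_mem (pow_mem r.vS (e + 1)) (mul_mem r.aS r.aS)
  obtain ⟨j, rfl | rfl⟩ := Int.even_or_odd' i
  · refine two _ (zpow_mem_zpowers _ j) ?_ ?_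
    · rw [(Commute.zpow_left (mul_inv_eq_iff_eq_mul.1 r.db) j).mul_mul_mul_comm, h, ← f]; group
    rintro rfl
    have v2 : v ^ 2 = 1 := by simpa [pow_two] using z2
    have c : Commute a v := mul_inv_eq_iff_eq_mul.1 (by rw [r.av, pow_succ, pow_mul, v2, one_pow, one_mul])
    rw [((c.mul_left c).symm.pow_left _).mul_zpow, zpow_mul, zpow_two, ← pow_two, pow_right_comm, v2] at f
    simp only [one_pow, one_zpow, one_mul, pow_zero, pow_one] at f
    exact r.n1 (f ▸ zpow_mem (mul_mem (mem_zpowers a) (mem_zpowers a)) (2 * j))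
  · exact (r.na ((mul_mem_cancel_left (npow_mem_zpowers v (e + 1))).1 (zpowers_le.2 (f ▸ npow_mem_zpowers v _)
      (odd_gen' r.pg dS (odd_two_mul_add_one j))))).elim

theorem conj_odd (hP : IsPGroup 2 Γ) [n : (zpowers v).Normal] (g : Γ) : ∃ e : ℕ, g * v * g⁻¹ = v ^ (2 * e + 1) := by
  obtain ⟨k, h⟩ := nat_pow (n.conj_mem v (mem_zpowers v) g)
  obtain ⟨e, rfl | rfl⟩ := Nat.even_or_odd' k
  swap
  · exact ⟨e, h⟩
  obtain ⟨i, f⟩ := n.conj_mem' v (mem_zpowers v) g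
  have : v ∈ zpowers (v ^ (2 * e)) := ⟨i, by simp only at f ⊢; rw [← h, conj_zpow, f]; group⟩
  obtain ⟨m, o⟩ := hP.exists_orderOf_eq_pow v
  rw [mem_zpowers_pow_iff, o] at this
  rcases m with _ | m
  · exact ⟨0, by simp [orderOf_eq_one_iff.1 o]⟩
  · exact absurd (this ▸ Nat.dvd_gcd (dvd_mul_right 2 e) (dvd_pow_self 2 m.succ_ne_zero)) (by decide)

theorem mc_of (h1 : zpowers g ⊔ zpowers h = ⊤) (h2 : commutator Γ ≤ zpowers g) : IsMetacyclic Γ :=
  haveI := Normal.of_commutator_le _ h2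
  H24.meta_of_pair h1

theorem exists_ab (hP : IsPGroup 2 Γ) (hb : Bic x y) (hc : IsCyclic (commutator Γ)) (hm : ¬ IsMetacyclic Γ) :
    ∃ b, zpowers b ⊔ zpowers x = ⊤ ∧ b * b ∈ zpowers (⁅x, y⁆ ^ 2) ∧ commutator Γ = zpowers ⁅x, y⁆ := by
  have top : ∀ {K : Subgroup Γ}, x ∈ K → y ∈ K → K = ⊤ := fun h1 h2 => (eq_top_iff' _).2 fun g => by
    obtain ⟨a, k1, b, k2, rfl⟩ := hb g
    exact mul_mem (zpowers_le.2 h1 k1) (zpowers_le.2 h2 k2)
  have t0 := top (mem_sup_left (mem_zpowers x)) (mem_sup_right (mem_zpowers y))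
  have e := H4.commutator_eq_zpowers hc t0
  generalize ⁅x, y⁆ = u at *
  have : (zpowers u).Normal := e ▸ inferInstance
  have : (zpowers (u ^ 2)).Normal := ⟨fun _ ⟨i, h⟩ g => by
    obtain ⟨k, f⟩ := conj_odd (v := u) hP g
    simp only at h
    rw [← h, ← conj_zpow, ← conj_pow, f, pow_right_comm]
    exact zpow_mem (npow_mem_zpowers _ _) i⟩
  let f := QuotientGroup.mk' (zpowers (u ^ 2))
  have hf : Function.Surjective f := QuotientGroup.mk'_surjective _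
  have u2 : f u ^ 2 = 1 := (QuotientGroup.eq_one_iff _).2 (mem_zpowers _)
  have k : Bs ⊤ (f u) := ⟨mem_center_iff.2 fun g => by
    obtain ⟨g, rfl⟩ := hf g
    obtain ⟨k, h⟩ := conj_odd (v := u) hP g
    rw [← mul_inv_eq_iff_eq_mul, ← map_inv, ← map_mul, ← map_mul, h, map_pow, pow_succ (f u), pow_mul, u2, one_pow, one_mul],
    pow_two (f u) ▸ u2, by
    rw [← map_top_of_surjective f hf, ← map_commutator, ← _root_.commutator_def, e, MonoidHom.map_zpowers]⟩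
  obtain ⟨_, h1, _, h2, h⟩ := hb u
  obtain ⟨i, rfl⟩ := nat_pow h1
  obtain ⟨j, rfl⟩ := nat_pow h2
  rcases eq_or_ne i 0 with rfl | h0
  · exact (hm (mc_of ((sup_comm _ _).trans t0) (e.trans_le (zpowers_le.2 (by simp [h]))))).elim
  obtain ⟨s, i, j, rfl, rfl, o⟩ := two_split i j h0
  have t1 : Odd j → zpowers (x ^ i * y ^ j) ⊔ zpowers x = ⊤ := fun o => top (mem_sup_right (mem_zpowers x))
    (zpowers_le.2 ((mul_mem_cancel_left (pow_mem (mem_sup_right (mem_zpowers _)) i)).1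
      (mem_sup_left (mem_zpowers _))) (odd_gen hP _ o))
  have g2 : f u ≠ (f x ^ i * f y ^ j) ^ 2 ^ s := fun h => by
    obtain ⟨m, h⟩ := QuotientGroup.eq.1 (h.trans (by simp [f] : _ = f ((x ^ i * y ^ j) ^ 2 ^ s)))
    have d := e.trans_le (zpowers_le.2 (zpowers_le.2 (show u ^ (2 * m + 1) ∈ zpowers (x ^ i * y ^ j) by
      rw [zpow_add, zpow_one, ← (Commute.refl u).zpow_right _, zpow_mul, zpow_two, ← pow_two, show (u ^ 2) ^ m = _ from h,
        mul_inv_cancel_left]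
      exact npow_mem_zpowers _ _) (odd_gen' (hP.to_subgroup ⊤) (mem_top u) (odd_two_mul_add_one m))))
    rcases o with o | o
    · exact hm (mc_of (top (zpowers_le.2 ((mul_mem_cancel_right (pow_mem (mem_sup_right (mem_zpowers y)) j)).1
        (mem_sup_left (mem_zpowers _))) (odd_gen hP x o)) (mem_sup_right (mem_zpowers _))) d)
    · exact hm (mc_of (t1 o) d)
  have h' : f u = (f x ^ i) ^ 2 ^ s * (f y ^ j) ^ 2 ^ s := (congrArg f h).trans (by simp only [pow_mul, map_mul, map_pow])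
  by_cases c : Commute (f x ^ i) (f y ^ j)
  · exact (g2 (h'.trans (c.mul_pow _).symm)).elim
  rcases s with _ | _ | s
  · exact (g2 (by simpa using h')).elim
  · refine ⟨_, t1 (Nat.not_even_iff_odd.1 fun ⟨m, hm⟩ => c (by
      rw [hm, ← two_mul, pow_mul]; exact ((k.sqc trivial trivial).pow_left m).symm)), ?_, e⟩
    rw [← QuotientGroup.eq_one_iff, ← pow_two]
    have := k.sqm (a := f x ^ i) (b := f y ^ j) trivial trivial c
    rw [show (f x ^ i) ^ 2 * (f y ^ j) ^ 2 = f u by simpa using h'.symm, k.sq] at this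
    simpa [f] using this
  · exact (g2 (h'.trans (k.pw trivial trivial s).symm)).elim

theorem exists_NF (hP : IsPGroup 2 Γ) (hb : Bic x y) (hc : IsCyclic (commutator Γ)) (hm : ¬ IsMetacyclic Γ) :
    ∃ (a b v : Γ) (e : ℕ), NF ⊤ a b v e := by
  obtain ⟨b, h1, h2, h3⟩ := exists_ab hP hb hc hm
  have e := H4.commutator_eq_zpowers hc (x := b⁻¹) (y := x) (by rwa [zpowers_inv])
  have ab : x * b * x⁻¹ = b * ⁅b⁻¹, x⁆ := by simp [commutatorElement_def, mul_assoc]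
  generalize ⁅b⁻¹, x⁆ = v at *
  have n : (zpowers v).Normal := e ▸ inferInstance
  obtain ⟨k, av⟩ := conj_odd (v := v) hP x
  have bb : b * b ∈ zpowers (v ^ 2) := by
    obtain ⟨i, f⟩ := (h3.symm.trans e).le (mem_zpowers _)
    refine zpowers_le.2 ?_ h2
    simp only at f
    rw [← f, ← zpow_natCast (v ^ i), zpow_comm, zpow_natCast]
    exact zpow_mem_zpowers _ _
  refine ⟨x, b, v, k, hP.to_subgroup _, trivial, trivial, ab, ?_, av, bb, fun g _ => ?_,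
    fun h => hm (mc_of ((sup_comm _ _).trans h1) (e.trans_le (zpowers_le.2 h))), fun h => hm (mc_of (h := b) ?_
      (e.trans_le (zpowers_le.2 h)))⟩
  · obtain ⟨c, f⟩ := bb
    simp only [← zpow_natCast, ← zpow_mul] at f
    have f1 : b * v * b⁻¹ = v ^ (4 * c * k - 1) := by
      calc _ = (b * v * (b * v)) * v⁻¹ * (b * b)⁻¹ := by group
        _ = _ := by rw [← ab, conj_mul, ← f, ← conj_zpow, av, ← zpow_natCast]; push_cast; group
    have f2 : (v ^ (4 * c)) ^ (2 * c * k - 1) = 1 := by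
      have : b * v ^ (2 * c) * b⁻¹ = v ^ (2 * c) := by rw [show v ^ (2 * c) = b * b from f]; group
      rw [← conj_zpow, f1, ← mul_inv_eq_one] at this
      rw [← this]; group
    have := odd_gen' (hP.to_subgroup ⊤) (mem_top (v ^ (4 * c))) (m := 2 * c * k - 1) ⟨c * k - 1, by ring⟩
    rw [f2, zpowers_one_eq_bot, mem_bot] at this
    rw [f1, zpow_sub, zpow_mul, this]; simp
  · have : (zpowers x ⊔ zpowers v).Normal := Normal.of_commutator_le _ (e.trans_le le_sup_right)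
    obtain ⟨c, c1, m, m1, rfl⟩ := mem_sup_of_normal_right.1 ((sup_le_sup_left (le_sup_left (b := zpowers v)) _)
      (h1.ge (mem_top g)))
    obtain ⟨d, d1, u, u1, rfl⟩ := mem_sup_of_normal_right.1 m1
    exact ⟨c, c1, d, d1, u, u1, (mul_assoc _ _ _).symm⟩
  · rw [eq_top_iff, ← h1]
    exact sup_le le_sup_right (zpowers_le.2 ((mul_mem_cancel_right (mem_sup_right (mem_zpowers b))).1
      (mem_sup_left (mem_zpowers _))))

theorem NF.map {Ω : Type*} [Group Ω] [Finite Ω] {e : ℕ} (r : NF ⊤ a b v e) (f : Γ →* Ω) (hf : Function.Injective f) :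
    NF f.range (f a) (f b) (f v) e := by
  have k : ∀ {g c : Γ}, f g ∈ zpowers (f c) ↔ g ∈ zpowers c := by
    intro g c; rw [← MonoidHom.map_zpowers, mem_map_iff_mem hf]
  refine ⟨f.range_eq_map ▸ r.pg.map f, ⟨_, rfl⟩, ⟨_, rfl⟩, by simpa using congrArg f r.ab, by simpa using congrArg f r.bv,
    by simpa using congrArg f r.av, by simpa using k.2 r.bb, ?_, fun h => r.n1 (k.1 h), fun h => r.n2 (k.1 (by simpa using h))⟩
  rintro _ ⟨g, rfl⟩
  obtain ⟨c, c1, d, d1, u, u1, rfl⟩ := r.nf g trivial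
  exact ⟨_, k.2 c1, _, k.2 d1, _, k.2 u1, by simp⟩

theorem of_cyc {N : ℕ} (hP : IsPGroup 2 Γ) (hb : Bic x y) (hc : IsCyclic (commutator Γ)) (hm : ¬ IsMetacyclic Γ)
    (f : Γ →* Univ N) (hf : Function.Injective f) (hG : Good f.range) :
    ∃ F : FS (Univ N), F.S = f.range ∧ F.Sat 2 ∧ F ≠ inner f.range :=
  let ⟨_, _, _, _, r⟩ := exists_NF hP hb hc hm
  (r.map f hf).exists hG

end H19.BF
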