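/-
Saturated fusion systems on bicyclic `2`-groups: essential subgroups of rank three.
-/
import Cfsg.Agent.H19.BF1
import Cfsg.Agent.S0572

set_option autoImplicit false
set_option linter.unusedSectionVars false

namespace H19.BF
open Cfsg Subgroup H25 H25.FS H19.BI
open H4 (Cm)
open scoped commutatorElement

universe u
variable {Γ : Type u} [Group Γ] [Finite Γ] {S P Q R L D K U V W : Subgroup Γ} {F : FS Γ}
variable {a b c d e f g h l r s t u v w x y z : Γ}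

theorem two_le (h : L < K) : 2 * Nat.card L ≤ Nat.card K := by
  obtain ⟨m, e⟩ := card_dvd_of_le h.le
  have := card_lt_of_lt h
  rw [e] at this ⊢
  rcases m with _ | _ | m <;> [omega; omega; nlinarith]

theorem lt_sup (h : x ∉ K) : K < K ⊔ zpowers x :=
  lt_of_le_not_ge le_sup_left fun k => h (k (mem_sup_right (mem_zpowers x)))

theorem mem_sup_sq' (hc : c ∈ nz D) (h : c * c ∈ D) (hg : g ∈ D ⊔ zpowers c) : g ∈ D ∨ c⁻¹ * g ∈ D := by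
  obtain ⟨d, h1, e, h2, rfl⟩ := (mem_sup_of_le_nz_left (zpowers_le.2 hc)).1 hg
  have k := zpowers_le.2 (pow_two c ▸ h)
  refine (zp_par h2).imp (fun m => mul_mem h1 (k m)) fun m => ?_
  rw [show c⁻¹ * (d * e) = (c * c)⁻¹ * (c * d * c⁻¹) * (c * e) by group]
  exact mul_mem (mul_mem (inv_mem h) (conj_mem_of_mem_nz hc h1)) (k m)

theorem exists_quot (hn : K ≤ nz L) : ∃ (G : Type u) (_ : Group G) (_ : Finite G) (π : K →* G),
    ∀ x ∈ K, ex π x = 1 ↔ x ∈ L :=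
  haveI : (L.subgroupOf K).Normal := ⟨fun _ h g => conj_mem_of_mem_nz (P := L) (hn g.2) h⟩
  ⟨_, _, inferInstance, QuotientGroup.mk' (L.subgroupOf K), fun x h => by
    rw [ex_of_mem _ h]; exact QuotientGroup.eq_one_iff _⟩

/-- elements fixed by `r` modulo `K` -/
def Ax (K : Subgroup Γ) (r : Γ) : Subgroup Γ where
  carrier := {q | q ∈ nz K ∧ q⁻¹ * (r * q * r⁻¹) ∈ K}
  one_mem' := ⟨one_mem _, by simp⟩
  mul_mem' := fun {a b} h k => ⟨mul_mem h.1 k.1, by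
    simpa [mul_assoc] using mul_mem (conj_mem_of_mem_nz' k.1 h.2) k.2⟩
  inv_mem' := fun {a} h => ⟨inv_mem h.1, by
    simpa [mul_assoc] using inv_mem (conj_mem_of_mem_nz h.1 h.2)⟩

theorem fr_le_sq (h : ∀ u ∈ U, u * u ∈ L) : fr U ≤ L :=
  fr_le_of (p := 2) (commutator_le.2 fun _ h1 _ h2 => H4.comm_mem_of_sq h h1 h2) fun x m => pow_two x ▸ h x m

theorem sq_fr (hU : IsPGroup 2 U) (h : u ∈ U) : u * u ∈ fr U := pow_two u ▸ pow_mem_fr hU h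

theorem stab_sq (h1 : g ∈ stab K L) (h2 : g ∈ stab L D) (h : ∀ l ∈ L, l * l ∈ D) : g * g ∈ stab K D :=
  ⟨mul_mem h1.1 h1.1, fun q m => by
    have := h1.2 q m
    rw [show q⁻¹ * (g * g * q * (g * g)⁻¹) = (q⁻¹ * (g * q * g⁻¹)) * (q⁻¹ * (g * q * g⁻¹)) *
      ((q⁻¹ * (g * q * g⁻¹))⁻¹ * (g * (q⁻¹ * (g * q * g⁻¹)) * g⁻¹)) by group]
    exact mul_mem (h _ this) (h2.2 _ this)⟩

/-- elementary abelian of order at most eight -/
structure EA (V : Subgroup Γ) : Prop where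
  sq : ∀ v ∈ V, v * v = 1
  card : Nat.card V ≤ 8

theorem EA.cm (h : EA V) : Cm V := fun a ha b hb => by
  rw [← inv_eq_of_mul_eq_one_right (h.sq _ (mul_mem ha hb)), mul_inv_rev, inv_eq_of_mul_eq_one_right (h.sq _ ha),
    inv_eq_of_mul_eq_one_right (h.sq _ hb)]

theorem EA.top (h : EA V) (h1 : L ≠ ⊥) (h2 : L < K) (h3 : K < D) (h4 : D ≤ V) : V ≤ D := by
  have := two_le h1.bot_lt
  have := two_le h2
  have := two_le h3
  have := h.card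
  rw [card_bot] at *
  exact (eq_of_le_of_card_ge h4 (by omega)).ge

/-- `t` induces a transvection with centre `e` -/
structure Tv (V : Subgroup Γ) (t e : Γ) : Prop where
  tn : t ∈ nz V
  eV : e ∈ V
  e1 : e ≠ 1
  fix : t * e * t⁻¹ = e
  mv : ∀ v ∈ V, t * v * t⁻¹ = v ∨ t * v * t⁻¹ = v * e
  ex : ∃ v ∈ V, t * v * t⁻¹ = v * e

theorem fix_le (h : t * x * t⁻¹ = x) : zpowers x ≤ cz (zpowers t) :=
  le_cz_comm.1 (zpowers_le.2 (mem_cz_zpowers.2 h))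

theorem fix_of (h : x ∈ cz (zpowers t)) : t * x * t⁻¹ = x :=
  mem_cz_zpowers.1 (le_cz_comm.1 (zpowers_le.2 h) (mem_zpowers t))

theorem EA.exists_tv (h : EA V) (h1 : t ∈ nz V) (h2 : t * t ∈ cz V) (h3 : t ∉ cz V) : ∃ e, Tv V t e := by
  obtain ⟨q, m, k⟩ : ∃ q ∈ V, t * q * t⁻¹ ≠ q := by simpa [mem_cz] using h3
  have d1 : ∀ v ∈ V, v * (t * v * t⁻¹) ∈ V := fun v m => mul_mem m (conj_mem_of_mem_nz h1 m)
  have d2 : ∀ v ∈ V, t * (v * (t * v * t⁻¹)) * t⁻¹ = v * (t * v * t⁻¹) := fun v m => by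
    rw [← conj_mul, h.cm v m _ (conj_mem_of_mem_nz h1 m)]
    nth_rw 4 [← mem_cz.1 h2 v m]
    group
  have d3 : ∀ v ∈ V, t * v * t⁻¹ = v * (v * (t * v * t⁻¹)) := fun v m => by rw [← mul_assoc, h.sq v m, one_mul]
  have e1 : q * (t * q * t⁻¹) ≠ 1 := fun e => k (by rw [d3 q m, e, mul_one])
  refine ⟨_, h1, d1 q m, e1, d2 q m, fun v n => ?_, q, m, d3 q m⟩
  generalize he : q * (t * q * t⁻¹) = e at *
  by_cases c : v * (t * v * t⁻¹) ∈ zpowers e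
  · rw [d3 v n]
    exact (zp_two (h.sq e (he ▸ d1 q m)) c).imp (fun f => by rw [f, mul_one]) fun f => by rw [f]
  have k1 : zpowers e ⊔ zpowers (v * (t * v * t⁻¹)) ≤ cz (zpowers t) := sup_le (fix_le (he ▸ d2 q m)) (fix_le (d2 v n))
  have k2 : zpowers e ⊔ zpowers (v * (t * v * t⁻¹)) ≤ V := sup_le (zpowers_le.2 (he ▸ d1 q m)) (zpowers_le.2 (d1 v n))
  rcases mem_sup_sq (mem_cz'.2 fun a ha => h.cm a (k2 ha) q m) (h.sq q m ▸ one_mem _) (h.top (zpowers_ne_bot.2 e1) (lt_sup c)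
    (lt_sup fun f => k (fix_of (k1 f))) (sup_le k2 (zpowers_le.2 m)) n) with f | f
  · exact .inl (fix_of (k1 f))
  · right
    calc _ = t * q * t⁻¹ * (t * (q⁻¹ * v) * t⁻¹) := by group
      _ = _ := by rw [fix_of (k1 f), d3 q m, he, mul_assoc, h.cm e (he ▸ d1 q m) _ (k2 f), ← mul_assoc, mul_inv_cancel_left]

namespace Tv

theorem conj (k : Tv V t e) (hg : g ∈ nz V) : Tv V (g * t * g⁻¹) (g * e * g⁻¹) := by
  have c : ∀ v, g * t * g⁻¹ * (g * v * g⁻¹) * (g * t * g⁻¹)⁻¹ = g * (t * v * t⁻¹) * g⁻¹ := fun v => by group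
  refine ⟨mul_mem (mul_mem hg k.tn) (inv_mem hg), conj_mem_of_mem_nz hg k.eV, by simpa using k.e1, by rw [c, k.fix],
    fun v m => ?_, ?_⟩
  · have := k.mv _ (conj_mem_of_mem_nz' hg m)
    rw [show v = g * (g⁻¹ * v * g) * g⁻¹ by group, c]
    exact this.imp (fun f => by rw [f]) fun f => by rw [f, conj_mul]
  · obtain ⟨v, m, f⟩ := k.ex
    exact ⟨_, conj_mem_of_mem_nz hg m, by rw [c, f, conj_mul]⟩

theorem two (k : Tv V t e) (h : EA V) (hu : u ∈ V) (hv : v ∈ V) (h1 : t * u * t⁻¹ ≠ u) (h2 : t * v * t⁻¹ ≠ v) :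
    t * (u * v) * t⁻¹ = u * v := by
  rw [← conj_mul, (k.mv u hu).resolve_left h1, (k.mv v hv).resolve_left h2, h.cm v hv e k.eV, mul_assoc,
    ← mul_assoc e, h.sq e k.eV, one_mul]

theorem st (k : Tv V t e) (h1 : e ∈ L) (h2 : L ≤ K) (h3 : K ≤ V) : t ∈ stab K L := by
  have : ∀ v ∈ K, v⁻¹ * (t * v * t⁻¹) ∈ L := fun v m => by rcases k.mv v (h3 m) with f | f <;> simp [f, h1]
  exact ⟨mem_nz_of_conj_mem fun v m => (mul_mem_cancel_left (inv_mem m)).1 (h2 (this v m)), this⟩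

theorem four (k : Tv V t e) (k' : Tv V s d) (h : EA V) (hd : t * d * t⁻¹ = d) (hg : g ∈ zpowers t ⊔ zpowers s) :
    g ^ 2 ^ 2 ∈ cz V := by
  have l1 : zpowers d ≤ V := zpowers_le.2 k'.eV
  have l2 : zpowers d ⊔ zpowers e ≤ V := sup_le l1 (zpowers_le.2 k.eV)
  have t1 : t ∈ cz (zpowers d ⊔ zpowers e) := cz_sup (zpowers d) _ ▸ ⟨mem_cz_zpowers.2 hd, mem_cz_zpowers.2 k.fix⟩
  have := (sup_le (zpowers_le.2 ⟨⟨k.st (mem_sup_right (mem_zpowers e)) l2 le_rfl, cz_le_stab _ _ t1⟩,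
      mem_cz_zpowers.2 hd⟩) (zpowers_le.2 ⟨⟨k'.st (mem_sup_left (mem_zpowers d)) l2 le_rfl,
      k'.st (mem_zpowers d) le_sup_left l2⟩, mem_cz_zpowers.2 k'.fix⟩) :
    _ ≤ stab V (zpowers d ⊔ zpowers e) ⊓ stab (zpowers d ⊔ zpowers e) (zpowers d) ⊓ cz (zpowers d)) hg
  rw [← stab_bot, show g ^ 2 ^ 2 = g * g * (g * g) by simp [pow_succ, mul_assoc]]
  exact stab_sq (stab_sq this.1.1 this.1.2 fun l m => h.sq l (l2 m) ▸ one_mem _)
    (cz_le_stab _ _ (mul_mem this.2 this.2)) fun l m => h.sq l (l1 m) ▸ one_mem _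

theorem s3 (k : Tv V t e) (k' : Tv V s d) (h : EA V) (h0 : ¬ V ≤ zpowers e ⊔ zpowers d) (hd : t * d * t⁻¹ ≠ d)
    (he : s * e * s⁻¹ ≠ e) : t * s * e * (t * s)⁻¹ = d ∧ t * s * d * (t * s)⁻¹ = d * e ∧ (t * s) ^ 3 ∈ cz V ∧
      ∃ f ∈ V, t * f * t⁻¹ = f ∧ s * f * s⁻¹ = f ∧ V ≤ zpowers e ⊔ zpowers d ⊔ zpowers f := by
  have d1 := (k.mv d k'.eV).resolve_left hd
  have e1 := (k'.mv e k.eV).resolve_left he
  have c : ∀ v, t * s * v * (t * s)⁻¹ = t * (s * v * s⁻¹) * t⁻¹ := fun v => by group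
  have r1 : t * s * e * (t * s)⁻¹ = d := by
    rw [c, e1, ← conj_mul, k.fix, d1, h.cm d k'.eV e k.eV, ← mul_assoc, h.sq e k.eV, one_mul]
  have r2 : t * s * d * (t * s)⁻¹ = d * e := by rw [c, k'.fix, d1]
  have m1 : e ∈ zpowers e ⊔ zpowers d := mem_sup_left (mem_zpowers e)
  have m2 : d ∈ zpowers e ⊔ zpowers d := mem_sup_right (mem_zpowers d)
  obtain ⟨q, q1, q2⟩ := SetLike.not_le_iff_exists.1 h0
  obtain ⟨q, q1, q2, q3⟩ : ∃ q ∈ V, q ∉ zpowers e ⊔ zpowers d ∧ t * q * t⁻¹ = q := by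
    by_cases c : t * q * t⁻¹ = q
    exacts [⟨q, q1, q2, c⟩, ⟨_, mul_mem q1 k'.eV, by rwa [mul_mem_cancel_right m2], k.two h q1 k'.eV c hd⟩]
  obtain ⟨f, f1, f2, f3, f4⟩ : ∃ q ∈ V, q ∉ zpowers e ⊔ zpowers d ∧ t * q * t⁻¹ = q ∧ s * q * s⁻¹ = q := by
    by_cases c : s * q * s⁻¹ = q
    exacts [⟨q, q1, q2, q3, c⟩, ⟨_, mul_mem q1 k.eV, by rwa [mul_mem_cancel_right m1], by rw [← conj_mul, q3, k.fix],
      k'.two h q1 k.eV c he⟩]
  have top := h.top (zpowers_ne_bot.2 k.e1) (lt_sup fun m => hd (fix_of (fix_le k.fix m))) (lt_sup f2)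
    (sup_le (sup_le (zpowers_le.2 k.eV) (zpowers_le.2 k'.eV)) (zpowers_le.2 f1))
  refine ⟨r1, r2, cz_anti top ?_, f, f1, f3, f4, top⟩
  have r3 : t * s * f * (t * s)⁻¹ = f := by rw [c, f4, f3]
  have r4 : t * s * (d * e) * (t * s)⁻¹ = e := by
    rw [← conj_mul, r1, r2, h.cm d k'.eV e k.eV, mul_assoc, h.sq d k'.eV, mul_one]
  generalize t * s = r at *
  have c : ∀ v, r ^ 3 * v * (r ^ 3)⁻¹ = r * (r * (r * v * r⁻¹) * r⁻¹) * r⁻¹ := fun v => by simp [pow_succ, mul_assoc]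
  rw [cz_sup, cz_sup]
  exact ⟨⟨mem_cz_zpowers.2 (by rw [c, r1, r2, r4]), mem_cz_zpowers.2 (by rw [c, r2, r4, r1])⟩,
    mem_cz_zpowers.2 (by rw [c, r3, r3, r3])⟩

end Tv

theorem cmc (h : Cm V) (ha : a ∈ V) (hb : b ∈ V) : a * b * a⁻¹ = b := by
  rw [h a ha b hb, mul_inv_cancel_right]

theorem QP.sq_mem (q : QP D x w) (hg : g ∈ Qg D x w) : g * g ∈ D := by
  have k : ∀ c ∈ cz D, c * c ∈ D → c⁻¹ * g ∈ D → g * g ∈ D := fun c h k e => by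
    rw [show g * g = c * c * (c⁻¹ * (c⁻¹ * g) * c) * (c⁻¹ * g) by group]
    exact mul_mem (mul_mem k (conj_mem_of_mem_nz' (cz_le_nz D h) e)) e
  rcases q.nf hg with e | e | e | e
  exacts [mul_mem e e, k x q.cx (q.sq ▸ q.mem) e, k w q.cw q.mem e, k _ (mul_mem q.cx q.cw) (q.sq' ▸ q.mem) e]

theorem cube_one (hQ : IsPGroup 2 Q) (h : x ∈ Q) (e : x * x * x = 1) : x = 1 := by
  have := odd_gen' hQ h (m := 3) (by decide)
  rwa [show x ^ (3 : ℤ) = x * x * x by rw [zpow_ofNat, pow_three'], e, zpowers_one_eq_bot, mem_bot] at this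

theorem qp_of_rho (hQ : IsPGroup 2 Q) (h1 : r ∈ nz Q) (h2 : r ∈ cz (fr Q)) (h3 : r ^ 3 ∈ cz Q) (he : e ∈ Q) (hf : f ∈ Q)
    (h4 : f⁻¹ * (r * f * r⁻¹) ∈ fr Q) (hy : y = e⁻¹ * (r * e * r⁻¹)) (hw : w = r * y * r⁻¹) :
    y * w * y⁻¹ = w⁻¹ ∧ y * y = w * w ∧ Commute f y ∧ Commute f w := by
  have r3 : ∀ q ∈ Q, r * (r * (r * q * r⁻¹) * r⁻¹) * r⁻¹ = q := fun q m => by
    simpa [pow_succ, mul_assoc] using mem_cz.1 h3 q m
  have c := fun q => mem_cz.1 h2 q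
  have yQ : y ∈ Q := hy ▸ mul_mem (inv_mem he) (conj_mem_of_mem_nz h1 he)
  have wQ : w ∈ Q := hw ▸ conj_mem_of_mem_nz h1 yQ
  have cm : ∀ a ∈ Q, ∀ b ∈ Q, a⁻¹ * (b * a * b⁻¹) ∈ fr Q := fun a h b k => by
    simpa [commutatorElement_def, mul_assoc] using commutator_le_fr hQ (commutator_mem_commutator (inv_mem h) k)
  have p1 : r * w * r⁻¹ = (y * w)⁻¹ := by
    rw [eq_comm, inv_eq_iff_mul_eq_one, hw, hy]
    calc _ = e⁻¹ * (r * (r * (r * e * r⁻¹) * r⁻¹) * r⁻¹) := by group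
      _ = 1 := by rw [r3 e he, inv_mul_cancel]
  have yc : y ∈ cz (fr Q) := mem_cz.2 fun p m => by
    have := c _ (conj_mem_of_mem_nz (nz_le_nz_fr Q (le_nz_self Q he)) m)
    rw [hy]
    calc _ = e⁻¹ * (r * (e * (r⁻¹ * p * r) * e⁻¹) * r⁻¹) * e := by group
      _ = p := by rw [show r⁻¹ * p * r = p by simpa using mem_cz.1 (inv_mem h2) p m, this]; group
  have wc : w ∈ cz (fr Q) := hw ▸ conj_mem_of_mem_nz (mem_nz_cz (nz_le_nz_fr Q h1)) yc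
  have s1 : y * y = w * w := by rw [hw, conj_mul, c _ (sq_fr hQ yQ)]
  have s2 : (y * w)⁻¹ * (y * w)⁻¹ = w * w := by rw [← p1, conj_mul, c _ (sq_fr hQ wQ)]
  have cj : ∀ a b, r * (a * b) * r⁻¹ = r * a * r⁻¹ * (r * b * r⁻¹) := fun _ _ => conj_mul.symm
  have f1 : r * f * r⁻¹ = f := by
    generalize e1 : f⁻¹ * (r * f * r⁻¹) = p at h4
    rw [inv_mul_eq_iff_eq_mul] at e1
    have := r3 f hf
    simp only [e1, cj, c p h4] at this
    rw [mul_assoc, mul_assoc, mul_eq_left, ← mul_assoc] at this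
    rw [e1, cube_one hQ (fr_le Q h4) this, mul_one]
  have k : ∀ a p, p ∈ fr Q → f * a * f⁻¹ = a * p → f * (r * a * r⁻¹) * f⁻¹ = r * a * r⁻¹ * p := fun a p h4 h => by
    calc _ = r * f * r⁻¹ * (r * a * r⁻¹) * (r * f * r⁻¹)⁻¹ := by rw [f1]
      _ = r * (f * a * f⁻¹) * r⁻¹ := by group
      _ = _ := by rw [h, cj, c p h4]
  have f2 : f * y * f⁻¹ = y := by
    have h4 := cm y yQ f hf
    generalize e1 : y⁻¹ * (f * y * f⁻¹) = p at h4
    rw [inv_mul_eq_iff_eq_mul] at e1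
    have e2 := k y p h4 e1
    rw [← hw] at e2
    have e3 := k w p h4 e2
    rw [p1] at e3
    rw [e1, cube_one hQ (fr_le Q h4) (x := p) ?_, mul_one]
    calc _ = (y * w)⁻¹ * (y * (w * p * w⁻¹) * w * p) * ((y * w)⁻¹ * p * (y * w)⁻¹⁻¹) := by
          rw [mem_cz.1 (inv_mem (mul_mem yc wc)) p h4]; group
      _ = (y * w)⁻¹ * (y * p * (w * p) * ((y * w)⁻¹ * p)) * (y * w) := by rw [mem_cz.1 wc p h4]; group
      _ = 1 := by rw [← e1, ← e2, ← e3]; group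
  refine ⟨?_, s1, (mul_inv_eq_iff_eq_mul.1 f2), mul_inv_eq_iff_eq_mul.1 ?_⟩
  · have h4 := cm w wQ y yQ
    generalize e1 : w⁻¹ * (y * w * y⁻¹) = p at h4
    rw [inv_mul_eq_iff_eq_mul] at e1
    have sW := sq_fr hQ wQ
    have p2 : p * p = 1 := by
      calc _ = w⁻¹ * (w * p) * (y * p * y⁻¹) := by rw [mem_cz.1 yc p h4]; group
        _ = w⁻¹ * (y * (w * p) * y⁻¹) := by nth_rw 1 [← e1]; group
        _ = w⁻¹ * (y * y) * w * (y * y)⁻¹ := by rw [← e1]; group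
        _ = 1 := by rw [s1]; group
    have p3 : p * (w * w * (w * w) * (w * w)) = 1 := by
      calc _ = w * p * w⁻¹ * (w * (w * w) * w) * ((y * w)⁻¹ * (y * w)⁻¹) := by rw [mem_cz.1 wc p h4, s2]; group
        _ = w * p * (y * y) * w * ((y * w)⁻¹ * (y * w)⁻¹) := by rw [s1]; group
        _ = 1 := by rw [← e1]; group
    rw [← inv_eq_iff_mul_eq_one] at p3
    have p4 : w * w * (w * w) = 1 := cube_one hQ (fr_le Q (mul_mem sW sW)) (by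
      calc _ = w * w * (w * w) * (w * w) * (w * w * (w * w) * (w * w)) := by group
        _ = 1 := by rw [← p3, ← mul_inv_rev, p2, inv_one])
    rw [p4, one_mul, inv_eq_iff_eq_inv] at p3
    rw [e1, p3]; group
  · rw [hw, k y 1 (one_mem _) (by rw [f2, mul_one]), mul_one]

/-- an essential subgroup of rank at most three, with the quotient map modulo its Frattini subgroup -/
structure E3 (F : FS Γ) (Q : Subgroup Γ) {G : Type u} [Group G] (π : nz Q →* G) : Prop where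
  sat : F.Sat 2
  ess : F.Ess Q
  card : Nat.card Q ≤ 8 * Nat.card (fr Q)
  ker : ∀ x ∈ nz Q, ex π x = 1 ↔ x ∈ fr Q

namespace E3
variable {G : Type u} [Group G] [Finite G] {π : nz Q →* G} (k : E3 F Q π)
include k

theorem pg : IsPGroup 2 Q := k.sat.pg' k.ess.le

theorem eqv (hx : x ∈ nz Q) (hy : y ∈ nz Q) : ex π x = ex π y ↔ x⁻¹ * y ∈ fr Q := by
  rw [← k.ker _ (mul_mem (inv_mem hx) hy), ex_mul _ (inv_mem hx) hy, ex_inv _ hx, inv_mul_eq_one]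

theorem memK (h1 : fr Q ≤ K) (h2 : K ≤ Q) (hx : x ∈ nz Q) (h : ex π x ∈ im π K) : x ∈ K := by
  obtain ⟨y, m, e⟩ := (mem_im' (h2.trans (le_nz_self Q))).1 h
  exact (mul_mem_cancel_left (inv_mem m)).1 (h1 ((k.eqv (le_nz_self Q (h2 m)) hx).1 e))

theorem ea : EA (im π Q) := by
  refine ⟨fun v m => ?_, ?_⟩
  · obtain ⟨q, n, rfl⟩ := (mem_im' (le_nz_self Q)).1 m
    rw [← ex_mul _ (le_nz_self Q n) (le_nz_self Q n), k.ker _ (le_nz_self Q (mul_mem n n))]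
    exact sq_fr k.pg n
  · have := card_inf_pre (θ := π) (K := Q) le_rfl
    rw [inf_eq_left.2 (le_pre_im π (le_nz_self Q)), show Q ⊓ pre π ⊥ = fr Q from le_antisymm
      (fun x m => (k.ker x (le_nz_self Q m.1)).1 (mem_pre_bot.1 m.2).2) (le_inf (fr_le Q) fun x m =>
        mem_pre_bot.2 ⟨le_nz_self Q (fr_le Q m), (k.ker x (le_nz_self Q (fr_le Q m))).2 m⟩)] at this
    have := k.card
    have := Nat.card_pos (α := fr Q)
    nlinarith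

theorem czV (hg : g ∈ nz Q) : ex π g ∈ cz (im π Q) ↔ g ∈ stab Q (fr Q) := by
  have e : ∀ q ∈ Q, ex π g * ex π q * (ex π g)⁻¹ = ex π q ↔ q⁻¹ * (g * q * g⁻¹) ∈ fr Q := fun q m => by
    rw [← ex_conj _ hg (le_nz_self Q m), eq_comm, k.eqv (le_nz_self Q m) (le_nz_self Q (conj_mem_of_mem_nz hg m))]
  refine ⟨fun h => ⟨hg, fun q m => (e q m).1 (mem_cz.1 h _ (ex_mem_im π (le_nz_self Q) m))⟩, fun h => mem_cz.2 fun v m => ?_⟩
  obtain ⟨q, n, rfl⟩ := (mem_im' (le_nz_self Q)).1 m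
  exact (e q n).2 (h.2 q n)

theorem tv (ht : t ∈ F.N Q) (h : t ∉ Q) (h2 : t * t ∈ Q) : ∃ e ∈ Q, Tv (im π Q) (ex π t) (ex π e) := by
  have c := k.sat.cr_of_ess (.inr k.ess)
  obtain ⟨e, r⟩ := k.ea.exists_tv (ex_mem_nz π ht.2 (le_nz_self Q) ht.2) (by
    rw [← ex_mul _ ht.2 ht.2]; exact mem_cz'.2 fun v m => k.ea.cm v m _ (ex_mem_im π (le_nz_self Q) h2))
    fun e => h (H4.mem_of_K c.2.1 c.2.2 (fun g m => mem_nz_stab m.1 (mem_nz_inf m.1 (nz_le_nz_fr Q m.1)))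
      (fun a _ m o => cz_of_stab_fr k.pg o m) ht ((k.czV ht.2).1 e))
  obtain ⟨e, m, rfl⟩ := (mem_im' (le_nz_self Q)).1 r.eV
  exact ⟨e, m, r⟩

theorem tvc (r : Tv (im π Q) (ex π t) (ex π e)) (ht : t ∈ nz Q) (he : e ∈ Q) (hg : g ∈ nz Q) :
    Tv (im π Q) (ex π (g * t * g⁻¹)) (ex π (g * e * g⁻¹)) := by
  rw [ex_conj _ hg ht, ex_conj _ hg (le_nz_self Q he)]
  exact r.conj (ex_mem_nz π hg (le_nz_self Q) hg)

theorem sep (r : Tv (im π Q) (ex π t) (ex π e)) (ht : t ∈ F.N Q) (he : e ∈ Q) (ha : a ∈ F.A Q) (hb : b ∈ F.A Q)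
    (h : ex π (a * t * a⁻¹) * ex π (b * e * b⁻¹) * (ex π (a * t * a⁻¹))⁻¹ = ex π (b * e * b⁻¹)) :
    ∃ h ∈ F.A Q, h * a * t * (h * a)⁻¹ ∈ ai F.S Q ∧ h * b * t * (h * b)⁻¹ ∈ ai F.S Q := by
  have m : ∀ a ∈ F.A Q, a * t * a⁻¹ ∈ F.A Q := fun a h => mul_mem (mul_mem h (F.N_le_A Q ht)) (inv_mem h)
  have l := sup_le (zpowers_le.2 (m a ha)) (zpowers_le.2 (m b hb))
  obtain ⟨h, h1, h2⟩ := (k.sat.syl k.ess.fn).exists_cj_le_of_pel (cz_le_ai _ _) (F.A_le_nz_cz Q) (fun g n => by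
    have gn := (l n).1
    have := (k.tvc r ht.2 he ha.1).four (k.tvc r ht.2 he hb.1) k.ea h (g := ex π g) (by
      rw [← im_zpowers π (m a ha).1, ← im_zpowers π (m b hb).1, ← im_sup π (zpowers_le.2 (m a ha).1)
        (zpowers_le.2 (m b hb).1)]
      exact ex_mem_im' π gn n)
    rw [← ex_pow π gn, k.czV (pow_mem gn _)] at this
    obtain ⟨j, o⟩ := exists_coprime_pow (p := 2) (g ^ 2 ^ 2)
    exact PEl.of_pow ⟨j, cz_of_stab_fr k.pg o (pow_mem this _)⟩) l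
  exact ⟨h, h1, by simpa [mul_assoc] using h2 (conj_mem_cj h (mem_sup_left (mem_zpowers _))),
    by simpa [mul_assoc] using h2 (conj_mem_cj h (mem_sup_right (mem_zpowers _)))⟩

theorem hx (hh : h ∈ F.A Q) (ht : t ∈ F.N Q) (h0 : t ∉ Q) (e : h * t * h⁻¹ ∈ ai F.S Q) : h ∈ F.Hx Q :=
  k.sat.mem_Hx_of_ai k.ess.fn hh (inf_nz_le_ai _ _ ht) (fun m => h0 (k.ess.centric.mem_of_mem_ai ht.1 m)) e

theorem hx2 (hb : b ∈ F.A Q) (hr : r ∈ F.N Q) (h0 : r ∉ Q) (e : b⁻¹ * r * b ∈ F.Hx Q) : b ∈ F.Hx Q := by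
  obtain ⟨h, h1, h2⟩ := ((k.sat.syl k.ess.fn).mono_right (ai_le_Hx k.ess.lt) (F.Hx_le_A Q)).exists_cj_le_of_pel
    (cz_le_ai _ _) ((F.Hx_le_A Q).trans (F.A_le_nz_cz Q)) (PEl.zpowers (by
      simpa [mem_nz.1 (inv_mem (F.A_le_nz_cz Q hb))] using (PEl.of_isPGroup k.sat.pg hr.1 (C := cz Q)).conj b⁻¹))
    (zpowers_le.2 e)
  simpa using (mul_mem_cancel_left h1).1 (k.hx (mul_mem (F.Hx_le_A Q h1) (inv_mem hb)) hr h0
    (by simpa [mul_assoc] using h2 (conj_mem_cj h (mem_zpowers _))))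

theorem l2 (ht : t ∈ F.N Q) (hr : r ∈ F.N Q) (h1 : t ∉ Q) (h2 : r ∉ Q) : t⁻¹ * r ∈ Q := by
  obtain ⟨c, c1, c2, c3, c4⟩ : ∃ c ∈ F.N Q, c ∉ Q ∧ c * c ∈ Q ∧ ∀ r ∈ F.N Q, r⁻¹ * c * r * c⁻¹ ∈ Q := by
    have : (Q.subgroupOf (F.N Q)).Normal := ⟨fun _ h g => conj_mem_of_mem_nz (P := Q) g.2.2 h⟩
    obtain ⟨c, -, c1, c2⟩ := H4.exists_mem_center_orderOf_eq ((k.sat.pg' inf_le_left).to_quotient (Q.subgroupOf (F.N Q)))
      (N := ⊤) fun e => h1 ((QuotientGroup.eq_one_iff (⟨t, ht⟩ : F.N Q)).1 (e.le (mem_top _)))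
    obtain ⟨c, rfl⟩ := QuotientGroup.mk_surjective c
    have o := fun g => QuotientGroup.eq_one_iff (N := Q.subgroupOf (F.N Q)) g
    refine ⟨c, c.2, fun e => by simp [(o c).2 e] at c2, (o (c * c)).1
      (by rw [QuotientGroup.mk_mul, ← pow_two, ← c2, pow_orderOf_eq_one]), fun r m =>
      (o ((⟨r, m⟩ : F.N Q)⁻¹ * c * ⟨r, m⟩ * c⁻¹)).1 ?_⟩
    simp [mul_assoc, ← mem_center_iff.1 c1]
  suffices ∀ r ∈ F.N Q, r ∉ Q → c * r ∈ Q by simpa using mul_mem (inv_mem (this t ht h1)) (this r hr h2)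
  intro r hr h2
  by_contra h3
  obtain ⟨e, he, v⟩ := k.tv c1 c2 c3
  obtain ⟨b, b1, b2⟩ := SetLike.not_le_iff_exists.1 k.ess.not_le
  have sp : ∀ a ∈ F.A Q, ∀ b ∈ F.A Q, ex π (a * c * a⁻¹) * ex π (b * e * b⁻¹) * (ex π (a * c * a⁻¹))⁻¹ =
      ex π (b * e * b⁻¹) → a⁻¹ * b ∈ F.Hx Q := fun a ha b hb h => by
    obtain ⟨h, m, n1, n2⟩ := k.sep v c1 he ha hb h
    simpa using mul_mem (inv_mem (k.hx (mul_mem m ha) c1 c2 n1)) (k.hx (mul_mem m hb) c1 c2 n2)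
  have n1 := mt (sp 1 (one_mem _) b b1) (by simpa using b2)
  have n2 := mt (sp b b1 1 (one_mem _)) (by simpa using b2)
  have n3 := fun r (hr : r ∈ F.N Q) h2 => mt (sp b b1 _ (mul_mem (F.N_le_A Q hr) b1)) fun h => b2 (k.hx2 b1 hr h2
    (by rwa [mul_assoc]))
  have en := le_nz_self Q he
  have dQ := conj_mem_of_mem_nz b1.1 he
  have n4 := n3 r hr h2
  have n5 := n3 _ (mul_mem c1 hr) h3
  simp only [one_mul, inv_one, mul_one] at n1 n2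
  rw [show r * b * e * (r * b)⁻¹ = r * (b * e * b⁻¹) * r⁻¹ by group] at n4
  rw [show c * r * b * e * (c * r * b)⁻¹ = c * (r * (b * e * b⁻¹) * r⁻¹) * c⁻¹ by group,
    ex_conj _ c1.2 (le_nz_self Q (conj_mem_of_mem_nz hr.2 dQ))] at n5
  have m := ex_mem_im π (le_nz_self Q) (conj_mem_of_mem_nz hr.2 dQ)
  rcases v.mv _ m with f | f
  · refine n1 ?_
    have q := c4 r hr
    rw [← cmc k.ea.cm (ex_mem_im π (le_nz_self Q) q) (conj_mem_of_mem_nz v.tn (ex_mem_im π (le_nz_self Q) dQ))]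
    rw [ex_conj _ hr.2 (le_nz_self Q dQ)] at f
    rw [ex_mul _ (mul_mem (mul_mem (inv_mem hr.2) c1.2) hr.2) (inv_mem c1.2), ex_mul _ (mul_mem (inv_mem hr.2) c1.2) hr.2,
      ex_mul _ (inv_mem hr.2) c1.2, ex_inv _ hr.2, ex_inv _ c1.2]
    calc _ = (ex π r)⁻¹ * (ex π c * (ex π r * ex π (b * e * b⁻¹) * (ex π r)⁻¹) * (ex π c)⁻¹) * ex π r := by group
      _ = _ := by rw [f]; group
  · exact n5 (f ▸ (k.tvc v c1.2 he b1.1).two k.ea m v.eV n4 n2)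

end E3

theorem cm_two (h : ∀ a ∈ Q, ∀ b ∈ Q, a ∉ K → b ∉ K → a * b ∈ K) (h1 : g ∈ nz Q) (h2 : g ∈ nz K) : g ∈ stab Q K :=
  ⟨h1, fun q m => by
    by_cases c : q ∈ K
    · exact mul_mem (inv_mem c) (conj_mem_of_mem_nz h2 c)
    · exact h _ (inv_mem m) _ (conj_mem_of_mem_nz h1 m) (by rwa [inv_mem_iff]) fun e => c (by
        simpa [mul_assoc] using conj_mem_of_mem_nz' h2 e)⟩

namespace E3
variable {G : Type u} [Group G] [Finite G] {π : nz Q →* G} (k : E3 F Q π)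
include k

theorem sep' (v : Tv (im π Q) (ex π t) (ex π e)) (ht : t ∈ F.N Q) (h0 : t ∉ Q) (he : e ∈ Q) (hb : b ∈ F.A Q)
    (h : b * t * b⁻¹ ∉ ai F.S Q) : ex π t * ex π (b * e * b⁻¹) * (ex π t)⁻¹ ≠ ex π (b * e * b⁻¹) ∧
      ex π (b * t * b⁻¹) * ex π e * (ex π (b * t * b⁻¹))⁻¹ ≠ ex π e := by
  have n := nz_le_nz_ai_self Q
  have t0 : t ∉ ai Q Q := fun m => h0 (k.ess.centric.mem_of_mem_ai ht.1 m)
  have key : ∀ g ∈ F.A Q, g * t * g⁻¹ ∈ ai F.S Q → g * b * t * (g * b)⁻¹ ∉ ai F.S Q := fun g m e1 e2 => by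
    have j : ∀ g ∈ F.A Q, g * t * g⁻¹ ∈ ai F.S Q → ∃ s ∈ F.N Q, s ∉ Q ∧ Agree Q (g * t * g⁻¹) s := fun g m e => by
      obtain ⟨s, s1, s2⟩ := mem_ai'.1 e
      exact ⟨s, s1, fun f => t0 (by simpa [mul_assoc] using conj_mem_of_mem_nz' (n m.1) (s2.mem_ai (le_ai_self Q f))), s2⟩
    obtain ⟨s, s1, s2, s3⟩ := j g m e1
    obtain ⟨r, r1, r2, r3⟩ := j _ (mul_mem m hb) e2
    have l := ai_mono k.ess.le Q
    have := conj_mem_of_mem_nz' (n m.1) ((r3.mul (h := (g * t * g⁻¹)⁻¹) (h' := s⁻¹) (by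
      have := s3.inv
      rwa [mem_nz.1 e1.1, ← mem_nz.1 e2.1] at this)).mem_ai (le_ai_self Q (k.l2 s1 r1 s2 r2)))
    exact h (by simpa [mul_assoc] using mul_mem (inf_nz_le_ai _ _ ht) (l this))
  refine ⟨fun f => ?_, fun f => ?_⟩
  · obtain ⟨g, m, e1, e2⟩ := k.sep v ht he (one_mem _) hb (by simpa using f)
    exact key g m (by simpa using e1) e2
  · obtain ⟨g, m, e1, e2⟩ := k.sep v ht he hb (one_mem _) (by simpa using f)
    exact key g m (by simpa using e2) e1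

theorem struct (ht : t ∈ F.N Q) (h0 : t ∉ Q) (h1 : t * t ∈ Q) (h2 : t ∈ stab (fr Q) (fr (fr Q))) (k1 : fr Q ≤ K)
    (k2 : K ≤ Q) (k3 : ∀ a ∈ Q, ∀ b ∈ Q, a ∉ K → b ∉ K → a * b ∈ K) (k4 : F.N Q ≤ nz K) (ha : a ∈ F.A Q) (a1 : a ∉ nz K)
    (g2 : ∀ a ∈ Q, ∀ b ∈ Q, ¬ Q ≤ fr Q ⊔ (zpowers a ⊔ zpowers b)) :
    ∃ D b w, QP D b w ∧ Qg D b w = Q ∧ b ∉ K ∧ w⁻¹ * (b⁻¹ * (t * b * t⁻¹)) ∈ D := by
  obtain ⟨e, he, v⟩ := k.tv ht h0 h1
  have N := le_nz_self Q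
  have ea := k.ea
  have cen : ∀ s ∈ nz Q, s ∈ nz K → ∀ d ∈ Q, Tv (im π Q) (ex π s) (ex π d) → d ∈ K := fun s m n d h r => by
    obtain ⟨_, i, f⟩ := r.ex
    obtain ⟨q, j, rfl⟩ := (mem_im' N).1 i
    rw [← ex_conj _ m (N j), ← inv_mul_eq_iff_eq_mul, ← ex_inv _ (N j), ← ex_mul _ (inv_mem (N j))
      (N (conj_mem_of_mem_nz m j))] at f
    exact k.memK k1 k2 (N h) (f ▸ ex_mem_im π (k2.trans N) ((cm_two k3 m n).2 q j))
  have eK := cen t ht.2 (k4 ht) e he v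
  have mK : ∀ q ∈ K, ex π q ∈ im π K := fun q => ex_mem_im π (k2.trans N)
  obtain ⟨β, b1, b2⟩ : ∃ β ∈ F.A Q, β * e * β⁻¹ ∉ K := by
    by_contra! all
    obtain ⟨b, b1, b2⟩ := SetLike.not_le_iff_exists.1 k.ess.not_le
    have n := (k.sep' v ht h0 he b1 fun f => b2 (k.hx b1 ht h0 f)).1
    refine a1 (mem_nz_of_conj_mem fun q m => k.memK k1 k2 (N (conj_mem_of_mem_nz ha.1 (k2 m))) ?_)
    have l := sup_le (zpowers_le.2 (mK e eK)) (zpowers_le.2 (mK _ (all b b1)))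
    have : ex π q ∈ zpowers (ex π e) ⊔ zpowers (ex π (b * e * b⁻¹)) := by_contra fun c => a1 (by
      have l := sup_le l (zpowers_le.2 (mK q m))
      rw [le_antisymm k2 fun x j => k.memK k1 k2 (N j) (l (ea.top (zpowers_ne_bot.2 v.e1)
        (lt_sup fun f => n (fix_of (fix_le v.fix f))) (lt_sup c) (l.trans (im_mono π k2)) (ex_mem_im π N j)))]
      exact ha.1)
    have := conj_mem_cj (ex π a) this
    rw [cj_sup, cj_zpowers, cj_zpowers, ← ex_conj _ ha.1 (N (k2 m)), ← ex_conj _ ha.1 (N he),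
      ← ex_conj _ ha.1 (N (k2 (all b b1)))] at this
    exact sup_le (zpowers_le.2 (mK _ (all a ha))) (zpowers_le.2 (mK _ (by
      simpa [mul_assoc] using all _ (mul_mem ha b1)))) this
  have dQ := conj_mem_of_mem_nz b1.1 he
  have v' := k.tvc v ht.2 he b1.1
  have sA : β * t * β⁻¹ ∈ F.A Q := mul_mem (mul_mem b1 (F.N_le_A Q ht)) (inv_mem b1)
  obtain ⟨n1, n2⟩ := k.sep' v ht h0 he b1 fun f => b2 (cen _ sA.1 (ai_le k4 ((cz_anti k2).trans (cz_le_nz K)) f) _ dQ v')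
  have h3 : β * t * β⁻¹ ∈ stab (fr Q) (fr (fr Q)) := conj_mem_of_mem_nz (mem_nz_stab (nz_le_nz_fr Q b1.1)
    (mem_nz_inf (nz_le_nz_fr Q b1.1) (nz_le_nz_fr _ (nz_le_nz_fr Q b1.1)))) h2
  generalize β * e * β⁻¹ = d at *
  generalize β * t * β⁻¹ = s at *
  have mem2 : ∀ L, fr Q ≤ L → L ≤ Q → im π Q ≤ im π L → Q ≤ L := fun L l1 l2 l3 q m =>
    k.memK l1 l2 (N m) (l3 (ex_mem_im π N m))
  obtain ⟨r1, r2, r3, _, f1, f2, f3, f4⟩ := v.s3 v' ea (fun h => by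
    have l := sup_le (fr_le Q) (sup_le (zpowers_le.2 he) (zpowers_le.2 dQ))
    exact g2 e he d dQ (mem2 _ le_sup_left l (h.trans (sup_le
      (zpowers_le.2 (ex_mem_im π (l.trans N) (mem_sup_right (mem_sup_left (mem_zpowers e)))))
      (zpowers_le.2 (ex_mem_im π (l.trans N) (mem_sup_right (mem_sup_right (mem_zpowers d))))))))) n1 n2
  obtain ⟨f, fQ, rfl⟩ := (mem_im' N).1 f1
  have tsn := mul_mem ht.2 sA.1
  obtain ⟨n, o⟩ := exists_coprime_pow (p := 2) (t * s)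
  replace o := o.coprime_dvd_left (orderOf_pow_dvd (2 ^ n))
  obtain ⟨m, hm⟩ : ∃ m, 2 ^ n * 2 ^ n = 1 + 3 * m := ⟨2 ^ n * 2 ^ n / 3, by
    have : 2 ^ n * 2 ^ n % 3 = 1 := by rw [← mul_pow]; simp [Nat.pow_mod]
    omega⟩
  rw [← pow_mul, hm] at o
  have ρn := pow_mem tsn (1 + 3 * m)
  have ρ1 := cz_of_stab_fr (k.pg.to_le (fr_le Q)) o (pow_mem (mul_mem h2 h3) _)
  have ρ2 : ∀ x ∈ im π Q, ex π ((t * s) ^ (1 + 3 * m)) * x * (ex π ((t * s) ^ (1 + 3 * m)))⁻¹ =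
      ex π t * ex π s * x * (ex π t * ex π s)⁻¹ := fun x j => by
    rw [ex_pow _ tsn, ex_mul _ ht.2 sA.1, pow_add, pow_one, pow_mul]
    nth_rw 2 [← mem_cz.1 (pow_mem r3 m) x j]
    simp only [mul_assoc, mul_inv_rev]
  have ρ3 : ((t * s) ^ (1 + 3 * m)) ^ 3 ∈ cz Q := cz_of_stab_fr k.pg (o.coprime_dvd_left (orderOf_pow_dvd 3))
    ((k.czV (pow_mem ρn 3)).1 (by
      rw [pow_right_comm, ex_pow _ (pow_mem tsn 3), ex_pow _ tsn, ex_mul _ ht.2 sA.1]; exact pow_mem r3 _))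
  generalize (t * s) ^ (1 + 3 * m) = ρ at *
  have ρf : ex π ρ * ex π f * (ex π ρ)⁻¹ = ex π f := by
    rw [ρ2 _ f1]; nth_rw 2 [← f2]; nth_rw 2 [← f3]; group
  obtain ⟨y, hy⟩ : ∃ y, y = e⁻¹ * (ρ * e * ρ⁻¹) := ⟨_, rfl⟩
  obtain ⟨w, hw⟩ : ∃ w, w = ρ * y * ρ⁻¹ := ⟨_, rfl⟩
  obtain ⟨c1, c2, c3, c4⟩ := qp_of_rho k.pg ρn ρ1 ρ3 he fQ ((k.eqv (N fQ) (N (conj_mem_of_mem_nz ρn fQ))).1 (by
    rw [ex_conj _ ρn (N fQ), ρf])) hy hw
  have yQ : y ∈ Q := hy ▸ mul_mem (inv_mem he) (conj_mem_of_mem_nz ρn he)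
  have wQ : w ∈ Q := hw ▸ conj_mem_of_mem_nz ρn yQ
  have y1 : ex π y = ex π e * ex π d := by
    rw [hy, ex_mul _ (inv_mem (N he)) (N (conj_mem_of_mem_nz ρn he)), ex_conj _ ρn (N he), ρ2 _ v.eV, r1,
      ex_inv _ (N he), inv_eq_of_mul_eq_one_right (ea.sq _ v.eV)]
  have w1 : ex π w = ex π e := by
    rw [hw, ex_conj _ ρn (N yQ), y1, ρ2 _ (mul_mem v.eV v'.eV), ← conj_mul, r1, r2, ← mul_assoc, ea.sq _ v'.eV, one_mul]
  have yw : ex π (y * w) = ex π d := by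
    rw [ex_mul _ (N yQ) (N wQ), y1, w1, mul_assoc, ea.cm _ v'.eV _ v.eV, ← mul_assoc, ea.sq _ v.eV, one_mul]
  have ww : y * (w * w) * y⁻¹ = w * w := by rw [← c2]; group
  have cD : ∀ g, Commute g f → Commute g (w * w) → g ∈ cz (zpowers f ⊔ zpowers (w * w)) := fun g h h' => by
    rw [cz_sup]
    exact ⟨mem_cz_zpowers.2 (mul_inv_eq_iff_eq_mul.2 h), mem_cz_zpowers.2 (mul_inv_eq_iff_eq_mul.2 h')⟩
  have DQ : zpowers f ⊔ zpowers (w * w) ≤ Q := sup_le (zpowers_le.2 fQ) (zpowers_le.2 (mul_mem wQ wQ))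
  have fx : ∀ T, T * ex π f * T⁻¹ = ex π f → ∀ x ∈ zpowers f ⊔ zpowers (w * w), T * ex π x * T⁻¹ = ex π x := fun T h x j => by
    have := ex_mem_im π (DQ.trans N) j
    rw [im_sup π (zpowers_le.2 (N fQ)) (zpowers_le.2 (N (mul_mem wQ wQ))), im_zpowers π (N fQ),
      im_zpowers π (N (mul_mem wQ wQ)), (k.ker _ (N (mul_mem wQ wQ))).2 (sq_fr k.pg wQ), zpowers_one_eq_bot,
      sup_bot_eq] at this
    exact fix_of (fix_le h this)
  have ny : ex π t * ex π y * (ex π t)⁻¹ = ex π y * ex π w := by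
    rw [y1, w1, ← conj_mul, v.fix, (v.mv _ v'.eV).resolve_left n1, mul_assoc]
  have q : QP (zpowers f ⊔ zpowers (w * w)) y w := ⟨sup_le (zpowers_le.2 (cD f (.refl f) (c4.mul_right c4)))
    (zpowers_le.2 (cD _ (c4.mul_right c4).symm (.refl _))), cD y c3.symm (mul_inv_eq_iff_eq_mul.1 ww),
    cD w c4.symm (by simp), c1, c2, mem_sup_right (mem_zpowers _), fun h => v.e1 (by
      rwa [fx _ f2 y h, left_eq_mul, w1] at ny), fun h => n2 (w1 ▸ fx _ f3 w h), fun h => n1 (yw ▸ fx _ f2 _ h)⟩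
  have l : Qg (zpowers f ⊔ zpowers (w * w)) y w ≤ Q := sup_le DQ (sup_le (zpowers_le.2 yQ) (zpowers_le.2 wQ))
  have eQ : Qg (zpowers f ⊔ zpowers (w * w)) y w = Q := by
    have l' := sup_le (fr_le Q) l
    have j := fun x (h : x ∈ Qg (zpowers f ⊔ zpowers (w * w)) y w) => zpowers_le.2
      (ex_mem_im π (l'.trans N) (mem_sup_right h))
    have m1 : y ∈ Qg (zpowers f ⊔ zpowers (w * w)) y w := mem_sup_right (mem_sup_left (mem_zpowers y))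
    have m2 : w ∈ Qg (zpowers f ⊔ zpowers (w * w)) y w := mem_sup_right (mem_sup_right (mem_zpowers w))
    exact eq_of_fr_sup l (mem2 _ le_sup_left l' (f4.trans (sup_le (sup_le (w1 ▸ j w m2) (yw ▸ j _ (mul_mem m1 m2)))
      (j f (mem_sup_left (mem_sup_left (mem_zpowers f)))))))
  refine ⟨_, y, w, q, eQ, fun h => b2 (k.memK k1 k2 (N dQ) ((mul_mem_cancel_left (mK e eK)).1 (y1 ▸ mK y h))),
    fr_le_sq (fun u j => q.sq_mem (eQ ▸ j)) ((k.eqv (N wQ) (N (mul_mem (inv_mem yQ) (conj_mem_of_mem_nz ht.2 yQ)))).1 ?_)⟩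
  rw [ex_mul _ (inv_mem (N yQ)) (N (conj_mem_of_mem_nz ht.2 yQ)), ex_conj _ ht.2 (N yQ), ny, ex_inv _ (N yQ),
    inv_mul_cancel_left]

end E3

theorem der_le (ha : a ∈ S) (hb : b ∈ S) (h : S ≤ zpowers a ⊔ zpowers b) (hn : S ≤ nz K) (hc : b⁻¹ * (a * b * a⁻¹) ∈ K) :
    ⁅S, S⁆ ≤ K := by
  obtain ⟨G, _, _, π, k⟩ := exists_quot hn
  have := (k _ (mul_mem (inv_mem hb) (mul_mem (mul_mem ha hb) (inv_mem ha)))).2 hc
  rw [ex_mul _ (inv_mem hb) (mul_mem (mul_mem ha hb) (inv_mem ha)), ex_conj _ ha hb, ex_inv _ hb, inv_mul_eq_one] at this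
  have c := H4.cm_sup_zpowers (U := zpowers (ex π a)) (le_cz_comm.1 (zpowers_le.2 (mem_cz'.2 fun u m =>
    (comm_zp m (Commute.refl _)).eq))) (le_cz_comm.1 (zpowers_le.2 (mem_cz_zpowers.2 this.symm)) (mem_zpowers _))
  rw [← im_zpowers π ha, ← im_zpowers π hb, ← im_sup π (zpowers_le.2 ha) (zpowers_le.2 hb)] at c
  refine commutator_le_iff'.2 fun x m y n => (k _ (mul_mem (mul_mem (mul_mem m n) (inv_mem m)) (inv_mem n))).1 ?_
  rw [ex_mul _ (mul_mem (mul_mem m n) (inv_mem m)) (inv_mem n), ex_conj _ m n, ex_inv _ n,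
    cmc c (ex_mem_im' π m (h m)) (ex_mem_im' π n (h n)), mul_inv_cancel]

theorem cm_mem (ha : a ∈ S) (hb : b ∈ S) : b⁻¹ * (a * b * a⁻¹) ∈ ⁅S, S⁆ := by
  simpa [commutatorElement_def, mul_assoc] using commutator_mem_commutator (inv_mem hb) ha

theorem der_le_S (S : Subgroup Γ) : ⁅S, S⁆ ≤ S := commutator_le.2 fun _ h _ k =>
  mul_mem (mul_mem (mul_mem h k) (inv_mem h)) (inv_mem k)

theorem nz_of_der (h : ⁅S, S⁆ ≤ K) (h' : K ≤ S) : S ≤ nz K := fun _ m => mem_nz_of_conj_mem fun x n => by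
  simpa using mul_mem n (h (cm_mem m (h' n)))

theorem nz_fr (hS : IsPGroup 2 S) (h : fr S ≤ K) (h' : K ≤ S) : S ≤ nz K := nz_of_der ((commutator_le_fr hS).trans h) h'

theorem gen4 (hS : IsPGroup 2 S) (ha : a ∈ S) (hb : b ∈ S) (h : S ≤ zpowers a ⊔ zpowers b) (hg : g ∈ S) :
    g ∈ fr S ∨ a⁻¹ * g ∈ fr S ∨ b⁻¹ * g ∈ fr S ∨ (b * a)⁻¹ * g ∈ fr S := by
  have k := fun g => mem_sup_sq' (g := g) (nz_fr hS le_rfl (fr_le S) ha) (sq_fr hS ha)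
  rcases mem_sup_sq' (nz_fr hS le_sup_left (sup_le (fr_le S) (zpowers_le.2 ha)) hb) (mem_sup_left (sq_fr hS hb))
    ((sup_le_sup_right le_sup_right _ : _ ≤ fr S ⊔ zpowers a ⊔ zpowers b) (h hg)) with e | e
  exacts [(k _ e).imp_right .inl, .inr (.inr ((k _ e).imp_right fun e => by simpa [mul_assoc] using e))]

theorem card_sup2 (hc : c ∈ nz K) (h : c * c ∈ K) : Nat.card (K ⊔ zpowers c : Subgroup Γ) ≤ Nat.card K * 2 := by
  by_cases e : c ∈ K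
  · rw [sup_eq_left.2 (zpowers_le.2 e)]; omega
  · exact (H4.card_sup_zpowers_prime Nat.prime_two hc e (pow_two c ▸ h)).le

theorem meta_pair (h : IsMetacyclic U) : ∃ g ∈ U, ∃ h ∈ U, U ≤ zpowers g ⊔ zpowers h ∧ U ≤ nz (zpowers g) := by
  obtain ⟨x, y, h1, h2⟩ := H24.IsMetacyclic.exists_pair h
  refine ⟨x, x.2, y, y.2, fun u m => ?_, fun u m => mem_nz_of_conj_mem fun z n => ?_⟩
  · simpa [Subgroup.map_sup] using mem_map_of_mem U.subtype (h2.ge (mem_top ⟨u, m⟩))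
  · obtain ⟨i, rfl⟩ := n
    simpa using mem_map_of_mem U.subtype (h1.conj_mem _ (zpow_mem_zpowers x i) ⟨u, m⟩)

theorem card_fr (hU : IsPGroup 2 U) (h : IsMetacyclic U) : Nat.card U ≤ Nat.card (fr U) * 2 * 2 := by
  obtain ⟨g, g1, h, h1, e, -⟩ := meta_pair h
  refine (card_le_of_le (e.trans (sup_le_sup_right le_sup_right _ : _ ≤ fr U ⊔ zpowers g ⊔ zpowers h))).trans
    ((card_sup2 (nz_fr hU le_sup_left (sup_le (fr_le U) (zpowers_le.2 g1)) h1) (mem_sup_left (sq_fr hU h1))).trans ?_)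
  exact Nat.mul_le_mul_right 2 (card_sup2 (nz_fr hU le_rfl (fr_le U) g1) (sq_fr hU g1))

theorem card_exp (h : IsMetacyclic U) (hK : K ≤ U) (e : ∀ u ∈ K, u * u = 1) : Nat.card K ≤ 4 :=
  let ⟨_, _, k⟩ := bic_of_meta (H4.metacyclic_of_le h hK)
  k.four fun a => Subtype.ext (e a a.2)

theorem conj_odd' (hS : IsPGroup 2 S) (hv : v ∈ S) (hn : S ≤ nz (zpowers v)) (hg : g ∈ S) :
    ∃ e : ℕ, ∀ u ∈ zpowers v, g * u * g⁻¹ = u ^ (2 * e + 1) := by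
  have : (zpowers (⟨v, hv⟩ : S)).Normal := ⟨fun _ ⟨i, h⟩ g => by
    obtain ⟨j, f⟩ := conj_mem_of_mem_nz (hn g.2) (zpow_mem_zpowers v i)
    exact ⟨j, Subtype.ext (by simpa [← h] using f)⟩⟩
  obtain ⟨e, h⟩ := conj_odd (v := (⟨v, hv⟩ : S)) hS ⟨g, hg⟩
  refine ⟨e, ?_⟩
  rintro _ ⟨i, rfl⟩
  simp only [← conj_zpow, show g * v * g⁻¹ = v ^ (2 * e + 1) from congrArg Subtype.val h, ← zpow_natCast, zpow_comm v i]

theorem meta_stab (hR : IsPGroup 2 R) (hm : IsMetacyclic R) (hU : U ≤ R) (ht : t ∈ R) (h1 : t ∈ nz U)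
    (h2 : t * t ∈ U) (h3 : R ≤ U ⊔ zpowers t) : t ∈ stab (fr U) (fr (fr U)) := by
  obtain ⟨g, g1, h, k1, e, n⟩ := meta_pair hm
  have pU := hR.to_le hU
  have pF := pU.to_le (fr_le U)
  have nU : R ≤ nz U := h3.trans (sup_le (le_nz_self U) (zpowers_le.2 h1))
  have st : ∀ r ∈ R, (∀ u ∈ U, (u * u)⁻¹ * (r * (u * u) * r⁻¹) ∈ fr (fr U)) → r ∈ stab (fr U) (fr (fr U)) :=
    fun r m k => ⟨nz_le_nz_fr U (nU m), fun x j => (fr_le_sq (L := Ax (fr (fr U)) r) (fun u i =>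
      ⟨nz_le_nz_fr _ (le_nz_self _ (sq_fr pU i)), k u i⟩) j).2⟩
  have d : ⁅R, R⁆ ≤ zpowers (g ^ 2) := der_le k1 g1 ((sup_comm _ _).trans_ge e |>.trans' le_rfl) (fun r m => by
      obtain ⟨i, f⟩ := conj_odd' hR g1 n m
      exact mem_nz_of_conj_mem fun u j => f u (zpowers_le.2 (npow_mem_zpowers g 2) j) ▸ pow_mem j _) (by
      obtain ⟨i, f⟩ := conj_odd' hR g1 n k1
      rw [f g (mem_zpowers g), pow_succ' g (2 * i), inv_mul_cancel_left, pow_mul]; exact npow_mem_zpowers _ _)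
  have s1 : ∀ r ∈ R, (∀ u ∈ U, u⁻¹ * (r * u * r⁻¹) ∈ fr U) → r ∈ stab (fr U) (fr (fr U)) := fun r m k => st r m fun u j => by
    obtain ⟨i, f⟩ := conj_odd' hR g1 n (inv_mem (hU j))
    rw [show (u * u)⁻¹ * (r * (u * u) * r⁻¹) = u⁻¹ * (u⁻¹ * (r * u * r⁻¹)) * u⁻¹⁻¹ * (u⁻¹ * (r * u * r⁻¹)) by group,
      f _ (zpowers_le.2 (npow_mem_zpowers g 2) (d (cm_mem m (hU j)))), ← pow_succ, add_assoc, ← mul_add_one 2, pow_mul, pow_two]
    exact pow_mem (sq_fr pF (k u j)) _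
  by_cases c : g ∈ U
  · exact s1 t ht fun u j => zpowers_le.2 (pow_mem_fr pU c) (d (cm_mem ht (hU j)))
  have c' := (mem_sup_sq' h1 h2 (h3 g1)).resolve_left c
  have g2 : g * g ∈ U := by
    simpa [mul_assoc] using mul_mem (mul_mem h2 (conj_mem_of_mem_nz' h1 c')) c'
  refine (mul_mem_cancel_right (s1 _ (hU c') fun u j => commutator_le_fr pU (cm_mem c' j))).1 ?_
  rw [mul_inv_cancel_left]
  refine st g g1 fun u j => ?_
  obtain ⟨i, f⟩ := conj_odd' hR g1 n (inv_mem (hU j))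
  obtain ⟨m, hm⟩ := Nat.even_mul_succ_self i
  rw [show (u * u)⁻¹ * (g * (u * u) * g⁻¹) = u⁻¹ * (u⁻¹ * g * u⁻¹⁻¹) * u⁻¹⁻¹ * g⁻¹ by group, f g (mem_zpowers g),
    f _ (npow_mem_zpowers g _), ← pow_mul, show (2 * i + 1) * (2 * i + 1) = 8 * m + 1 by nlinarith, pow_succ,
    mul_inv_cancel_right, pow_mul, show g ^ 8 = g * g * (g * g) * (g * g * (g * g)) by simp [pow_succ, mul_assoc]]
  exact pow_mem (sq_fr pF (sq_fr pU g2)) _

theorem sq_stab (hS : IsPGroup 2 S) (h1 : L ≤ K) (h2 : K ≤ S) (n1 : S ≤ nz L) (n2 : S ≤ nz K)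
    (hc : Nat.card K ≤ Nat.card L * 2 * 2) (h : ∀ k ∈ K, k * k ∈ L) (hg : g ∈ S) : g * g ∈ stab K L := by
  rcases h1.eq_or_lt with rfl | lt
  · exact stab_self L ▸ n1 (mul_mem hg hg)
  obtain ⟨M, m1, m2, m3, m4, -⟩ := exists_normal_step hS lt h2 n1 n2
  have := two_le m2
  refine stab_sq ⟨n2 hg, fun x m => m4 ?_⟩ (H4.mem_stab_of_card hS (m2.le.trans h2) m1 (by omega) hg (n1 hg) (m3 hg))
    fun l m => h l (m2.le m)
  simpa [commutatorElement_def, mul_assoc] using commutator_mem_commutator (inv_mem m) hg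

theorem inverts (ha : a ∈ S) (hb : b ∈ S) (h : S ≤ zpowers a ⊔ zpowers b) (hA : Cm ⁅S, S⁆) (h2 : b * b ∈ cz S)
    (hu : u ∈ ⁅S, S⁆) : b * u * b⁻¹ = u⁻¹ := by
  let I : Subgroup Γ :=
    { carrier := {u | u ∈ ⁅S, S⁆ ∧ b * u * b⁻¹ = u⁻¹}
      one_mem' := ⟨one_mem _, by simp⟩
      mul_mem' := fun {x y} h k => ⟨mul_mem h.1 k.1, by rw [← conj_mul, h.2, k.2, hA x h.1 y k.1, mul_inv_rev]⟩
      inv_mem' := fun {x} h => ⟨inv_mem h.1, by rw [← conj_inv, h.2]⟩ }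
  have n := nz_of_der le_rfl (der_le_S S)
  refine (der_le (K := I) ha hb h (fun g m => mem_nz_of_conj_mem fun x j => ⟨conj_mem_of_mem_nz (n m) j.1, ?_⟩)
    ⟨cm_mem ha hb, ?_⟩ hu).2
  · calc _ = g * (b * ((b⁻¹ * (g⁻¹ * b * g⁻¹⁻¹)) * x * (b⁻¹ * (g⁻¹ * b * g⁻¹⁻¹))⁻¹) * b⁻¹) * g⁻¹ := by group
      _ = _ := by rw [cmc hA (cm_mem (inv_mem m) hb) j.1, j.2]; group
  · calc _ = a * b⁻¹ * (b * b * a⁻¹ * (b * b)⁻¹) * b := by group
      _ = _ := by rw [mem_cz.1 h2 _ (inv_mem ha)]; group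

theorem exists_conj (hS : IsPGroup 2 S) (ha : a ∈ S) (hb : b ∈ S) (h : S ≤ zpowers a ⊔ zpowers b) (hA : Cm ⁅S, S⁆)
    (h2 : b * b ∈ cz S) (hm : IsMetacyclic (⁅S, S⁆ : Subgroup Γ)) (hf : f ∈ ⁅S, S⁆) : ∃ g ∈ S, g * b * g⁻¹ = b * f := by
  have l := der_le_S S
  have n := nz_of_der le_rfl l
  have iv := fun u => inverts (u := u) ha hb h hA h2
  have cA := cm_mem ha hb
  have e : a * b * a⁻¹ = b * (b⁻¹ * (a * b * a⁻¹)) := by group
  have dl := fun K => der_le (K := K) ha hb h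
  generalize b⁻¹ * (a * b * a⁻¹) = c at *
  set A := ⁅S, S⁆
  have pA := hS.to_le l
  have dA := conj_mem_of_mem_nz (n ha) cA
  have a2 := (sq_stab hS (fr_le A) l (n.trans (nz_le_nz_fr A)) n (card_fr pA hm) (fun k => sq_fr pA) ha).2 c cA
  have k : ∀ g ∈ S, ∀ j ∈ A, g * b * g⁻¹ = b * j → j⁻¹ * f ∈ fr A → ∃ g ∈ S, g * b * g⁻¹ = b * f := fun g m j i e k => by
    obtain ⟨u, u1, u2⟩ := hA.mem_mho.1 (fr_le_sq (fun u i => hA.mem_mho.2 ⟨u, i, rfl⟩) k)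
    refine ⟨_, mul_mem (inv_mem (l u1)) m, ?_⟩
    calc _ = b * (b⁻¹ * u⁻¹ * b) * (b⁻¹ * (g * b * g⁻¹)) * u := by group
      _ = b * (u * j) * u := by rw [e, ← iv u u1]; group
      _ = _ := by rw [hA u u1 j i, mul_assoc, mul_assoc, ← u2]; group
  have l1 := sup_le (fr_le A) (zpowers_le.2 cA)
  have l2 := sup_le l1 (zpowers_le.2 dA)
  have e2 : a * a * b * (a * a)⁻¹ = b * (c * (a * c * a⁻¹)) := by
    calc _ = a * (a * b * a⁻¹) * a⁻¹ := by group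
      _ = a * b * a⁻¹ * (a * c * a⁻¹) := by nth_rw 1 [e]; group
      _ = _ := by rw [e, mul_assoc]
  have top := dl (fr A ⊔ zpowers c ⊔ zpowers (a * c * a⁻¹)) (h.trans (sup_le (zpowers_le.2 (mem_nz_of_le (by
      rw [cj_sup, cj_sup, cj_zpowers, cj_zpowers, mem_nz.1 (nz_le_nz_fr A (n ha))]
      refine sup_le (sup_le (le_sup_left.trans le_sup_left) le_sup_right) (zpowers_le.2 (mem_sup_left ?_))
      simpa [mul_assoc] using mul_mem (mem_sup_right (mem_zpowers c)) (mem_sup_left a2))))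
    (zpowers_le.2 (mem_nz_of_conj_mem fun u j => iv u (l2 j) ▸ inv_mem j)))) (mem_sup_left (mem_sup_right (mem_zpowers c)))
  have k' := fun g => mem_sup_sq' (g := g) (nz_fr pA le_rfl (fr_le A) cA) (sq_fr pA cA)
  rcases mem_sup_sq' (nz_fr pA le_sup_left l1 dA) (mem_sup_left (sq_fr pA dA)) (top hf) with j | j <;>
    rcases k' _ j with j | j
  · exact k 1 (one_mem _) 1 (one_mem _) (by simp) (by simpa using j)
  · exact k a ha c cA e j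
  · refine k _ (mul_mem ha (mul_mem ha ha)) _ (mul_mem cA (conj_mem_of_mem_nz (n ha) (mul_mem cA dA))) ?_ ?_
    · calc _ = a * (a * a * b * (a * a)⁻¹) * a⁻¹ := by group
        _ = a * b * a⁻¹ * (a * (c * (a * c * a⁻¹)) * a⁻¹) := by rw [e2]; group
        _ = _ := by rw [e, mul_assoc]
    · rw [show (c * (a * (c * (a * c * a⁻¹)) * a⁻¹))⁻¹ * f = (c⁻¹ * (a * a * c * (a * a)⁻¹))⁻¹ *
        (c⁻¹ * (a * c * a⁻¹)⁻¹ * c⁻¹) * f by group, hA _ (inv_mem cA) _ (inv_mem dA), mul_assoc (a * c * a⁻¹)⁻¹,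
        hA _ (inv_mem dA) _ (mul_mem (inv_mem cA) (inv_mem cA)), mul_assoc _ _ f, mul_assoc _ _ f]
      exact mul_mem (inv_mem a2) (mul_mem (sq_fr pA (inv_mem cA)) j)
  · exact k _ (mul_mem ha ha) _ (mul_mem cA dA) e2 (by rw [hA c cA _ dA]; simpa [mul_assoc] using j)

theorem four_of_gen (h : zpowers a ⊔ zpowers b = ⊤) {X : Type*} [Group X] [Finite X] (f : Γ →* X)
    (hf : Function.Surjective f) (e : ∀ x : X, x * x = 1) : Nat.card X ≤ 4 := by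
  refine Bic.four (x := f a) (y := f b) (fun g => ?_) e
  obtain ⟨g, rfl⟩ := hf g
  have := mem_map_of_mem f (h.ge (mem_top g))
  rw [Subgroup.map_sup, MonoidHom.map_zpowers, MonoidHom.map_zpowers] at this
  obtain ⟨c, c1, d, d1, k⟩ := (mem_sup_of_le_nz_right ((le_cz_comm.1 (zpowers_le.2 (mem_cz_zpowers.2 (by
    rw [← inv_eq_of_mul_eq_one_right (e (f b * f a)), mul_inv_rev, inv_eq_of_mul_eq_one_right (e (f a)),
      mul_inv_eq_iff_eq_mul, inv_eq_of_mul_eq_one_right (e (f b))])))).trans (cz_le_nz _))).1 this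
  exact ⟨c, c1, d, d1, k.symm⟩

theorem pat {a b c d e f g h : Prop} (h1 : ¬ ((a ↔ c) ∧ (b ↔ d))) (h2 : ¬ ((c ↔ e) ∧ (d ↔ f)))
    (h3 : ¬ ((a ↔ e) ∧ (b ↔ f))) (h4 : ¬ ((g ↔ a) ∧ (h ↔ b))) (h5 : ¬ ((g ↔ c) ∧ (h ↔ d))) (h6 : ¬ ((g ↔ e) ∧ (h ↔ f)))
    (k1 : ¬ (a ∧ b)) (k2 : ¬ (c ∧ d)) (k3 : ¬ (e ∧ f)) (k4 : ¬ (g ∧ h)) : False := by grind

theorem meta_of_gen (hP : IsPGroup 2 Γ) (h : zpowers a ⊔ zpowers b = ⊤) (hK : K.index = 2) (hm : IsMetacyclic K)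
    {α : MulAut Γ} (ha : (orderOf α).Coprime 2) (h1 : α ≠ 1) : IsMetacyclic Γ := by
  have h4 : (frattini Γ).index ≤ 4 := four_of_gen h _ (QuotientGroup.mk'_surjective _) fun a => by
    obtain ⟨a, rfl⟩ := QuotientGroup.mk'_surjective _ a
    rw [← pow_two, ← map_pow]
    exact (QuotientGroup.eq_one_iff _).2 (H4.pow_mem_frattini hP a)
  have eq : ∀ M N : Subgroup Γ, M.index = 2 → N.index = 2 → M ≠ N → ¬ ((a ∈ M ↔ a ∈ N) ∧ (b ∈ M ↔ b ∈ N)) :=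
    fun M N m n e k => e (Subgroup.ext fun g => (sup_le (zpowers_le.2 k.1) (zpowers_le.2 k.2) : _ ≤ (⟨⟨⟨{g | g ∈ M ↔ g ∈ N},
      fun {x y} h h' => by
        change _ ↔ _
        rw [mul_mem_iff_of_index_two m, mul_mem_iff_of_index_two n, show _ ↔ _ from h, show _ ↔ _ from h']⟩,
      by simp⟩, fun h => by simpa using h⟩ : Subgroup Γ)) (h.ge (mem_top g)))
  have no : ∀ M : Subgroup Γ, M.index = 2 → ¬ (a ∈ M ∧ b ∈ M) := fun M m k => by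
    rw [top_le_iff.1 (h.ge.trans (sup_le (zpowers_le.2 k.1) (zpowers_le.2 k.2)))] at m
    simp at m
  have st : ∀ M : Subgroup Γ, M.index = 2 → IsMetacyclic M → ∀ β : MulAut Γ, (orderOf β).Coprime 2 → β ≠ 1 →
      (M.map (β : Γ →* Γ)).index = 2 ∧ IsMetacyclic (M.map (β : Γ →* Γ)) ∧ M ≠ M.map (β : Γ →* Γ) := fun M m n β o e =>
    ⟨by rwa [index_map_of_bijective β.bijective], H4.metacyclic_of_surjective n (β.subgroupMap M).toMonoidHom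
      (β.subgroupMap M).surjective, fun f => e (H4.eq_one_of_inv_max hP h4 o m fun g hg =>
        f ▸ mem_map_of_mem (β : Γ →* Γ) hg)⟩
  have k : ∀ M : Subgroup Γ, M.index = 2 → IsMetacyclic M := fun M hM => by_contra fun c => by
    obtain ⟨i1, m1, n1⟩ := st K hK hm α ha h1
    obtain ⟨i2, m2, n2⟩ := st _ i1 m1 α ha h1
    have n3 := (st K hK hm (α * α) (pow_two α ▸ ha.coprime_dvd_left (orderOf_pow_dvd 2)) fun e => h1
      (orderOf_eq_one_iff.1 (ha.eq_one_of_dvd (orderOf_dvd_of_pow_eq_one (pow_two α ▸ e))))).2.2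
    rw [show K.map ((α * α : MulAut Γ) : Γ →* Γ) = (K.map (α : Γ →* Γ)).map (α : Γ →* Γ) from (map_map K (α : Γ →* Γ) (α : Γ →* Γ)).symm] at n3
    exact pat (eq _ _ hK i1 n1) (eq _ _ i1 i2 n2) (eq _ _ hK i2 n3) (eq _ _ hM hK fun e => c (e ▸ hm))
      (eq _ _ hM i1 fun e => c (e ▸ m1)) (eq _ _ hM i2 fun e => c (e ▸ m2)) (no _ hK) (no _ i1) (no _ i2) (no _ hM)
  refine H24.meta_of_rank Γ hP fun X _ f hf A _ hA => ?_
  have : Finite X := Finite.of_surjective f hf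
  have h2 : ∀ a : A, a * a = 1 := fun a => Subtype.ext ((pow_two _).symm.trans (hA a a.2))
  by_cases e : A = ⊤
  · subst e
    rw [card_top]
    exact four_of_gen h f hf fun a => congrArg Subtype.val (h2 ⟨a, trivial⟩)
  obtain ⟨M, m1, m2⟩ := H4.exists_coatom_ge e
  exact card_exp (H4.metacyclic_of_surjective (k _ ((M.index_comap_of_surjective hf).trans
    (H4.index_of_coatom (hP.of_surjective f hf) m1))) _ (f.subgroupComap_surjective_of_surjective M hf)) m2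
    fun u m => congrArg Subtype.val (h2 ⟨u, m⟩)

theorem exists_aut (hn : a ∈ nz R) (ho : (orderOf a).Coprime 2) (h : a ∉ cz R) :
    ∃ α : MulAut R, (orderOf α).Coprime 2 ∧ α ≠ 1 := by
  by_contra! k
  exact h (H4.cz_of_aut (p := 2) hn ho fun α e _ => k α e)

/-- a non-metacyclic bicyclic `2`-group with non-cyclic derived subgroup -/
structure BS (S : Subgroup Γ) (x y : Γ) : Prop where
  pg : IsPGroup 2 S
  xS : x ∈ S
  yS : y ∈ S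
  gen : S ≤ zpowers x ⊔ zpowers y
  mx : IsMetacyclic (fr S ⊔ zpowers x : Subgroup Γ)
  my : IsMetacyclic (fr S ⊔ zpowers y : Subgroup Γ)
  odd : ∀ a ∈ nz S, (orderOf a).Coprime 2 → a ∈ cz S
  ab : Cm ⁅S, S⁆
  nc : ¬ IsCyclic (⁅S, S⁆ : Subgroup Γ)

theorem bs_of (hS : IsPGroup 2 S) {x y : S} (hb : Bic x y) (hm : ¬ IsMetacyclic S) (hc : ¬ IsCyclic (commutator S)) :
    BS S x y := by
  have mx : ∀ {x y : S}, Bic x y → IsMetacyclic (fr S ⊔ zpowers (x : Γ) : Subgroup Γ) := fun {x y} hb => by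
    obtain ⟨M, m1, m2⟩ := H4.exists_coatom_ge (H := frattini S ⊔ zpowers x) fun e => by
      have := frattini_nongenerating ((sup_comm _ _).trans e)
      exact hm (mc_of (g := x) (h := x) (by rwa [sup_idem]) (this ▸ le_top))
    have := H4.metacyclic_of_le (hb.mc hS (H4.index_of_coatom hS m1) (m2 (mem_sup_right (mem_zpowers x)))) m2
    rw [show zpowers (x : Γ) = (zpowers x).map S.subtype from (S.subtype.map_zpowers x).symm, ← Subgroup.map_sup]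
    exact H4.metacyclic_of_surjective this _ (S.subtype.subgroupMap_surjective _)
  have e : (commutator S).map S.subtype = ⁅S, S⁆ := by
    rw [_root_.commutator_def, map_commutator, ← MonoidHom.range_eq_map, range_subtype]
  refine ⟨hS, x.2, y.2, fun g m => ?_, mx hb, mx hb.symm, fun a m o => by_contra fun c => ?_, ?_, fun h => hc ?_⟩
  · obtain ⟨a, h1, b, h2, e⟩ := hb ⟨g, m⟩
    rw [show g = a * b from congrArg Subtype.val e]
    simpa using mul_mem (mem_sup_left (mem_map_of_mem S.subtype h1)) (mem_sup_right (mem_map_of_mem S.subtype h2))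
  · obtain ⟨α, a1, a2⟩ := exists_aut m o c
    exact hm (hb.odd hS a1 a2)
  · have := Cfsg.Agent.S0572.result (zpowers x) (zpowers y) hb
    rw [← e]
    rintro _ ⟨a, h1, rfl⟩ _ ⟨b, h2, rfl⟩
    exact congrArg Subtype.val (commutatorElement_eq_one_iff_mul_comm.1 (this.le (commutator_mem_commutator h1 h2)))
  · rw [← e] at h
    exact (MulEquiv.isCyclic (equivMapOfInjective _ _ S.subtype_injective)).2 h

theorem QP.conj_x (q : QP D x w) (hg : g ∈ Qg D x w) : ∃ z ∈ zpowers (w * w), g * x * g⁻¹ = x * z := by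
  have := inv_mem (q.comm hg)
  refine ⟨_, this, ?_⟩
  rw [← mem_cz'.1 q.cx _ (zpowers_le.2 q.mem this)]; group

/-- the elements of order at most two of the derived subgroup -/
structure OM (S Y : Subgroup Γ) : Prop where
  mem : ∀ u, u ∈ Y ↔ u ∈ ⁅S, S⁆ ∧ u * u = 1
  card : 4 ≤ Nat.card Y
  cen : fr S ≤ cz Y
  nor : S ≤ nz Y

theorem OM.ex {Y : Subgroup Γ} (o : OM S Y) (h : c * c = 1) : ∃ f ∈ Y, f ∉ zpowers c :=
  SetLike.not_le_iff_exists.1 fun e => by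
    have := o.card.trans ((card_le_of_le e).trans_eq (Nat.card_zpowers c))
    have := orderOf_le_of_pow_eq_one two_pos (pow_two c ▸ h)
    omega

namespace BS
variable (bs : BS S x y)
include bs

theorem dfr : ⁅S, S⁆ ≤ fr S := commutator_le_fr bs.pg

theorem mA : IsMetacyclic (⁅S, S⁆ : Subgroup Γ) := H4.metacyclic_of_le bs.mx (bs.dfr.trans le_sup_left)

theorem om : ∃ Y, OM S Y := by
  have c : IsMulCommutative (⁅S, S⁆ : Subgroup Γ) := ⟨⟨fun a b => Subtype.ext (bs.ab a a.2 b b.2)⟩⟩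
  have m : ∀ u, u ∈ H4.omegaComm _ c 2 ↔ u ∈ ⁅S, S⁆ ∧ u * u = 1 := fun u => by rw [H4.mem_omegaComm, pow_two]
  have l : H4.omegaComm _ c 2 ≤ ⁅S, S⁆ := fun u h => h.1
  have n : S ≤ nz (H4.omegaComm _ c 2) := fun g h => mem_nz_of_conj_mem fun u k => (m _).2
    ⟨conj_mem_of_mem_nz (nz_of_der le_rfl (der_le_S S) h) k.1, by rw [conj_mul, ((m u).1 k).2]; simp⟩
  refine ⟨_, m, ?_, fr_le_sq fun g h => stab_bot (H4.omegaComm _ c 2) ▸ sq_stab bs.pg bot_le (l.trans (der_le_S S)) (le_nz_bot S) n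
    (by simpa using card_exp bs.mA l fun u k => ((m u).1 k).2) (fun u k => ((m u).1 k).2) h, n⟩
  have := mt (H4.isCyclic_of_card_omega_le (bs.pg.to_le (der_le_S S)) c) bs.nc
  obtain ⟨_ | _ | k, e⟩ := IsPGroup.iff_card.1 (bs.pg.to_le (l.trans (der_le_S S))) <;> rw [e] at this ⊢
  exacts [by omega, by omega, by rw [pow_succ, pow_succ]; have := Nat.two_pow_pos k; omega]

theorem pair (hb : b ∈ S) (h : b ∉ fr S) : ∃ a ∈ S, S ≤ zpowers a ⊔ zpowers b := by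
  have k : ∀ a ∈ S, x ∈ fr S ⊔ (zpowers a ⊔ zpowers b) → y ∈ fr S ⊔ (zpowers a ⊔ zpowers b) → ∃ a ∈ S,
      S ≤ zpowers a ⊔ zpowers b := fun a m h1 h2 => ⟨a, m, (eq_of_fr_sup (sup_le (zpowers_le.2 m) (zpowers_le.2 hb))
        (bs.gen.trans (sup_le (zpowers_le.2 h1) (zpowers_le.2 h2)))).ge⟩
  have m1 : ∀ a, a ∈ fr S ⊔ (zpowers a ⊔ zpowers b) := fun a => mem_sup_right (mem_sup_left (mem_zpowers a))
  have m2 : ∀ a c, c⁻¹ * b ∈ fr S → c ∈ fr S ⊔ (zpowers a ⊔ zpowers b) := fun a c e => inv_mem_iff.1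
    ((mul_mem_cancel_right (mem_sup_right (mem_sup_right (mem_zpowers b)))).1 (mem_sup_left e))
  rcases gen4 bs.pg bs.xS bs.yS bs.gen hb with e | e | e | e
  exacts [(h e).elim, k y bs.yS (m2 _ _ e) (m1 _), k x bs.xS (m1 _) (m2 _ _ e),
    k x bs.xS (m1 _) ((mul_mem_cancel_right (m1 _)).1 (m2 _ _ e))]

theorem two (hQ : Q < S) (hb : b ∈ Q) (h : b ∉ fr S) (hg : g ∈ Q) : g ∈ fr S ∨ b⁻¹ * g ∈ fr S := by
  obtain ⟨a, a1, a2⟩ := bs.pair (hQ.le hb) h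
  have k : ∀ q ∈ Q, a⁻¹ * q ∉ fr S := fun q m e => hQ.ne (eq_of_fr_sup hQ.le (a2.trans (sup_le (zpowers_le.2
    (inv_mem_iff.1 ((mul_mem_cancel_right (mem_sup_right m)).1 (mem_sup_left e)))) (zpowers_le.2 (mem_sup_right hb)))))
  rcases gen4 bs.pg a1 (hQ.le hb) a2 (hQ.le hg) with e | e | e | e
  exacts [.inl e, (k g hg e).elim, .inr e, (k _ (mul_mem (inv_mem hb) hg) (by simpa [mul_assoc] using e)).elim]

theorem omQ {Y : Subgroup Γ} (o : OM S Y) (hQ : Q < S) (hb : b ∈ Q) (h : b ∉ fr S) (h2 : b * b ∈ cz S) :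
    Y ≤ S ⊓ cz Q := by
  obtain ⟨a, a1, a2⟩ := bs.pair (hQ.le hb) h
  have : b ∈ cz Y := mem_cz.2 fun u m => by
    rw [inverts a1 (hQ.le hb) a2 bs.ab h2 ((o.mem u).1 m).1, inv_eq_of_mul_eq_one_right ((o.mem u).1 m).2]
  exact le_inf (fun u m => der_le_S S ((o.mem u).1 m).1) (le_cz_comm.1 fun g m => (bs.two hQ hb h m).elim (@o.cen g)
    fun e => (mul_mem_cancel_left (inv_mem this)).1 (o.cen e))

end BS

theorem BS.not_meta (r : BS F.S x y) (hF : F.Sat 2) (hQ : F.Ess Q) (hb : b ∈ Q) (h : b ∉ fr F.S) (ha : a ∈ nz Q)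
    (ho : (orderOf a).Coprime 2) (h1 : a ∉ cz Q) : ¬ IsMetacyclic Q := fun hm => by
  obtain ⟨Y, o⟩ := r.om
  obtain ⟨α, a1, a2⟩ := exists_aut ha ho h1
  have C := hQ.centric.C_le
  rcases H4.meta_odd (hF.pg' hQ.le) hm a1 a2 with ⟨⟨e⟩⟩ | ⟨n, ⟨e⟩⟩
  · have k1 : ∀ g : QuaternionGroup 2, g * g = 1 ∨ g * g = .a 2 := by decide
    have k2 : ∀ g : QuaternionGroup 2, (∀ h, h * g = g * h) → g = 1 ∨ g = .a 2 := by decide
    have j1 : ∀ g : Q, e g = 1 ∨ e g = .a 2 → (g : Γ) = 1 ∨ g = (e.symm (.a 2) : Γ) := fun g => Or.imp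
      (fun h => congrArg Subtype.val ((map_eq_one_iff e e.injective).1 h)) fun h => by rw [← h]; simp
    have j2 : ∀ g ∈ F.S ⊓ cz Q, g = 1 ∨ g = (e.symm (.a 2) : Γ) := fun g m => j1 ⟨g, C m⟩ (k2 _ fun h => by
      obtain ⟨h, rfl⟩ := e.surjective h
      rw [← map_mul, ← map_mul]
      exact congrArg e (Subtype.ext (mem_cz'.1 m.2 h h.2)))
    obtain ⟨c, -, c1, c2⟩ := H4.exists_mem_center_orderOf_eq r.pg (N := ⊤) fun e => h (by
      rw [show b = 1 from congrArg Subtype.val (mem_bot.1 (e.le (mem_top ⟨b, hQ.le hb⟩)))]; exact one_mem _)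
    have c3 : (c : Γ) ∈ cz F.S := mem_cz'.2 fun g m => congrArg Subtype.val (mem_center_iff.1 c1 ⟨g, m⟩)
    have c4 := (j2 c ⟨c.2, cz_anti hQ.le c3⟩).resolve_left fun e => by simp [show c = 1 from Subtype.ext e] at c2
    rw [← c4] at j1 j2
    obtain ⟨f, f1, f2⟩ := o.ex (c := (c : Γ)) (congrArg Subtype.val (show c * c = 1 by rw [← pow_two, ← c2, pow_orderOf_eq_one]))
    rcases j2 f (r.omQ o hQ.lt hb h (by
      rcases j1 (⟨b, hb⟩ * ⟨b, hb⟩) (map_mul e _ _ ▸ k1 _) with e | e <;> rw [show b * b = _ from e]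
      exacts [one_mem _, c3]) f1) with rfl | rfl
    exacts [f2 (one_mem _), f2 (mem_zpowers _)]
  have ab : Cm Q := fun a h b k => congrArg Subtype.val (e.injective (by rw [map_mul, map_mul, mul_comm]) : (⟨a, h⟩ * ⟨b, k⟩ : Q) = ⟨b, k⟩ * ⟨a, h⟩)
  have c := hF.cr_of_ess (.inr hQ)
  have om := H4.cz_omega_le hF (sc_S F) c.2.1 c.2.2 (.inr (ab.mono inf_le_left))
  rw [inf_eq_left.2 hQ.le] at om
  have le : ∀ {K : Subgroup Γ}, (∀ q ∈ Q, q * q = 1 → q ∈ K) → omegaOne 2 Q ≤ K := fun h =>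
    (closure_le _).2 fun q m => h q m.1 (pow_two q ▸ m.2)
  have YQ : Y ≤ Q := by
    by_cases k : ∀ q ∈ Q, q * q = 1 → q ∈ fr F.S
    · exact (le_inf (fun u m => der_le_S _ ((o.mem u).1 m).1) ((le_cz_comm.1 o.cen).trans (cz_anti (le k)))).trans om
    push Not at k
    obtain ⟨q, q1, q2, q3⟩ := k
    exact (r.omQ o hQ.lt q1 q3 (q2 ▸ one_mem _)).trans C
  have fQ : fr F.S ≤ Q := (le_inf (fr_le _) (o.cen.trans (cz_anti (le fun q q1 q2 => by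
    have l := sup_le YQ (zpowers_le.2 q1)
    refine (eq_of_le_of_card_ge le_sup_left ((card_exp hm l fun u m => ?_).trans o.card)).ge (mem_sup_right (mem_zpowers q))
    rcases mem_sup_sq (mem_cz'.2 fun u m => ab u (YQ m) q q1) (q2 ▸ one_mem _) m with e | e
    · exact ((o.mem u).1 e).2
    · calc _ = q * (q⁻¹ * u * q) * (q⁻¹ * u) := by group
        _ = q * q * (q⁻¹ * u * (q⁻¹ * u)) := by rw [ab _ (YQ e) q q1]; group
        _ = 1 := by rw [q2, ((o.mem _).1 e).2, one_mul])))).trans om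
  obtain ⟨a, a1, a2⟩ := r.pair (hQ.le hb) h
  have cQ := fQ (r.dfr (cm_mem a1 (hQ.le hb)))
  refine r.nc (isCyclic_of_le (der_le a1 (hQ.le hb) a2 (a2.trans (sup_le (zpowers_le.2 (mem_nz_of_le ?_))
    (zpowers_le.2 (cz_le_nz _ (mem_cz_zpowers.2 (cmc ab hb cQ)))))) (mem_zpowers _)))
  rw [cj_zpowers, zpowers_le, show a * (b⁻¹ * (a * b * a⁻¹)) * a⁻¹ = (b⁻¹ * (a * b * a⁻¹))⁻¹ * b⁻¹ *
    (a * a * b * (a * a)⁻¹) by group, cmc ab (fQ (sq_fr r.pg a1)) hb, inv_mul_cancel_right]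
  exact inv_mem (mem_zpowers _)

theorem fin1 (hS : IsPGroup 2 S) (q : QP D b w) (hQ : Qg D b w = Q) (QS : Q ≤ S) (C : S ⊓ cz Q ≤ Q)
    (l2 : ∀ r ∈ S ⊓ nz Q, r ∉ Q → r * t⁻¹ ∈ Q) (hc : c = b⁻¹ * (t * b * t⁻¹)) (h1 : w⁻¹ * c ∈ D) (hK : K ≤ S ⊓ cz Q)
    (hg : g ∈ S) (g1 : g * b * g⁻¹ = b * f) (g2 : g ∈ nz (zpowers c ⊔ K)) (f1 : f ∈ K) (f2 : f ∉ zpowers (w * w))
    (f3 : w * w = 1 → f ≠ c) : False := by
  have bQ : b ∈ Q := hQ ▸ mem_sup_right (mem_sup_left (mem_zpowers b))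
  have wQ : w ∈ Q := hQ ▸ mem_sup_right (mem_sup_right (mem_zpowers w))
  have DQ : D ≤ Q := hQ ▸ le_sup_left
  have DC : D ≤ cz Q := le_cz_comm.1 (hQ ▸ sup_le q.ab (sup_le (zpowers_le.2 q.cx) (zpowers_le.2 q.cw)))
  have cQ : c ∈ Q := (mul_mem_cancel_left (inv_mem wQ)).1 (DQ h1)
  set Y := zpowers c ⊔ K ⊔ zpowers b
  have YQ : Y ≤ Q := sup_le (sup_le (zpowers_le.2 cQ) (hK.trans C)) (zpowers_le.2 bQ)
  have bY : b ∈ Y := mem_sup_right (mem_zpowers b)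
  have cY : c ∈ Y := mem_sup_left (mem_sup_left (mem_zpowers c))
  have top : ∀ L, Y ≤ L → D ≤ L → Q ≤ L := fun L h k => hQ ▸ sup_le k (sup_le (zpowers_le.2 (h bY))
    (zpowers_le.2 (inv_mem_iff.1 ((mul_mem_cancel_right (h cY)).1 (k h1)))))
  have key : ∀ r ∈ S ⊓ nz Q, r ∉ Q → ∃ z ∈ zpowers (w * w), ∀ f ∈ cz Q, r * b * r⁻¹ = b * f → c = z * f := fun r m n => by
    obtain ⟨z, z1, z2⟩ := q.conj_x (hQ ▸ inv_mem (l2 r m n))
    refine ⟨z, z1, fun f j e => ?_⟩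
    calc _ = b⁻¹ * ((r * t⁻¹)⁻¹ * (r * b * r⁻¹) * (r * t⁻¹)) := by rw [hc]; group
      _ = b⁻¹ * ((r * t⁻¹)⁻¹ * b * (r * t⁻¹)⁻¹⁻¹) * ((r * t⁻¹)⁻¹ * f * (r * t⁻¹)⁻¹⁻¹) := by rw [e]; group
      _ = _ := by rw [z2, mem_cz.1 (le_cz_comm.1 (zpowers_le.2 j) (inv_mem (l2 r m n))) f (mem_zpowers f)]; group
  have CQ : S ⊓ cz Y ≤ Q := by_contra fun h => by
    obtain ⟨r, r1, r2, r3⟩ := exists_mem_nz_of_not_le hS QS inf_le_left (fun g m => mem_nz_inf (le_nz_self S (QS m))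
      (mem_nz_cz (top _ (le_nz_self Y) (DC.trans ((cz_anti YQ).trans (cz_le_nz Y))) m))) h
    obtain ⟨z, z1, z2⟩ := key r ⟨r1.1, r2⟩ r3
    exact q.nw (inv_mem_iff.1 ((mul_mem_cancel_right (by
      rw [z2 1 (one_mem _) (by rw [mem_cz.1 r1.2 b bY, mul_one]), mul_one]; exact zpowers_le.2 q.mem z1)).1 h1))
  have gY : g ∈ nz Y := mem_nz_of_le (by
    rw [cj_sup, cj_zpowers, mem_nz.1 g2, g1]
    exact sup_le le_sup_left (zpowers_le.2 (mul_mem bY (mem_sup_left (mem_sup_right f1)))))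
  have gQ : g ∈ nz Q := by
    rw [← le_antisymm (sup_le YQ CQ) (top _ le_sup_left ((le_inf (DQ.trans QS) (DC.trans (cz_anti YQ))).trans le_sup_right))]
    exact mem_nz_sup gY (mem_nz_inf (le_nz_self S hg) (mem_nz_cz gY))
  by_cases k : g ∈ Q
  · obtain ⟨z, z1, z2⟩ := q.conj_x (hQ ▸ k)
    exact f2 (mul_left_cancel (g1.symm.trans z2) ▸ z1)
  obtain ⟨z, z1, z2⟩ := key g ⟨hg, gQ⟩ k
  replace z2 := z2 f (hK f1).2 g1
  have : b * w * b⁻¹ = w := by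
    calc _ = b * c * b⁻¹ * (b * (w⁻¹ * c) * b⁻¹)⁻¹ := by group
      _ = _ := by
        rw [mem_cz.1 q.cx _ h1, show b * c * b⁻¹ = c from mem_cz.1 (le_cz_comm.1 (zpowers_le.2 (z2 ▸ mul_mem
          (DC (zpowers_le.2 q.mem z1)) (hK f1).2)) bQ) c (mem_zpowers c)]; group
  rw [q.inv, inv_eq_iff_mul_eq_one] at this
  rw [this, zpowers_one_eq_bot, mem_bot] at z1
  exact f3 this (by rw [z2, z1, one_mul])

theorem BS.fin2 (r : BS S x y) (q : QP D b w) (hQ : Qg D b w = Q) (QS : Q < S) (C : S ⊓ cz Q ≤ Q) (ht : t ∈ S)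
    (l2 : ∀ r ∈ S ⊓ nz Q, r ∉ Q → r * t⁻¹ ∈ Q) (h1 : w⁻¹ * (b⁻¹ * (t * b * t⁻¹)) ∈ D) (hb : b ∉ fr S) : False := by
  have bQ : b ∈ Q := hQ ▸ mem_sup_right (mem_sup_left (mem_zpowers b))
  have wQ : w ∈ Q := hQ ▸ mem_sup_right (mem_sup_right (mem_zpowers w))
  have DC : D ≤ cz Q := le_cz_comm.1 (hQ ▸ sup_le q.ab (sup_le (zpowers_le.2 q.cx) (zpowers_le.2 q.cw)))
  have bS := QS.le bQ
  have cA := cm_mem ht bS
  have fin := fun K g f => fin1 (K := K) (g := g) (f := f) r.pg q hQ QS.le C l2 rfl h1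
  generalize b⁻¹ * (t * b * t⁻¹) = c at *
  have sA : w * w ∈ ⁅S, S⁆ := by simpa [q.inv] using inv_mem (cm_mem bS (QS.le wQ))
  have n := nz_of_der le_rfl (der_le_S S)
  have bc : b * c * b⁻¹ = c * (w * w) := by
    calc _ = b * w * b⁻¹ * (b * (w⁻¹ * c) * b⁻¹) := by group
      _ = w * ((w * w) * (w⁻¹ * c)) := by rw [q.inv, mem_cz.1 q.cx _ h1, q.winv]; group
      _ = _ := by rw [← mem_cz'.1 (q.ab q.mem) _ h1]; group
  by_cases k : w * w ∈ cz S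
  · obtain ⟨Y, o⟩ := r.om
    obtain ⟨a, a1, a2⟩ := r.pair bS hb
    have cc : c * c = w * w := by
      rw [inverts a1 bS a2 r.ab (q.sq ▸ k) cA, inv_eq_iff_mul_eq_one, ← mul_assoc] at bc
      rw [eq_inv_of_mul_eq_one_left bc, inv_eq_of_mul_eq_one_right q.z2]
    obtain ⟨f, f1, f2, f3⟩ : ∃ f ∈ Y, f ∉ zpowers (w * w) ∧ (w * w = 1 → f ≠ c) := by
      by_cases e : w * w = 1
      · obtain ⟨f, f1, f2⟩ := o.ex (cc.trans e)
        exact ⟨f, f1, fun h => f2 (by rw [e, zpowers_one_eq_bot] at h; exact mem_bot.1 h ▸ one_mem _), fun _ h => f2 (h ▸ mem_zpowers f)⟩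
      · obtain ⟨f, f1, f2⟩ := o.ex q.z2
        exact ⟨f, f1, f2, fun h => (e h).elim⟩
    obtain ⟨g, g1, g2⟩ := exists_conj r.pg a1 bS a2 r.ab (q.sq ▸ k) r.mA ((o.mem f).1 f1).1
    refine fin Y g f (r.omQ o QS bQ hb (q.sq ▸ k)) g1 g2 (mem_nz_of_le ?_) f1 f2 f3
    rw [cj_sup, cj_zpowers, mem_nz.1 (o.nor g1)]
    have m := conj_mem_of_mem_nz (n g1) cA
    refine sup_le (zpowers_le.2 ((mul_mem_cancel_left (inv_mem (mem_sup_left (mem_zpowers c)))).1 (mem_sup_right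
      ((o.mem _).2 ⟨mul_mem (inv_mem cA) m, ?_⟩)))) le_sup_right
    rw [Commute.mul_mul_mul_comm (r.ab _ m _ (inv_mem cA)), conj_mul, ← mul_inv_rev, cc, mem_cz.1 (le_cz_comm.1
      (zpowers_le.2 k) g1) _ (mem_zpowers _), inv_mul_cancel]
  obtain ⟨a, a1, a2⟩ : ∃ a ∈ S, a * (w * w) * a⁻¹ ≠ w * w := by
    by_contra! e
    exact k (mem_cz'.2 fun a m => mul_inv_eq_iff_eq_mul.1 (e a m))
  have gA := conj_mem_of_mem_nz (n a1) cA
  have fA := conj_mem_of_mem_nz (n a1) sA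
  have s1 : w * w ≠ 1 := fun e => a2 (by simp [e])
  refine fin (zpowers _) _ _ (zpowers_le.2 ⟨der_le_S S fA, mem_cz'.2 fun g m => ?_⟩) (der_le_S S gA) ?_
    (cz_le_nz _ (cz_anti (sup_le (zpowers_le.2 cA) (zpowers_le.2 fA)) (mem_cz'.2 fun u m => r.ab u m _ gA)))
    (mem_zpowers _) (fun h => (zp_two q.z2 h).elim (by simpa using s1) a2) fun e => (s1 e).elim
  · calc _ = a * (g * (g⁻¹ * (a⁻¹ * g * a⁻¹⁻¹) * (w * w))) * a⁻¹ := by group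
      _ = a * (g * (w * w) * (g⁻¹ * (a⁻¹ * g * a⁻¹⁻¹))) * a⁻¹ := by
          rw [r.ab _ (cm_mem (inv_mem a1) (QS.le m)) _ sA, mul_assoc g (w * w)]
      _ = _ := by rw [mem_cz'.1 (DC q.mem) g m]; group
  · have e : c * b * c⁻¹ = b * (w * w) := by
      calc _ = c * (w * w * (w * w)) * b * c⁻¹ := by rw [q.z2, mul_one]
        _ = c * (w * w) * (b * b) * b * c⁻¹ := by rw [q.sq]; group
        _ = b * (c * (b * b) * c⁻¹) := by rw [← bc]; group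
        _ = _ := by rw [q.sq, cmc r.ab cA sA]
    have m := cm_mem a1 bS
    calc _ = a * (c * b * c⁻¹) * a⁻¹ * (a * c * a⁻¹ * (b⁻¹ * (a * b * a⁻¹))⁻¹ * (a * c * a⁻¹)⁻¹) := by group
      _ = b * (b⁻¹ * (a * b * a⁻¹) * (a * (w * w) * a⁻¹) * (b⁻¹ * (a * b * a⁻¹))⁻¹) := by
          rw [e, cmc r.ab gA (inv_mem m)]; group
      _ = _ := by rw [cmc r.ab m fA]

theorem BS.eq_inner (r : BS F.S x y) (hF : F.Sat 2) : F = inner F.S := by
  refine hF.eq_inner_of_foc (hF.foc_le_of r.dfr fun Q hQ => resid_le_iff.2 fun a ha o => by_contra fun c => ?_)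
  have a1 : a ∉ cz Q := fun h => c (cz_le_stab _ _ h)
  rcases hQ with rfl | hQ
  · exact a1 (r.odd a ha.1 o)
  have pQ := hF.pg' hQ.le
  obtain ⟨b, b1, b2⟩ : ∃ b ∈ Q, b ∉ fr F.S := by
    by_contra! k
    exact c ⟨ha.1, fun q m => k _ (mul_mem (inv_mem m) (conj_mem_of_mem_nz ha.1 m))⟩
  have nm := r.not_meta hF hQ b1 b2 ha.1 o a1
  have two := fun g => r.two (g := g) hQ.lt b1 b2
  have nF := nz_fr r.pg le_rfl (fr_le _)
  have k3 : ∀ a ∈ Q, ∀ b ∈ Q, a ∉ Q ⊓ fr F.S → b ∉ Q ⊓ fr F.S → a * b ∈ Q ⊓ fr F.S := fun u h v k h1 h2 =>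
    ⟨mul_mem h k, by
      simpa [mul_assoc] using mul_mem (mul_mem (sq_fr r.pg (hQ.le b1)) (conj_mem_of_mem_nz' (nF (hQ.le b1))
        ((two u h).resolve_left fun e => h1 ⟨h, e⟩))) ((two v k).resolve_left fun e => h2 ⟨k, e⟩)⟩
  have a2 : a ∉ nz (Q ⊓ fr F.S) := fun h => c (stab_mono inf_le_right (cm_two k3 ha.1 h))
  have m0 : IsMetacyclic (Q ⊓ fr F.S : Subgroup Γ) := H4.metacyclic_of_le r.mx (inf_le_right.trans le_sup_left)
  have k4 : F.N Q ≤ nz (Q ⊓ fr F.S) := fun g m => mem_nz_inf m.2 (nF m.1)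
  have sup : Q ≤ Q ⊓ fr F.S ⊔ zpowers b := fun g m => (two g m).elim (fun e => mem_sup_left ⟨m, e⟩) fun e =>
    (mul_mem_cancel_left (inv_mem (mem_sup_right (mem_zpowers b)))).1 (mem_sup_left (mem_inf.2 ⟨mul_mem (inv_mem b1) m, e⟩))
  have g2 : ∀ u ∈ Q, ∀ v ∈ Q, ¬ Q ≤ fr Q ⊔ (zpowers u ⊔ zpowers v) := fun u h v k e => by
    obtain ⟨α, a1, a2⟩ := exists_aut ha.1 o a1
    let φ := (subgroupOfEquivOfLe (inf_le_left : Q ⊓ fr F.S ≤ Q)).symm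
    refine nm (meta_of_gen pQ (a := ⟨u, h⟩) (b := ⟨v, k⟩) (K := (Q ⊓ fr F.S).subgroupOf Q)
      (map_injective Q.subtype_injective ?_) (index_eq_two_iff.2 ⟨⟨b, b1⟩, fun g => ?_⟩)
      (H4.metacyclic_of_surjective m0 φ.toMonoidHom φ.surjective) a1 a2)
    · simpa [Subgroup.map_sup, ← MonoidHom.range_eq_map] using eq_of_fr_sup (sup_le (zpowers_le.2 h) (zpowers_le.2 k)) e
    · by_cases e : (g : Γ) ∈ Q ⊓ fr F.S
      · exact .inr ⟨e, fun f => b2 ((mul_mem_cancel_left e).1 f).2⟩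
      · exact .inl ⟨k3 _ g.2 _ b1 e fun f => b2 f.2, e⟩
  have p0 := pQ.to_le (inf_le_left : Q ⊓ fr F.S ≤ Q)
  have c1 := (card_le_of_le sup).trans (card_sup2 (k4 (le_N hQ.le b1)) ⟨mul_mem b1 b1, sq_fr r.pg (hQ.le b1)⟩)
  have c2 := card_fr p0 m0
  have fm : fr (Q ⊓ fr F.S) ≤ fr Q := fr_le_sq fun u m => sq_fr pQ m.1
  have e0 : fr (Q ⊓ fr F.S) = fr Q := by
    obtain ⟨u, u1, u2⟩ := SetLike.not_le_iff_exists.1 (g2 1 (one_mem _) 1 (one_mem _))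
    obtain ⟨v, v1, v2⟩ := SetLike.not_le_iff_exists.1 (g2 u u1 1 (one_mem _))
    simp only [zpowers_one_eq_bot, sup_bot_eq] at u2 v2
    have := two_le (lt_sup u2)
    have := two_le (lt_sup v2)
    have := two_le (lt_of_le_not_ge (sup_le (sup_le (fr_le Q) (zpowers_le.2 u1)) (zpowers_le.2 v1))
      fun h => g2 u u1 v v1 (h.trans_eq (sup_assoc _ _ _)))
    exact eq_of_le_of_card_ge fm (by omega)
  obtain ⟨G, _, _, π, ker⟩ := exists_quot (nz_le_nz_fr Q)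
  have k : E3 F Q π := ⟨hF, hQ, by rw [← e0]; omega, ker⟩
  obtain ⟨t, M, t1, t2, t3, t4, t5, t6, t7⟩ : ∃ t M, t ∈ F.N Q ∧ t ∉ Q ∧ t * t ∈ Q ∧ t ∈ M ∧ fr F.S ≤ M ∧ M ≤ F.S ∧
      IsMetacyclic M := by
    obtain ⟨t, t1, t2, t3, t4⟩ := H4.exists_mem_nz_pow r.pg hQ.lt
    rw [pow_two] at t4
    have lx := sup_le (fr_le _) (zpowers_le.2 r.xS)
    have ly := sup_le (fr_le _) (zpowers_le.2 r.yS)
    have m : ∀ c g, c⁻¹ * g ∈ fr F.S → g ∈ fr F.S ⊔ zpowers c := fun c g e =>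
      (mul_mem_cancel_left (inv_mem (mem_sup_right (mem_zpowers c)))).1 (mem_sup_left e)
    have n : ∀ c, IsMetacyclic (fr F.S ⊔ zpowers c : Subgroup Γ) → c⁻¹ * b ∉ fr F.S := fun c h e =>
      nm (H4.metacyclic_of_le h (sup.trans (sup_le (inf_le_right.trans le_sup_left) (zpowers_le.2 (m c b e)))))
    rcases gen4 r.pg r.xS r.yS r.gen t1 with e | e | e | e
    · exact ⟨t, _, ⟨t1, t2⟩, t3, t4, mem_sup_left e, le_sup_left, lx, r.mx⟩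
    · exact ⟨t, _, ⟨t1, t2⟩, t3, t4, m _ _ e, le_sup_left, lx, r.mx⟩
    · exact ⟨t, _, ⟨t1, t2⟩, t3, t4, m _ _ e, le_sup_left, ly, r.my⟩
    refine ⟨b⁻¹ * t, _, mul_mem (inv_mem (le_N hQ.le b1)) ⟨t1, t2⟩, by rwa [mul_mem_cancel_left (inv_mem b1)], ?_,
      mem_sup_left ?_, le_sup_left, lx, r.mx⟩
    · simpa [mul_assoc] using mul_mem (mul_mem (inv_mem b1) (conj_mem_of_mem_nz t2 (inv_mem b1))) t4
    · simpa [mul_assoc] using mul_mem (inv_mem ((((gen4 r.pg r.xS r.yS r.gen (hQ.le b1)).resolve_left b2).resolve_left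
        (n _ r.mx)).resolve_left (n _ r.my))) e
  have l := sup_le (inf_le_right.trans t5 : Q ⊓ fr F.S ≤ M) (zpowers_le.2 t4)
  obtain ⟨D, b, w, q, e, d1, d2⟩ := k.struct t1 t2 t3 (e0 ▸ meta_stab (r.pg.to_le (l.trans t6)) (H4.metacyclic_of_le t7 l)
    le_sup_left (mem_sup_right (mem_zpowers t)) (k4 t1) ⟨t3, sq_fr r.pg t1.1⟩ le_rfl) (e0 ▸ fr_le _) inf_le_left k3 k4 ha a2 g2
  exact r.fin2 q e hQ.lt hQ.centric.C_le t1.1 (fun s m n => by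
    simpa using k.l2 (inv_mem m) (inv_mem t1) (by rwa [inv_mem_iff]) (by rwa [inv_mem_iff])) d2
    fun h => d1 ⟨e ▸ mem_sup_right (mem_sup_left (mem_zpowers b)), h⟩

theorem s5217 {Ω : Type*} [Group Ω] {S : Subgroup Ω} [Finite S] (hS : IsPGroup 2 S)
    (hb : ∃ x y : S, ∀ g : S, ∃ i j : ℤ, g = x ^ i * y ^ j) (hm : ¬ IsMetacyclic S) :
    (∃ F : FusionSystem S, F.IsSaturated 2 ∧ ¬ ∀ P : Subgroup Ω, F.Hom P = (innerFusionSystem S).Hom P) ↔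
      IsCyclic (commutator S) := by
  obtain ⟨x, y, h⟩ := hb
  have hb : Bic x y := fun g => let ⟨i, j, e⟩ := h g; ⟨_, ⟨i, rfl⟩, _, ⟨j, rfl⟩, e⟩
  obtain ⟨N, θ, U⟩ := exists_urep S
  refine ⟨fun ⟨F, h1, h2⟩ => by_contra fun hc => h2 ((U.rep le_rfl F).inner_iff.2 ?_), fun hc => ?_⟩
  · let e := imEquiv U.inj (le_refl S)
    refine BS.eq_inner (bs_of (S := im θ S) (hS.of_equiv e) (hb.map e.toMonoidHom e.surjective)
      (fun k => hm (H4.metacyclic_of_surjective k e.symm.toMonoidHom e.symm.surjective)) fun k => hc ?_)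
      ((U.rep le_rfl F).sat hS h1)
    rw [show commutator (im θ S) = (commutator S).map e.toMonoidHom by
      rw [_root_.commutator_def, _root_.commutator_def, map_commutator, map_top_of_surjective _ e.surjective]] at k
    exact (MulEquiv.isCyclic (equivMapOfInjective _ _ e.injective)).2 k
  · obtain ⟨E, e1, e2, e3⟩ := of_cyc hS hb hc hm θ U.inj U.big.good
    obtain ⟨D, R, rfl⟩ := exists_pb U.inj E le_rfl (e1.trans (im_self θ).symm)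
    exact ⟨D, R.of_sat e2, fun k => e3 (e1 ▸ R.inner_iff.1 k)⟩

end H19.BF
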