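/-
S5161: orthogonal groups in odd characteristic (chunks OMd, OMt of notes/FK.md, giving OMo directly).
-/
import Cfsg.Agent.H27.FK0
import Cfsg.Agent.H11.OmegaBridge
import Cfsg.Agent.H12.ClassifyQuad

set_option autoImplicit false
set_option linter.unusedSectionVars false
set_option linter.unusedVariables false
set_option linter.unusedSimpArgs false

namespace H19.FK
open Cfsg Subgroup H25 H27.FK Function H12 QuadraticMap Module
open scoped commutatorElement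
attribute [-simp] QuadraticMap.polar_self

variable {F : Type} [Field F] {V : Type} [AddCommGroup V] [Module F V] {Q : QuadraticForm F V}
  {p j p' j' f p0 j0 : End F V} {c d : F} {g h : orth Q} {u v w u' v' : V}

/-- the operator of an isometry -/
def io (g : orth Q) : End F V := g.1
/-- conjugation of operators -/
def ka (g : orth Q) : End F V ≃ₐ[F] End F V := g.1.conjAlgEquiv F

@[simp] theorem io_apply (v : V) : io g v = g.1 v := rfl
theorem io_mul (g h : orth Q) : io (g * h) = io g * io h := rfl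
@[simp] theorem io_one : io (1 : orth Q) = 1 := rfl
theorem io_pow (g : orth Q) (n : ℕ) : io (g ^ n) = io g ^ n := by
  induction n with
  | zero => simp
  | succ n ih => rw [pow_succ, pow_succ, io_mul, ih]
theorem io_inj (e : io g = io h) : g = h := orth_ext fun x => LinearMap.congr_fun e x
theorem ka_apply (f : End F V) (v : V) : ka g f v = g.1 (f ((g⁻¹).1 v)) := rfl
theorem ka_mul (g h : orth Q) (f : End F V) : ka (g * h) f = ka g (ka h f) := rfl
@[simp] theorem ka_one (f : End F V) : ka (1 : orth Q) f = f := rfl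
theorem ka_io (g h : orth Q) : ka g (io h) = io (g * h * g⁻¹) := rfl
@[simp] theorem ka_inv (g : orth Q) (f : End F V) : ka g⁻¹ (ka g f) = f := by rw [← ka_mul, inv_mul_cancel, ka_one]
@[simp] theorem ka_inv' (g : orth Q) (f : End F V) : ka g (ka g⁻¹ f) = f := by rw [← ka_mul, mul_inv_cancel, ka_one]
theorem ka_mul_io (g : orth Q) (f : End F V) : ka g f * io g = io g * f := LinearMap.ext fun v => by
  simp [ka_apply, orth_inv_apply']
theorem ka_eq {f f' : End F V} : ka g f = f' ↔ io g * f = f' * io g :=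
  ⟨fun e => e ▸ (ka_mul_io g f).symm, fun e => LinearMap.ext fun v => by
    simpa only [End.mul_apply, io_apply, orth_inv_apply, ka_apply] using LinearMap.congr_fun e ((g⁻¹).1 v)⟩

variable (Q) in
/-- skew operators -/
def Sk (f : End F V) : Prop := ∀ v w, polar Q (f v) w = - polar Q v (f w)

theorem Sk.ka (h : Sk Q f) (g : orth Q) : Sk Q (ka g f) := fun v w => by
  rw [ka_apply, ka_apply, ← orth_polar_inv, h, ← orth_polar g, orth_inv_apply]

variable (Q) in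
/-- a block of dimension at most two: projection `p`, skew operator `j` -/
structure Blk (d : F) (p j : End F V) : Prop where
  d0 : d ≠ 0
  pp : p * p = p
  pj : p * j = j
  jp : j * p = j
  jjj : j * j * j = -(d • j)
  sk : Sk Q j
  l1 : ∀ f, Sk Q f → f * p = p * f → ∃ β : F, f * p = β • j
  l3 : ∀ f, f * p = p * f → f * j = j * f → ∃ α β : F, f * p = α • p + β • j

theorem Blk.l2 (b : Blk Q d p j) (b' : Blk Q d p' j') (e : ka g p = p') : ka g j = j' ∨ ka g j = -j' ∨ j = 0 := by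
  have e1 : ka g j * p' = ka g j := by rw [← e, ← map_mul, b.jp]
  obtain ⟨β, k⟩ := b'.l1 _ (b.sk.ka g) (by rw [e1, ← e, ← map_mul, b.pj])
  rw [e1] at k
  have e2 := congrArg (ka g) b.jjj
  simp only [map_mul, map_neg, map_smul, k, smul_mul_assoc, mul_smul_comm, b'.jjj, smul_neg, smul_smul, neg_inj] at e2
  rw [← sub_eq_zero, ← sub_smul, smul_eq_zero, show β * (β * β * d) - d * β = d * (β * ((β - 1) * (β + 1))) by ring] at e2
  simp only [mul_eq_zero, b.d0, false_or, sub_eq_zero, add_eq_zero_iff_eq_neg] at e2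
  rcases e2 with (rfl | rfl | rfl) | rfl <;> simp_all

theorem Blk.comm (b : Blk Q d p j) {f f' : End F V} (h1 : f * p = p * f) (h2 : f * j = j * f) (h3 : f' * p = p * f')
    (h4 : f' * j = j * f') : f * f' * p = f' * f * p := by
  obtain ⟨α, β, k⟩ := b.l3 f h1 h2
  obtain ⟨α', β', k'⟩ := b.l3 f' h3 h4
  have e : ∀ {f f' : End F V}, f' * p = p * f' → f * f' * p = (f * p) * (f' * p) := fun e => by
    rw [mul_assoc, mul_assoc, ← mul_assoc p, ← e, mul_assoc, b.pp]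
  rw [e h3, e h1, k, k']
  simp only [mul_add, add_mul, smul_mul_assoc, mul_smul_comm, b.pp, b.pj, b.jp, smul_smul]
  module

variable (Q) in
/-- `v ↦ (a, v) b` -/
def ol (a b : V) : End F V := (polarBilin Q a).smulRight b
@[simp] theorem ol_apply (a b v : V) : ol Q a b v = polar Q a v • b := rfl
variable (Q) in
/-- projection on a plane -/
def pl (d : F) (x y : V) : End F V := ol Q x x + d⁻¹ • ol Q y y
variable (Q) in
/-- rotation of a plane -/
def jl (x y : V) : End F V := ol Q x y - ol Q y x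
theorem pl_apply (x y v : V) : pl Q d x y v = polar Q x v • x + (d⁻¹ * polar Q y v) • y := by simp [pl, smul_smul]
theorem jl_apply (x y v : V) : jl Q x y v = polar Q x v • y - polar Q y v • x := rfl

theorem sk_self (h2 : (2 : F) ≠ 0) (h : Sk Q f) (v : V) : polar Q v (f v) = 0 := by
  have := h v v
  rw [polar_comm] at this
  exact (mul_eq_zero.1 (show 2 * polar Q v (f v) = 0 by linear_combination this)).resolve_left h2

theorem blk_plane (h2 : (2 : F) ≠ 0) (h1 : polar Q u u = 1) (h3 : polar Q w w = d) (d0 : d ≠ 0) (h4 : polar Q u w = 0) :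
    Blk Q d (pl Q d u w) (jl Q u w) := by
  have h5 : polar Q w u = 0 := by rwa [polar_comm]
  have pu : pl Q d u w u = u := by simp [pl_apply, *]
  have pw : pl Q d u w w = w := by simp [pl_apply, *]
  have ju : jl Q u w u = w := by simp [jl_apply, *]
  have fx : ∀ {f : End F V}, f * pl Q d u w = pl Q d u w * f → ∀ v, pl Q d u w v = v →
      f v = polar Q u (f v) • u + (d⁻¹ * polar Q w (f v)) • w := fun e v k => by
    simpa only [End.mul_apply, k, ← pl_apply] using LinearMap.congr_fun e v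
  refine ⟨d0, ?_, ?_, ?_, ?_, fun a b => ?_, fun f s e => ⟨d⁻¹ * polar Q w (f u), ?_⟩,
    fun f e e' => ⟨polar Q u (f u), d⁻¹ * polar Q w (f u), ?_⟩⟩
  any_goals ext v
  · rw [End.mul_apply, pl_apply u w v, map_add, map_smul, map_smul, pu, pw]
  · rw [End.mul_apply, jl_apply, map_sub, map_smul, map_smul, pu, pw]
  · simp [pl_apply, jl_apply, h1, h3, h4, h5, d0, mul_right_comm]
  · simp [pl_apply, jl_apply, h1, h3, h4, h5, d0]; module
  · simp [jl_apply, polar_comm Q a]; ring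
  · have a := fx e u pu
    have b := fx e w pw
    rw [sk_self h2 s, zero_smul, zero_add] at a
    rw [sk_self h2 s, mul_zero, zero_smul, add_zero, polar_comm, ← neg_neg (polar Q (f w) u), s, neg_neg] at b
    simp only [End.mul_apply, pl_apply, jl_apply, map_add, map_smul, LinearMap.smul_apply]
    generalize polar Q w (f u) = t at *
    rw [a, b]
    module
  · have a := fx e u pu
    have b : f w = jl Q u w (f u) := by simpa only [End.mul_apply, ju] using LinearMap.congr_fun e' u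
    rw [jl_apply] at b
    simp only [End.mul_apply, pl_apply, jl_apply, map_add, map_smul, LinearMap.smul_apply, LinearMap.add_apply]
    generalize polar Q w (f u) = t at *
    generalize polar Q u (f u) = r at *
    rw [a, b]
    module

theorem blk_line (h2 : (2 : F) ≠ 0) (h : polar Q u u = d) (d0 : d ≠ 0) : Blk Q 1 (d⁻¹ • ol Q u u) 0 := by
  have fx : ∀ {f : End F V}, f * (d⁻¹ • ol Q u u) = (d⁻¹ • ol Q u u) * f → f u = (d⁻¹ * polar Q u (f u)) • u := fun e => by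
    simpa [smul_smul, h, d0] using LinearMap.congr_fun e u
  refine ⟨one_ne_zero, ?_, by simp, by simp, by simp, fun a b => by simp, fun f s e => ⟨0, ?_⟩,
    fun f e _ => ⟨d⁻¹ * polar Q u (f u), 0, ?_⟩⟩ <;> ext v
  · simp [smul_smul, h, d0, mul_comm _ d, mul_assoc]
  · simp [show f u = 0 by simpa [sk_self h2 s] using fx e]
  · have a := fx e
    generalize d⁻¹ * polar Q u (f u) = r at *
    simp [a, smul_comm r]

theorem blk_zero : Blk Q 1 0 0 :=
  ⟨one_ne_zero, by simp, by simp, by simp, by simp, fun a b => by simp, fun _ _ _ => ⟨0, by simp⟩, fun _ _ _ => ⟨0, 0, by simp⟩⟩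

variable [FiniteDimensional F V] {α : Type} [Fintype α] [DecidableEq α] {x y : α → V} {a b k : α} {σ : Equiv.Perm α}

local notation "𝐩[" a "]" => pl Q 1 (x a) (y a)
local notation "𝐣[" a "]" => jl Q (x a) (y a)
local notation "Ω" => commutator (orth Q)

variable (Q) in
/-- orthonormal planes and a remaining block -/
structure Fr (x y : α → V) (p0 j0 : End F V) (d : F) : Prop where
  two : (2 : F) ≠ 0
  nd : QNondeg Q
  xx : ∀ a b, polar Q (x a) (x b) = if a = b then 1 else 0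
  yy : ∀ a b, polar Q (y a) (y b) = if a = b then 1 else 0
  xy : ∀ a b, polar Q (x a) (y b) = 0
  sum : ∑ a, pl Q 1 (x a) (y a) + p0 = 1
  blk : Blk Q d p0 j0
  ns : j0 = 0 ∨ ¬ IsSquare d
  thr : ∀ a b : α, ∃ c, c ≠ a ∧ c ≠ b
  ne : Nonempty α

theorem fix_conj {e : orth Q} {f f' : End F V} (h : ka g⁻¹ f = f' ∨ ka g⁻¹ f = -f') (k : ka e f' = f') :
    ka (g * e * g⁻¹) f = f := by
  rw [ka_mul, ka_mul]
  rcases h with h | h <;> simp [← h, (show ka e (ka g⁻¹ f) = ka g⁻¹ f by simp [h, k])]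

theorem ka_symm {f f' : End F V} (h : ka g f = f') : ka g⁻¹ f' = f := h ▸ ka_inv g f

namespace Fr
variable (r : Fr Q x y p0 j0 d)
include r

theorem yx (a b : α) : polar Q (y a) (x b) = 0 := by rw [polar_comm, r.xy]
theorem bl (a : α) : Blk Q 1 𝐩[a] 𝐣[a] := blk_plane r.two (by simp [r.xx]) (by simp [r.yy]) one_ne_zero (r.xy a a)
theorem px (a b : α) : 𝐩[a] (x b) = if a = b then x a else 0 := by simp [pl_apply, r.xx, r.yx]
theorem py (a b : α) : 𝐩[a] (y b) = if a = b then y a else 0 := by simp [pl_apply, r.yy, r.xy]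
theorem jx (a b : α) : 𝐣[a] (x b) = if a = b then y a else 0 := by simp [jl_apply, r.xx, r.yx]
theorem jy (a b : α) : 𝐣[a] (y b) = if a = b then -x a else 0 := by split_ifs <;> simp [jl_apply, r.yy, r.xy, *]
theorem pp (a b : α) : 𝐩[a] * 𝐩[b] = if a = b then 𝐩[a] else 0 := by
  ext v; rw [End.mul_apply, pl_apply (x b)]; split_ifs with e <;> simp [r.px, r.py, e, pl_apply (x b) (y b) v]
theorem pj (a b : α) : 𝐩[a] * 𝐣[b] = if a = b then 𝐣[a] else 0 := by
  ext v; rw [End.mul_apply, jl_apply (x b)]; split_ifs with e <;> simp [r.px, r.py, e, jl_apply (x b) (y b) v]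
theorem jp (a b : α) : 𝐣[a] * 𝐩[b] = if a = b then 𝐣[a] else 0 := by
  ext v; rw [End.mul_apply, pl_apply (x b)]; split_ifs with e <;> simp [r.jx, r.jy, e, jl_apply (x b) (y b) v, sub_eq_add_neg]
theorem jj (a b : α) : 𝐣[a] * 𝐣[b] = if a = b then -𝐩[a] else 0 := by
  ext v; rw [End.mul_apply, jl_apply (x b)]; split_ifs with e <;> simp [r.jx, r.jy, e, pl_apply (x b) (y b) v]; abel
theorem x0 (a : α) : x a ≠ 0 := fun e => by simpa [e] using r.xx a a
theorem p_ne (a : α) : 𝐩[a] ≠ 0 := fun e => r.x0 a (by simpa [r.px] using LinearMap.congr_fun e (x a))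
theorem p_inj (e : 𝐩[a] = 𝐩[b]) : a = b := by_contra fun n => r.p_ne a (by simpa [n, ← e, r.pp a a] using r.pp a b)
theorem j_ne (a : α) : 𝐣[a] ≠ 0 := fun e => r.p_ne a (by simpa [e] using r.jj a a)
theorem p0e : p0 = 1 - ∑ a, 𝐩[a] := eq_sub_of_add_eq' r.sum
theorem pp0 (a : α) : 𝐩[a] * p0 = 0 := by simp [r.p0e, mul_sub, Finset.mul_sum, r.pp]
theorem p0p (a : α) : p0 * 𝐩[a] = 0 := by simp [r.p0e, sub_mul, Finset.sum_mul, r.pp]
theorem cp0 (h : ∀ a, f * 𝐩[a] = 𝐩[a] * f) : f * p0 = p0 * f := by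
  simp [r.p0e, mul_sub, sub_mul, Finset.mul_sum, Finset.sum_mul, h]
theorem ext {f f' : End F V} (h : ∀ a, f * 𝐩[a] = f' * 𝐩[a]) (h0 : f * p0 = f' * p0) : f = f' := by
  rw [← mul_one f, ← mul_one f', ← r.sum]; simp [mul_add, Finset.mul_sum, h, h0]
theorem Qx (a : α) : Q (x a) = 2⁻¹ := eq_inv_of_mul_eq_one_right (by simp [← polar_self', r.xx])
theorem Qy (a : α) : Q (y a) = 2⁻¹ := eq_inv_of_mul_eq_one_right (by simp [← polar_self', r.yy])
theorem hf : (2⁻¹ : F) + 2⁻¹ = 1 := by have := r.two; field_simp; ring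
theorem Qxy (a : α) : Q (x a - y a) = 1 := by simp [Q_sub, r.Qx, r.Qy, r.xy, r.hf]
theorem rr (h : Q u = Q v) (h0 : Q u ≠ 0) : refl Q u * refl Q v ∈ Ω :=
  refl_mul_refl_mem_commutator r.nd h0 (h ▸ h0) ⟨_, by rw [h]⟩

theorem kj (e : ka g 𝐩[a] = 𝐩[b]) : ka g 𝐣[a] = 𝐣[b] ∨ ka g 𝐣[a] = -𝐣[b] :=
  ((r.bl a).l2 (r.bl b) e).imp_right (·.resolve_right (r.j_ne a))
theorem kj0 (e : ∀ a, ka g 𝐩[a] = 𝐩[σ a]) : ka g j0 = j0 ∨ ka g j0 = -j0 := by
  rcases r.blk.l2 r.blk (g := g) (by simp [r.p0e, e, Equiv.sum_comp σ fun a => 𝐩[a]]) with h | h | h <;> simp [h]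
theorem kp (e : ka g 𝐣[a] = 𝐣[a]) : ka g 𝐩[a] = 𝐩[a] := by
  have := congrArg (ka g) (r.jj a a)
  rw [map_mul, e] at this
  simpa [r.jj] using this.symm

variable (Q x y) in
/-- the rotation of one plane -/
def J (a : α) : orth Q := refl Q (x a - y a) * refl Q (y a)
theorem ioJ (a : α) : io (J Q x y a) = 1 - 𝐩[a] + 𝐣[a] := by
  ext v
  simp [J, orth_mul_apply, refl_apply, r.Qxy, r.Qy, pl_apply, jl_apply, r.xy, r.yy]
  module
/-- the rotation of two planes -/
def U (a b : α) : Ω := ⟨J Q x y a * J Q x y b, by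
  have := mul_mem (r.rr (u := x a - y a) (v := (refl Q (y a)).1 (x b - y b)) (by simp only [orth_Q, r.Qxy]) (by simp [r.Qxy]))
    (r.rr (u := y a) (v := y b) (by simp [r.Qy]) (by simp [r.Qy, r.two]))
  rw [← refl_conj] at this
  simpa [J, mul_assoc] using this⟩
theorem ioU (h : a ≠ b) : io (r.U a b).1 = 1 - 𝐩[a] - 𝐩[b] + 𝐣[a] + 𝐣[b] := by
  simp [U, io_mul, r.ioJ, mul_add, add_mul, mul_sub, sub_mul, r.pp, r.pj, r.jp, r.jj, h]; abel
theorem Up (h : a ≠ b) (k : α) : io (r.U a b).1 * 𝐩[k] = if k = a ∨ k = b then 𝐣[k] else 𝐩[k] := by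
  simp only [r.ioU h, add_mul, sub_mul, r.pp, r.jp]
  by_cases e : a = k <;> by_cases e' : b = k <;> simp_all [eq_comm]
theorem up (h : a ≠ b) (e : io (r.U a b).1 * 𝐩[k] = c • 𝐩[k]) : c = 1 := by
  rw [r.Up h] at e
  have e1 := congrArg (fun f : End F V => polar Q (x k) (f (x k))) e
  have e2 := congrArg (fun f : End F V => polar Q (y k) (f (x k))) e
  split_ifs at e1 e2
  · simp [r.px, r.jx, r.yy, r.yx] at e2
  · simpa [r.px, r.xx] using e1.symm
theorem cj3 (h : ∀ a b, a ≠ b → f * io (r.U a b).1 = io (r.U a b).1 * f) (a : α) : f * 𝐣[a] = 𝐣[a] * f := by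
  have k : ∀ a b, a ≠ b → Commute f ((2 : F) • (𝐣[a] + 𝐣[b])) := fun a b n => by
    have c : Commute f (io (r.U a b).1) := h a b n
    have := c.sub_right ((c.mul_right c).mul_right c)
    rwa [show _ - _ = (2 : F) • (𝐣[a] + 𝐣[b]) by
      simp [r.ioU n, mul_add, add_mul, mul_sub, sub_mul, r.pp, r.pj, r.jp, r.jj, n, n.symm, two_smul]; abel] at this
  obtain ⟨b, h1, -⟩ := r.thr a a
  obtain ⟨c, h2, h3⟩ := r.thr a b
  have := (((k a b h1.symm).add_right (k a c h2.symm)).sub_right (k b c h3.symm)).smul_right ((2 : F)⁻¹ * 2⁻¹)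
  have t := r.two
  rwa [show _ • _ = 𝐣[a] by match_scalars <;> field_simp <;> ring] at this

/-- the stabilizer of the decomposition -/
def N (r : Fr Q x y p0 j0 d) : Subgroup Ω where
  carrier := {g | ∃ σ : Equiv.Perm α, ∀ a, ka g.1 𝐩[a] = 𝐩[σ a]}
  one_mem' := ⟨1, fun _ => rfl⟩
  mul_mem' := fun ⟨σ, h⟩ ⟨τ, k⟩ => ⟨σ * τ, fun a => by rw [coe_mul, ka_mul, k, h]; rfl⟩
  inv_mem' := fun ⟨σ, h⟩ => ⟨σ⁻¹, fun a => ka_symm (by simpa using h (σ⁻¹ a))⟩
/-- the rotations -/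
def D (r : Fr Q x y p0 j0 d) : Subgroup Ω where
  carrier := {g | (∀ a, ka g.1 𝐣[a] = 𝐣[a]) ∧ ka g.1 j0 = j0}
  one_mem' := ⟨fun _ => rfl, rfl⟩
  mul_mem' := fun h k => ⟨fun a => by rw [coe_mul, ka_mul, k.1, h.1], by rw [coe_mul, ka_mul, k.2, h.2]⟩
  inv_mem' := fun h => ⟨fun a => ka_symm (h.1 a), ka_symm h.2⟩
/-- the action on the planes -/
noncomputable def pi : r.N →* Equiv.Perm α := MonoidHom.mk' (fun g => g.2.choose) fun g h => Equiv.ext fun a =>
  r.p_inj (by rw [← (g * h).2.choose_spec, Equiv.Perm.mul_apply, ← g.2.choose_spec, ← h.2.choose_spec]; rfl)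
theorem pi_spec (g : r.N) (a : α) : ka g.1.1 𝐩[a] = 𝐩[r.pi g a] := g.2.choose_spec a
theorem pi_eq (g : r.N) (h : ∀ a, ka g.1.1 𝐩[a] = 𝐩[σ a]) : r.pi g = σ := Equiv.ext fun a => r.p_inj (by rw [← r.pi_spec, h])
theorem DN : r.D ≤ r.N := fun g h => ⟨1, fun a => r.kp (h.1 a)⟩
theorem nD : r.N ≤ nz r.D := fun g hg => by
  have k : ∀ g ∈ r.N, ∀ e ∈ r.D, g * e * g⁻¹ ∈ r.D := fun g hg e he =>
    let ⟨σ, h⟩ := inv_mem hg; ⟨fun a => fix_conj (r.kj (h a)) (he.1 _), fix_conj (r.kj0 h) he.2⟩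
  exact mem_normalizer_iff.2 fun e => ⟨k g hg e, fun h => by simpa [mul_assoc] using k _ (inv_mem hg) _ h⟩
theorem Dc {g h : Ω} (hg : g ∈ r.D) (hh : h ∈ r.D) : g * h = h * g := Subtype.ext (io_inj (by
  have k : ∀ g ∈ r.D, ∀ a, io g.1 * 𝐩[a] = 𝐩[a] * io g.1 := fun g hg a => ka_eq.1 (r.kp (hg.1 a))
  exact r.ext (fun a => (r.bl a).comm (k g hg a) (ka_eq.1 (hg.1 a)) (k h hh a) (ka_eq.1 (hh.1 a)))
    (r.blk.comm (r.cp0 (k g hg)) (ka_eq.1 hg.2) (r.cp0 (k h hh)) (ka_eq.1 hh.2))))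
theorem UD (a b : α) : r.U a b ∈ r.D := by
  have k : ∀ f : End F V, (∀ a, 𝐩[a] * f = f * 𝐩[a]) → (∀ a, 𝐣[a] * f = f * 𝐣[a]) → ka (r.U a b).1 f = f := fun f h1 h2 => by
    have : ∀ a, ka (J Q x y a) f = f := fun a => ka_eq.2 (by simp [r.ioJ, mul_add, add_mul, mul_sub, sub_mul, h1, h2])
    simp [U, ka_mul, this]
  have e1 : ∀ a, 𝐩[a] * j0 = 0 := fun a => by rw [← r.blk.pj, ← mul_assoc, r.pp0, zero_mul]
  have e2 : ∀ a, j0 * 𝐩[a] = 0 := fun a => by rw [← r.blk.jp, mul_assoc, r.p0p, mul_zero]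
  refine ⟨fun c => k _ (fun a => ?_) fun a => ?_, k _ (fun a => by rw [e1, e2]) fun a => ?_⟩
  · by_cases e : a = c <;> simp [r.pj, r.jp, e, @eq_comm _ c a]
  · by_cases e : a = c <;> simp [r.jj, e, @eq_comm _ c a]
  · rw [← (r.bl a).jp, mul_assoc, e1, (r.bl a).jp, ← (r.bl a).pj, ← mul_assoc, e2, mul_zero, zero_mul]

theorem cU {g : Ω} (h : ∀ a, ka g.1 𝐣[a] = 𝐣[a]) (a b : α) : g * r.U a b = r.U a b * g := Subtype.ext (io_inj (by
  have : ∀ a, ka g.1 (io (J Q x y a)) = io (J Q x y a) := fun a => by simp [r.ioJ, h, r.kp (h a)]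
  exact (ka_eq (f := io (r.U a b).1) (f' := io (r.U a b).1)).1 (by simp [U, io_mul, this])))

theorem nb1 {h : Ω} (hN : h ∈ r.N) (c : ∀ a b, a ≠ b → Commute h ⁅h, r.U a b⁆) (a : α) : ka h.1 𝐩[a] = 𝐩[a] := by
  obtain ⟨σ, hσ⟩ := hN
  by_contra n
  have n1 : σ a ≠ a := fun e => n (by rw [hσ, e])
  obtain ⟨k, h1, h2⟩ := r.thr a (σ a)
  have e1 : ka h.1 (io (r.U a k).1) = io ⁅h, r.U a k⁆.1 * io (r.U a k).1 := by
    rw [ka_io, ← io_mul]; simp [commutatorElement_def]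
  have e2 : ka h.1 (io ⁅h, r.U a k⁆.1) = io ⁅h, r.U a k⁆.1 := ka_eq.2 (congrArg (fun g : Ω => io g.1) (c a k h1.symm))
  generalize io ⁅h, r.U a k⁆.1 = E at *
  have e3 : E * 𝐩[a] = 𝐣[a] := (ka h.1).injective (by
    have := congrArg (ka h.1) (r.Up h1.symm a)
    rw [map_mul, e1, hσ, mul_assoc, r.Up h1.symm, if_neg (by tauto), if_pos (.inl rfl)] at this
    rw [map_mul, e2, hσ, this])
  have e4 : io (r.U a k).1 * 𝐩[σ⁻¹ a] = (-1 : F) • 𝐩[σ⁻¹ a] := (ka h.1).injective (by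
    rw [map_mul, map_smul, hσ, e1, mul_assoc, show σ (σ⁻¹ a) = a by simp, r.Up h1.symm, if_pos (.inl rfl), ← (r.bl a).pj,
      ← mul_assoc, e3, r.jj, if_pos rfl, neg_one_smul])
  exact r.two (by linear_combination -r.up h1.symm e4)

theorem nb2 {g : Ω} (h : ∀ a k, ka g.1 𝐣[a] * 𝐩[k] = 𝐩[k] * ka g.1 𝐣[a]) : g ∈ r.N := by
  have pj : ∀ a, ka g.1 𝐩[a] = -(ka g.1 𝐣[a] * ka g.1 𝐣[a]) := fun a => by simp [← map_mul, r.jj]
  have cu : ∀ a {p j : End F V} {d β : F}, Blk Q d p j → ka g.1 𝐣[a] * p = p * ka g.1 𝐣[a] → ka g.1 𝐣[a] * p = β • j →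
      (β * (β * β * d - 1)) • j = 0 ∧ ka g.1 𝐩[a] * p = -((β * β) • (j * j)) := fun a p j d β b e k => by
    have e1 : ka g.1 𝐣[a] * j = β • (j * j) := by rw [← smul_mul_assoc, ← k, mul_assoc, b.pj]
    have e2 : ka g.1 𝐩[a] * p = -((β * β) • (j * j)) := by rw [pj, neg_mul, mul_assoc, k, mul_smul_comm, e1, smul_smul]
    have e3 : ka g.1 𝐩[a] * p * (ka g.1 𝐣[a] * p) = ka g.1 𝐣[a] * p := by
      rw [mul_assoc, ← mul_assoc p, ← e, mul_assoc, b.pp, ← mul_assoc, ← map_mul, (r.bl a).pj]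
    rw [e2, k, neg_mul, smul_mul_assoc, mul_smul_comm, b.jjj] at e3
    exact ⟨by linear_combination (norm := module) e3, e2⟩
  have z : ∀ a, ka g.1 𝐩[a] * p0 = 0 := fun a => by
    have e := r.cp0 (h a)
    obtain ⟨β, k⟩ := r.blk.l1 _ ((r.bl a).sk.ka g.1) e
    have := (cu a r.blk e k).1
    rw [pj, neg_mul, mul_assoc, k, show β • j0 = 0 from ?_, mul_zero, neg_zero]
    rcases smul_eq_zero.1 this with e | e
    · rcases mul_eq_zero.1 e with e | e
      · simp [e]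
      · have b0 : β ≠ 0 := by rintro rfl; simp at e
        simp [r.ns.resolve_right fun n => n ⟨β⁻¹, by field_simp; linear_combination e⟩]
    · simp [e]
  have di : ∀ a k, ka g.1 𝐩[a] * 𝐩[k] = 0 ∨ ka g.1 𝐩[a] * 𝐩[k] = 𝐩[k] := fun a k => by
    obtain ⟨β, e⟩ := (r.bl k).l1 _ ((r.bl a).sk.ka g.1) (h a k)
    obtain ⟨e1, e2⟩ := cu a (r.bl k) (h a k) e
    rcases mul_eq_zero.1 ((smul_eq_zero.1 e1).resolve_right (r.j_ne k)) with e | e
    · simp [e2, e]
    · simp [e2, r.jj, show β * β = 1 by linear_combination e]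
  have ex : ∀ a, ∃ k, ka g.1 𝐩[a] * 𝐩[k] = 𝐩[k] := fun a => by_contra fun n => r.p_ne a ((ka g.1).injective
    (r.ext (fun k => by simpa using (di a k).resolve_right fun e => n ⟨k, e⟩) (by simp [z])))
  have un : ∀ a b k, ka g.1 𝐩[a] * 𝐩[k] = 𝐩[k] → ka g.1 𝐩[b] * 𝐩[k] = 𝐩[k] → a = b := fun a b k e1 e2 => by_contra fun n =>
    r.p_ne k (by rw [← e1, ← e2, ← mul_assoc, ← map_mul, r.pp, if_neg n, map_zero, zero_mul])
  choose s hs using ex
  have i : Injective s := fun a b e => un a b _ (hs a) (e ▸ hs b)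
  refine ⟨.ofBijective s i.bijective_of_finite, fun a => r.ext (fun k => ?_) (by rw [z, r.pp0])⟩
  obtain ⟨b, rfl⟩ := i.surjective_of_finite (Equiv.refl _) k
  rw [r.pp, Equiv.ofBijective_apply]
  split_ifs with e
  · rw [← e, hs]
  · exact (di _ _).resolve_right fun k => e (congrArg s (un _ _ _ k (hs b)))

theorem nb {X : Subgroup Ω} (h1 : ∀ a b, a ≠ b → r.U a b ∈ X) (h2 : X ≤ r.N) : nz X ≤ r.N := fun g hg => r.nb2 fun a k => by
  suffices e : ka g.1⁻¹ 𝐩[k] * 𝐣[a] = 𝐣[a] * ka g.1⁻¹ 𝐩[k] by simpa using (congrArg (ka g.1) e).symm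
  refine r.cj3 (fun a b n => (ka_eq.1 ((ka g.1).injective ?_)).symm) a
  rw [← ka_mul, ka_inv']
  have := r.nb1 (h2 (conj_mem_of_mem_nz hg (h1 a b n))) (fun a' b' n' => ?_) k
  · rwa [coe_mul, ka_mul] at this
  have m := conj_mem_of_mem_nz (r.nD (h2 (conj_mem_of_mem_nz' hg (h1 a' b' n')))) (inv_mem (r.UD a b))
  have c := congrArg (fun t => g * t * g⁻¹) (r.Dc (r.UD a b) (mul_mem (r.UD a b) m))
  simpa [commutatorElement_def, Commute, SemiconjBy, mul_assoc] using c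

theorem odd_fix (hn : Odd (orderOf g)) (h : ka g f = f ∨ ka g f = -f) : ka g f = f := h.elim id fun h => by
  have k : ∀ n : ℕ, ka (g ^ n) f = (-1 : F) ^ n • f := fun n => by
    induction n with
    | zero => simp
    | succ n ih => rw [pow_succ', ka_mul, ih, map_smul, h, pow_succ]; simp
  have := k (orderOf g)
  rw [pow_orderOf_eq_one, hn.neg_one_pow, ka_one, neg_one_smul] at this
  rw [h, ← this]

theorem KD {g h : r.N} (e : r.pi g = 1) (e' : r.pi h = 1) : ⁅g.1, h.1⁆ ∈ r.D := by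
  have k : ∀ {f : End F V}, (∀ g : r.N, r.pi g = 1 → ka g.1.1 f = f ∨ ka g.1.1 f = -f) → ka ⁅g.1, h.1⁆.1 f = f := fun k => by
    have n : ∀ {g : orth Q} {f : End F V}, ka g f = -f → ka g⁻¹ f = -f := fun h => ka_symm (by simp [h])
    rcases k g e with a | a <;> rcases k h e' with b | b
    exacts [by simp [commutatorElement_def, ka_mul, a, b, ka_symm a, ka_symm b], by simp [commutatorElement_def, ka_mul, a, b, ka_symm a, n b],
      by simp [commutatorElement_def, ka_mul, a, b, n a, ka_symm b], by simp [commutatorElement_def, ka_mul, a, b, n a, n b]]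
  exact ⟨fun a => k fun g e => r.kj (by simpa [e] using r.pi_spec g a), k fun g _ => r.kj0 (r.pi_spec g)⟩

theorem two' [Finite Ω] (S : Sylow 2 Ω) (g : r.N) (hS : S.1 ≤ r.N) (h1 : g.1 ∈ nz S.1) (o : Odd (orderOf g.1)) (e : r.pi g = 1) :
    g.1 ∈ cz S.1 := fun s hs => by
  have o' : Odd (orderOf g.1.1) := by rwa [Subgroup.orderOf_coe]
  have m : g.1 ∈ r.D := ⟨fun a => r.odd_fix o' (r.kj (by simpa [e] using r.pi_spec g a)), r.odd_fix o' (r.kj0 (r.pi_spec g))⟩
  have c : Commute (s * g.1 * s⁻¹) g.1⁻¹ := r.Dc (conj_mem_of_mem_nz (r.nD (hS hs)) m) (inv_mem m)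
  have e1 : (s * g.1 * s⁻¹ * g.1⁻¹) ^ orderOf g.1 = 1 := by
    rw [c.mul_pow, conj_pow, inv_pow, pow_orderOf_eq_one]; simp
  obtain ⟨n, e2⟩ := S.isPGroup' ⟨_, mul_mem hs (conj_mem_of_mem_nz h1 (inv_mem hs))⟩
  have e3 : (s * g.1 * s⁻¹ * g.1⁻¹) ^ 2 ^ n = 1 := by simpa [mul_assoc] using congrArg Subtype.val e2
  have := pow_gcd_eq_one.2 ⟨e1, e3⟩
  rwa [Nat.Coprime.pow_right n o.coprime_two_right, pow_one, mul_inv_eq_one, mul_inv_eq_iff_eq_mul] at this

omit r in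
theorem rf_comm (h : polar Q u v = 0) : refl Q u * refl Q v = refl Q v * refl Q u := by
  rw [← mul_inv_eq_iff_eq_mul, refl_conj, refl_apply_of_orth h]
omit r in
theorem rf_neg (v : V) : refl Q (-v) = refl Q v := by simpa using refl_smul (Q := Q) (c := -1) (by simp) v

theorem rc (h : Q u = Q v) (h0 : Q u ≠ 0) :
    ∃ z, Q z ≠ 0 ∧ (z = u - v ∨ z = u + v) ∧ ((refl Q z).1 u = v ∨ (refl Q z).1 u = -v) := by
  by_cases e : Q (u - v) = 0
  · have e' : Q (u - -v) ≠ 0 := fun e' => h0 (by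
      rw [Q_sub] at e e'
      rw [QuadraticMap.map_neg, polar_neg_right] at e'
      have := r.two
      exact (mul_eq_zero.1 (show (2 * 2) * Q u = 0 by linear_combination e + e' + 2 * h)).resolve_left (mul_ne_zero this this))
    exact ⟨_, e', .inr (sub_neg_eq_add u v), .inr (refl_sub_apply (by simpa using h) e')⟩
  · exact ⟨_, e, .inl rfl, .inl (refl_sub_apply h e)⟩

variable [Finite F]

theorem exq (a : α) (e : F) : ∃ s t : F, Q (s • x a + t • y a) = e := by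
  obtain ⟨s, t, h⟩ := exists_sq_add_sq r.two (inv_ne_zero r.two) (inv_ne_zero r.two) e
  exact ⟨s, t, by simp [Q_add, Q_smul, r.Qx, r.Qy, r.xy, h]⟩

variable (Q) in
/-- `-1` on a plane of square discriminant -/
def Ev (e : Ω) : Prop := ∃ u v, Q u = Q v ∧ Q u ≠ 0 ∧ polar Q u v = 0 ∧ e.1 = refl Q u * refl Q v

omit r in
theorem Ev.sq {e : Ω} (h : Ev Q e) : e * e = 1 := Subtype.ext (by
  obtain ⟨u, v, -, -, h, k⟩ := h
  rw [coe_mul, k, mul_assoc, ← mul_assoc (refl Q v), ← rf_comm h, mul_assoc, refl_mul_self, mul_one, refl_mul_self, coe_one])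

theorem ev_std (a : α) {e : Ω} (h : Ev Q e) : IsConj (⟨_, r.rr ((r.Qx a).trans (r.Qy a).symm) (by simp [r.Qx, r.two])⟩ : Ω) e := by
  obtain ⟨u, v, h1, h2, h3, k⟩ := h
  have h4 : polar Q v u = 0 := by rwa [polar_comm]
  obtain ⟨s, t, e1⟩ := exists_sq_add_sq r.two h2 h2 2⁻¹
  have q1 : Q (s • u + t • v) = 2⁻¹ := by simp [Q_add, Q_smul, h3, ← h1, e1]
  have q2 : Q (s • v - t • u) = 2⁻¹ := by simp [Q_sub, Q_smul, h4, ← h1, e1]
  have o : polar Q (s • u + t • v) (s • v - t • u) = 0 := by simp [h3, h4, polar_self', h1]; ring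
  have e2 : refl Q u * refl Q v = refl Q (s • u + t • v) * refl Q (s • v - t • u) := orth_ext fun z => by
    have := r.two
    have e3 : (Q u)⁻¹ = 2 * (s * s + t * t) := by field_simp; field_simp at e1; linear_combination -e1
    simp only [orth_mul_apply, refl_apply, q1, q2, ← h1, polar_sub_right, polar_smul_right, o, h3]
    simp only [e3, polar_add_left, polar_sub_left, polar_smul_left, smul_eq_mul, inv_inv]
    module
  rw [e2] at k
  generalize s • u + t • v = u' at *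
  generalize s • v - t • u = v' at *
  have n : Q (x a) ≠ 0 := by simp [r.Qx, r.two]
  obtain ⟨z, z0, -, z1⟩ := r.rc ((r.Qx a).trans q1.symm) n
  obtain ⟨z', z0', z2, z3⟩ := r.rc (u := (refl Q z).1 (y a)) (v := v') (by rw [orth_Q, r.Qy, q2]) (by simp [orth_Q, r.Qy, r.two])
  have o1 : polar Q ((refl Q z).1 (y a)) u' = 0 := by
    have := orth_polar (refl Q z) (y a) (x a)
    rcases z1 with k | k <;> simpa [k, r.yx] using this
  have o2 : (refl Q z').1 u' = u' := refl_apply_of_orth (by rcases z2 with k | k <;> simp [k, o1, polar_comm Q v', o])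
  obtain ⟨b, n1, -⟩ := r.thr a a
  obtain ⟨s1, t1, w1⟩ := r.exq b (Q z)
  obtain ⟨s2, t2, w2⟩ := r.exq b (Q z')
  have m := mul_mem ((inferInstance : (Ω).Normal).conj_mem _ (r.rr w1.symm z0) (refl Q z')) (r.rr w2.symm z0')
  have f1 : ∀ s t : F, (refl Q (s • x b + t • y b)).1 (x a) = x a := fun s t => refl_apply_of_orth (by simp [r.xx, r.yx, n1])
  have f2 : ∀ s t : F, (refl Q (s • x b + t • y b)).1 (y a) = y a := fun s t => refl_apply_of_orth (by simp [r.yy, r.xy, n1])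
  refine isConj_iff.2 ⟨⟨_, m⟩, Subtype.ext ?_⟩
  rw [k, coe_mul, coe_mul, coe_inv, ← conj_mul, refl_conj, refl_conj]
  simp only [orth_mul_apply, orth_inv_apply', f1, f2]
  rcases z1 with k | k <;> rcases z3 with k' | k' <;> simp only [k, k', map_neg, o2, rf_neg]

theorem ev_cl {T : Subgroup Ω} {e e' : Ω} (h : Ev Q e) (h' : Ev Q e') (m : e ∈ Cl T) : e' ∈ Cl T :=
  let ⟨a⟩ := r.ne; cl_isConj m ((r.ev_std a h).symm.trans (r.ev_std a h'))

variable [Finite (commutator (orth Q))] {S : Sylow 2 (commutator (orth Q))} {T : Subgroup (commutator (orth Q))} {t : commutator (orth Q)}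

theorem b2 (hT : SCl S T) (m : t ∈ Cl T) (tt : t * t = 1) (c1 : c = 1 ∨ c = -1) (n : a ≠ b)
    (h1 : ∀ k, k = a ∨ k = b → t.1.1 (x k) = c • x k ∧ t.1.1 (y k) = c • y k) (h2 : t.1.1 u = -c • u) (h0 : Q u ≠ 0) :
    ∃ e ∈ Cl T, Ev Q e := by
  have o : ∀ v, t.1.1 v = c • v → polar Q u v = 0 := fun v e => by
    have := orth_polar t.1 u v
    rw [h2, e, polar_smul_left, polar_smul_right] at this
    refine (mul_eq_zero.1 (?_ : 2 * polar Q u v = 0)).resolve_left r.two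
    rcases c1 with rfl | rfl <;> simp at this <;> linear_combination -this
  have f : ∀ k, k = a ∨ k = b → ∀ s s' : F, t.1.1 (s • x k + s' • y k) = c • (s • x k + s' • y k) := fun k e s s' => by
    simp [h1 k e, smul_comm c]
  obtain ⟨s1, t1, w1⟩ := r.exq a (Q u)
  obtain ⟨s2, t2, w2⟩ := r.exq b (2 * Q u)
  have f1 := f a (.inl rfl) s1 t1
  have f2 := f b (.inr rfl) s2 t2
  generalize s1 • x a + t1 • y a = v at *
  generalize s2 • x b + t2 • y b = w at *
  have q1 : Q (u - v) = 2 * Q u := by rw [Q_sub, o v f1, w1]; ring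
  have q2 : Q (u + v) = 2 * Q u := by rw [Q_add, o v f1, w1]; ring
  have q0 := mul_ne_zero r.two h0
  have c0 : c ≠ 0 := by rcases c1 with rfl | rfl <;> simp
  let k : Ω := ⟨_, r.rr (q1.trans w2.symm) (q1 ▸ q0)⟩
  have e : Ev Q (t * (k * t * k⁻¹)) := ⟨u + v, u - v, q2.trans q1.symm, q2 ▸ q0, by
    simp [polar_self', w1, polar_comm Q v u, add_comm], by
      have : t.1 * k.1 * t.1⁻¹ = refl Q (u + v) * refl Q w := by
        rw [← conj_mul, refl_conj, refl_conj, f2, map_sub, h2, f1, neg_smul, ← neg_add', ← smul_add, rf_neg, refl_smul c0, refl_smul c0]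
      rw [inv_eq_of_mul_eq_one_right (congrArg Subtype.val tt)] at this
      rw [coe_mul, coe_mul, coe_mul, ← mul_assoc, ← mul_assoc, this, coe_inv, mul_inv_rev, mul_assoc, mul_inv_cancel_left, refl_inv]⟩
  exact ⟨_, cl_dih hT tt (by rw [conj_mul, tt]; simp) (n := 1) (by simpa [pow_two] using e.sq) m (cl_conj m k), e⟩

theorem b3 (hT : SCl S T) (m : t ∈ Cl T) (tt : t * t = 1)
    (h1 : ∀ k, ∃ c : F, (c = 1 ∨ c = -1) ∧ t.1.1 (x k) = c • x k ∧ t.1.1 (y k) = c • y k) (ns : ∀ c : F, io t.1 ≠ c • 1) :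
    ∃ e ∈ Cl T, Ev Q e := by
  choose s s1 s2 using h1
  obtain ⟨a, b, n, e⟩ : ∃ a b, a ≠ b ∧ s a = s b := by
    obtain ⟨a⟩ := r.ne
    obtain ⟨b, n1, -⟩ := r.thr a a
    obtain ⟨c, n2, n3⟩ := r.thr a b
    rcases s1 a with e1 | e1 <;> rcases s1 b with e2 | e2 <;> rcases s1 c with e3 | e3 <;>
      first | exact ⟨b, a, n1, e2.trans e1.symm⟩ | exact ⟨c, a, n2, e3.trans e1.symm⟩ | exact ⟨c, b, n3, e3.trans e2.symm⟩
  by_contra no
  have q : ∀ u, t.1.1 u = -s a • u → Q u = 0 := fun u h => by_contra fun h0 =>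
    no (r.b2 hT m tt (s1 a) n (by rintro _ (rfl | rfl); exacts [s2 _, e ▸ s2 _]) h h0)
  have cc : s a * s a = 1 := by rcases s1 a with e | e <;> simp [e]
  have t2 : ∀ z, t.1.1 (t.1.1 z) = z := fun z => congrArg (fun g : Ω => g.1.1 z) tt
  have ev : ∀ z, t.1.1 (z - s a • t.1.1 z) = -s a • (z - s a • t.1.1 z) := fun z => by
    simp only [map_sub, map_smul, t2, smul_sub, smul_smul, neg_mul, cc]; module
  refine ns (s a) (LinearMap.ext fun v => ?_)
  have z : v - s a • t.1.1 v = 0 := r.nd _ fun z => by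
    have e1 := Q_add Q (v - s a • t.1.1 v) (z - s a • t.1.1 z)
    rw [q _ (ev v), q _ (ev z), q _ (by rw [map_add, ev, ev, smul_add])] at e1
    have e2 := orth_polar t.1 (v - s a • t.1.1 v) z
    rw [ev] at e2
    generalize v - s a • t.1.1 v = w at *
    simp only [polar_sub_right, polar_smul_right, polar_smul_left, smul_eq_mul] at e1 e2
    exact (mul_eq_zero.1 (show 2 * polar Q w z = 0 by linear_combination (-1 : F) * e1 - e2)).resolve_left r.two
  simpa [smul_smul, cc] using congrArg (s a • ·) (sub_eq_zero.1 z).symm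

theorem b1 (hT : SCl S T) (m : t ∈ Cl T) (h1 : ∀ a, ka t.1 𝐣[a] = 𝐣[a]) (ns : ∀ c : F, io t.1 ≠ c • 1) :
    ∃ e ∈ Cl T, Ev Q e := by
  obtain ⟨n, hn⟩ := cl_pel hT m
  induction n generalizing t with
  | zero => exact (ns 1 (by simp [show t = 1 by simpa using hn])).elim
  | succ n ih =>
  by_cases sc : ∀ c : F, io (t ^ 2).1 ≠ c • 1
  · exact ih (cl_pow m 2) (fun a => by simp [pow_two, ka_mul, h1]) sc (by rwa [← pow_mul, ← pow_succ'])
  simp only [not_forall, not_not] at sc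
  obtain ⟨c, sc⟩ := sc
  have t2 : ∀ z, t.1.1 (t.1.1 z) = c • z := fun z => by simpa [pow_two] using LinearMap.congr_fun sc z
  have key : ∀ k, ∃ s s' : F, t.1.1 (x k) = s • x k + s' • y k ∧ t.1.1 (y k) = s • y k - s' • x k ∧
      s * s + s' * s' = 1 ∧ s * s - s' * s' = c := fun k => by
    obtain ⟨s, s', e⟩ := (r.bl k).l3 _ (ka_eq.1 (r.kp (h1 k))) (ka_eq.1 (h1 k))
    have e1 : t.1.1 (x k) = s • x k + s' • y k := by simpa [r.px, r.jx] using LinearMap.congr_fun e (x k)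
    have e2 : t.1.1 (y k) = s • y k - s' • x k := by simpa [r.py, r.jy, sub_eq_add_neg] using LinearMap.congr_fun e (y k)
    refine ⟨s, s', e1, e2, by simpa [e1, r.xx, r.yy, r.xy, r.yx] using orth_polar t.1 (x k) (x k), ?_⟩
    simpa [e1, e2, r.xx, r.xy, sub_eq_add_neg] using congrArg (polar Q (x k)) (t2 (x k))
  obtain ⟨a⟩ := r.ne
  have cc : c * c = 1 := by simpa [pow_two, t2, r.xx] using orth_polar (t.1 * t.1) (x a) (x a)
  have h0 : ∀ {s : F}, 2 * (s * s) = 0 → s = 0 := fun e => mul_self_eq_zero.1 ((mul_eq_zero.1 e).resolve_left r.two)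
  rcases mul_self_eq_one_iff.1 cc with rfl | rfl
  · refine r.b3 hT m (Subtype.ext (io_inj (by simpa [pow_two] using sc))) (fun k => ?_) ns
    obtain ⟨s, s', e1, e2, e3, e4⟩ := key k
    obtain rfl : s' = 0 := h0 (by linear_combination e3 - e4)
    exact ⟨s, mul_self_eq_one_iff.1 (by simpa using e3), by simpa using e1, by simpa using e2⟩
  have k2 : ∀ k, t.1 * refl Q (x k) * t.1⁻¹ = refl Q (y k) ∧ t.1 * refl Q (y k) * t.1⁻¹ = refl Q (x k) := fun k => by
    obtain ⟨s, s', e1, e2, e3, e4⟩ := key k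
    obtain rfl : s = 0 := h0 (by linear_combination e3 + e4)
    have : s' ≠ 0 := by rintro rfl; simp at e3
    simp [refl_conj, e1, e2, rf_neg, refl_smul this]
  obtain ⟨b, n1, -⟩ := r.thr a a
  obtain ⟨k, n2, n3⟩ := r.thr a b
  have q : ∀ a, Q (x a) ≠ 0 ∧ Q (y a) ≠ 0 := fun a => by simp [r.Qx, r.Qy, r.two]
  let A : Ω := ⟨_, r.rr ((r.Qx a).trans (r.Qx b).symm) (q a).1⟩
  let B : Ω := ⟨_, r.rr ((r.Qy a).trans (r.Qy b).symm) (q a).2⟩
  have AA : A * A = 1 := Ev.sq ⟨_, _, (r.Qx a).trans (r.Qx b).symm, (q a).1, by simp [r.xx, n1.symm], rfl⟩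
  have BB : B * B = 1 := Ev.sq ⟨_, _, (r.Qy a).trans (r.Qy b).symm, (q a).2, by simp [r.yy, n1.symm], rfl⟩
  have AB : Commute A B := Subtype.ext (Commute.mul_left (Commute.mul_right (rf_comm (r.xy a a)) (rf_comm (r.xy a b)))
    (Commute.mul_right (rf_comm (r.xy b a)) (rf_comm (r.xy b b))))
  have e1 : t * A * t⁻¹ = B := Subtype.ext (by simp [A, B, ← (k2 _).1])
  have e2 : t * B * t⁻¹ = A := Subtype.ext (by simp [A, B, ← (k2 _).2])
  have e3 : t * (A * t⁻¹ * A⁻¹) = A * B := by rw [← mul_assoc, ← mul_assoc, e1, inv_eq_of_mul_eq_one_right AA, AB.eq]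
  have m' := cl_mul_comm hT (show Commute t (A * t⁻¹ * A⁻¹) from e3.trans (by
    rw [inv_eq_of_mul_eq_one_right AA, ← e2]; simp only [e2, mul_assoc]; simp [← e2, mul_assoc])) m (cl_conj (cl_inv m) A)
  rw [e3] at m'
  refine r.b2 (c := -1) (u := x k) hT m' (by rw [← pow_two, AB.mul_pow, pow_two, pow_two, AA, BB, one_mul]) (.inr rfl) n1.symm ?_ ?_ (q k).1
  · rintro _ (rfl | rfl) <;>
    simp [A, B, orth_mul_apply, refl_apply, r.Qx, r.Qy, r.xx, r.yy, r.xy, r.yx, n1, n1.symm, two_smul]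
  · simp [A, B, orth_mul_apply, refl_apply, r.xx, r.yx, n2.symm, n3.symm]

theorem b0 (hT : SCl S T) (h1 : ∀ a b, a ≠ b → r.U a b ∈ S) (h2 : S.1 ≤ r.N) (h3 : ¬ T ≤ center Ω) {e : Ω} (he : Ev Q e) :
    e ∈ Cl T := by
  suffices ∃ e ∈ Cl T, Ev Q e from let ⟨_, a, b⟩ := this; r.ev_cl b he a
  obtain ⟨s, sT, sn⟩ := SetLike.not_le_iff_exists.1 h3
  by_cases h : ∀ a b, a ≠ b → ∃ c : F, io ⁅s, r.U a b⁆.1 = c • 1
  · refine r.b1 hT (cl_of sT) (fun a => ka_eq.2 (r.cj3 (fun a b n => ka_eq.1 ?_) a)) fun c e => sn (mem_center_iff.2 fun g =>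
      Subtype.ext (io_inj (by simp [io_mul, e])))
    obtain ⟨c, e⟩ := h a b n
    obtain ⟨σ, hσ⟩ := h2 (hT.1 sT)
    obtain ⟨k, n1, n2⟩ := r.thr a b
    have e1 : ka s.1 (io (r.U a b).1) = c • io (r.U a b).1 := by
      rw [ka_io, ← one_mul (io (r.U a b).1), ← smul_mul_assoc, ← e, ← io_mul]; simp [commutatorElement_def]
    rw [e1, r.up n (k := σ⁻¹ k) (c := c) ((ka s.1).injective ?_), one_smul]
    rw [map_mul, map_smul, hσ, e1, show σ (σ⁻¹ k) = k by simp, smul_mul_assoc, r.Up n, if_neg (by tauto)]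
  simp only [not_forall, not_exists] at h
  obtain ⟨a, b, n, h⟩ := h
  exact r.b1 hT (cl_comm hT S.isPGroup' (hT.1 sT) (h1 a b n) (cl_of sT))
    (mul_mem (conj_mem_of_mem_nz (r.nD (h2 (hT.1 sT))) (r.UD a b)) (inv_mem (r.UD a b))).1 h

theorem U4 (n : a ≠ b) : r.U a b ^ 2 ^ 2 = 1 := Subtype.ext (io_inj (by
  simp [io_pow, pow_succ, io_mul, r.ioU n, mul_add, add_mul, mul_sub, sub_mul, r.pp, r.pj, r.jp, r.jj, n, n.symm]; abel))

theorem sf (k : Kit) (h5 : 5 ≤ finrank F V) : SF (Ω ⧸ center Ω) := by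
  have hU : ∀ a b, a ≠ b → r.U a b ∈ closure {g | ∃ a b, a ≠ b ∧ r.U a b = g} := fun a b n => subset_closure ⟨a, b, n, rfl⟩
  have hR : ∀ g ∈ closure {g | ∃ a b, a ≠ b ∧ r.U a b = g}, g ∈ r.D ∧ g ^ 2 ^ 2 = 1 := fun g hg => by
    induction hg using closure_induction with
    | mem g h => obtain ⟨a, b, n, rfl⟩ := h; exact ⟨r.UD a b, r.U4 n⟩
    | one => simp [one_mem]
    | mul g h _ _ a b => exact ⟨mul_mem a.1 b.1, by rw [Commute.mul_pow (r.Dc a.1 b.1), a.2, b.2, one_mul]⟩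
    | inv g _ a => exact ⟨inv_mem a.1, by rw [inv_pow, a.2, inv_one]⟩
  have q : ∀ a, Q (y a) ≠ 0 := fun a => by simp [r.Qy, r.two]
  refine k.mb _ _ α (QuotientGroup.mk' _) r.N r.D _ _ r.pi (QuotientGroup.mk'_surjective _) (QuotientGroup.ker_mk' _)
    (H11.omega_perfect r.nd h5) (fun g => ⟨2, Subtype.ext (hR _ g.2).2⟩) le_rfl (fun g h => r.DN (hR g h).1) (fun h => ?_)
    (fun X _ h1 h2 => r.nb (fun a b n => h1 (hU a b n)) h2) r.nD (fun _ _ => r.KD) (fun S T h1 h2 hT h3 => ?_)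
    fun S g _ => r.two' S g
  · obtain ⟨a⟩ := r.ne
    obtain ⟨b, n, -⟩ := r.thr a a
    have := congrArg (fun g : Ω => polar Q (y a) (io g.1 (x a))) (mem_center_iff.1 (h (hU a b n.symm))
      ⟨_, r.rr ((r.Qy a).trans (r.Qy b).symm) (q a)⟩)
    simp only [coe_mul, io_mul, r.ioU n.symm] at this
    simp [refl_apply, r.Qy, r.yy, r.yx, r.px, r.jx, n, n.symm] at this
    exact r.two (by linear_combination this)
  have c := fun e => r.b0 (e := e) hT (fun a b n => h1 (hU a b n)) h2 h3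
  refine ⟨(closure_le _).2 ?_, fun a b n => ?_, commutator_le.2 fun g hg h hh => ?_⟩
  · rintro _ ⟨a, b, n, rfl⟩
    let A : Ω := ⟨_, r.rr ((r.Qxy a).trans (r.Qxy b).symm) (by simp [r.Qxy])⟩
    let B : Ω := ⟨_, r.rr ((r.Qy a).trans (r.Qy b).symm) (q a)⟩
    have e1 : Ev Q A := ⟨_, _, (r.Qxy a).trans (r.Qxy b).symm, by simp [r.Qxy], by simp [r.xx, r.yy, r.xy, r.yx, n], rfl⟩
    have e2 : Ev Q B := ⟨_, _, (r.Qy a).trans (r.Qy b).symm, q a, by simp [r.yy, n], rfl⟩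
    have e3 : r.U a b = A * B := Subtype.ext (by
      simp only [U, J, A, B, coe_mul, mul_assoc]
      rw [← mul_assoc (refl Q (y a)), rf_comm (u := y a) (by simp [r.yx, r.yy, n]), mul_assoc])
    exact cl_mem hT (e3 ▸ cl_dih hT e1.sq e2.sq (e3 ▸ r.U4 n) (c _ e1) (c _ e2)) (h1 (hU a b n))
  · have q1 : Q (x a - x b) = 1 := by simp [Q_sub, r.Qx, r.xx, n, r.hf]
    have q2 : Q (y a - y b) = 1 := by simp [Q_sub, r.Qy, r.yy, n, r.hf]
    have e : ∀ k, ka (refl Q (x a - x b) * refl Q (y a - y b)) 𝐩[k] = 𝐩[Equiv.swap a b k] := fun k => by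
      have : ∀ (g : orth Q) u w, ka g (pl Q 1 u w) = pl Q 1 (g.1 u) (g.1 w) := fun g u w => LinearMap.ext fun v => by
        simp only [ka_apply, pl_apply, map_add, map_smul, orth_polar_inv]
      rw [this, Equiv.swap_apply_def]
      split_ifs with h h' <;> simp [orth_mul_apply, refl_apply, q1, q2, r.xx, r.yy, r.xy, r.yx, n, n.symm, *, @eq_comm _ a k, @eq_comm _ b k]
    exact ⟨⟨⟨_, r.rr (q1.trans q2.symm) (by simp [q1])⟩, _, e⟩, c _ ⟨_, _, q1.trans q2.symm, by simp [q1], by simp [r.xy], rfl⟩,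
      r.pi_eq _ e⟩
  · rw [commutatorElement_eq_one_iff_mul_comm.2 (r.Dc hg.2 hh.2)]; exact one_mem T

end Fr

theorem one_eq_sum {ι : Type} [Fintype ι] (b : Basis ι F V) (h : ∀ i j, i ≠ j → polar Q (b i) (b j) = 0)
    (h0 : ∀ i, polar Q (b i) (b i) ≠ 0) : ∑ i, (polar Q (b i) (b i))⁻¹ • ol Q (b i) (b i) = 1 := b.ext fun k => by
  rw [LinearMap.sum_apply, Finset.sum_eq_single k (fun i _ n => by simp [h i k n]) (by simp)]
  simp [smul_smul, h0]

theorem fr_of {ι κ : Type} [Fintype ι] [Fintype κ] {m : ℕ} (h2 : (2 : F) ≠ 0) (nd : QNondeg Q) (b : Basis ι F V)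
    (e : (Fin m ⊕ Fin m) ⊕ κ ≃ ι) (hm : 3 ≤ m) (h : ∀ i j, i ≠ j → polar Q (b i) (b j) = 0) (h0 : ∀ i, polar Q (b i) (b i) ≠ 0)
    (h1 : ∀ i, polar Q (b (e (.inl i))) (b (e (.inl i))) = 1)
    (bl : Blk Q d (∑ i, (polar Q (b (e (.inr i))) (b (e (.inr i))))⁻¹ • ol Q (b (e (.inr i))) (b (e (.inr i)))) j0)
    (ns : j0 = 0 ∨ ¬ IsSquare d) : ∃ p0, Fr Q (fun a => b (e (.inl (.inl a)))) (fun a => b (e (.inl (.inr a)))) p0 j0 d := by
  refine ⟨_, h2, nd, fun a c => ?_, fun a c => ?_, fun a c => h _ _ (by simp), ?_, bl, ns, fun a c => ?_, ⟨⟨0, by omega⟩⟩⟩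
  · split_ifs with k
    exacts [k ▸ h1 _, h _ _ (by simpa)]
  · split_ifs with k
    exacts [k ▸ h1 _, h _ _ (by simpa)]
  · rw [← one_eq_sum b h h0, ← e.sum_comp]
    simp [Fintype.sum_sum_type, h1, pl, Finset.sum_add_distrib]
  · obtain ⟨k, -, n⟩ := Finset.exists_mem_notMem_of_card_lt_card (s := {a, c}) (t := Finset.univ)
      (Finset.card_le_two.trans_lt (by simpa))
    exact ⟨k, by simpa using n⟩

theorem sf_orth (k : Kit) [Finite F] (h2 : (2 : F) ≠ 0) (nd : QNondeg Q) (h7 : 7 ≤ finrank F V) :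
    SF (commutator (orth Q) ⧸ center (commutator (orth Q))) := by
  have : Finite V := Module.finite_of_finite F
  have : Finite (V ≃ₗ[F] V) := DFunLike.finite _
  obtain ⟨n, hn⟩ : ∃ n, finrank F V = n + 1 := ⟨finrank F V - 1, by omega⟩
  obtain ⟨b, h, h1, h0⟩ := exists_orth_basis h2 nd (inv_ne_zero h2) hn
  replace h : ∀ i j, i ≠ j → polar Q (b i) (b j) = 0 := h
  replace h1 : ∀ i, i ≠ Fin.last n → polar Q (b i) (b i) = 1 := fun i e => by
    rw [polar_self', show Q (b i) = 2⁻¹ from h1 i e, mul_inv_cancel₀ h2]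
  replace h0 : ∀ i, polar Q (b i) (b i) ≠ 0 := fun i => by
    by_cases e : i = Fin.last n
    · rw [polar_self', e]; exact mul_ne_zero h2 h0
    · simp [h1 i e]
  have ex : ∀ (κ : Type) [Fintype κ] [DecidableEq κ] (i : κ), Fintype.card κ = n + 1 → ∃ e : κ ≃ Fin (n + 1), e i = Fin.last n :=
    fun κ _ _ i c => let e := Fintype.equivFinOfCardEq c; ⟨e.trans (.swap (e i) (Fin.last n)), by simp⟩
  suffices ∃ (m : ℕ) (x y : Fin m → V) (p0 j0 : End F V) (d : F), Fr Q x y p0 j0 d from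
    let ⟨_, _, _, _, _, _, r⟩ := this; r.sf k (by omega)
  obtain ⟨m, rfl | rfl⟩ := n.even_or_odd'
  · obtain ⟨e, he⟩ := ex ((Fin m ⊕ Fin m) ⊕ Unit) (.inr ()) (by simp; omega)
    obtain ⟨_, r⟩ := fr_of h2 nd b e (by omega) h h0 (fun i => h1 _ (by simp [← he])) (by simpa using blk_line h2 rfl (h0 _)) (.inl rfl)
    exact ⟨_, _, _, _, _, _, r⟩
  by_cases sq : IsSquare (polar Q (b (Fin.last _)) (b (Fin.last _)))
  · obtain ⟨s, hs⟩ := sq
    have s0 : s ≠ 0 := fun e => h0 _ (by rw [hs, e, mul_zero])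
    let b' := b.unitsSMul fun i => if i = Fin.last _ then (Units.mk0 s s0)⁻¹ else 1
    have k1 : ∀ i, polar Q (b' i) (b' i) = 1 := fun i => by
      by_cases e : i = Fin.last _ <;> simp [b', Basis.unitsSMul_apply, Units.smul_def, e, hs, s0, h1]
    obtain ⟨_, r⟩ := fr_of (κ := Empty) (m := m + 1) h2 nd b' (Fintype.equivFinOfCardEq (by simp; omega)) (by omega)
      (fun i j n => by simp only [b', Basis.unitsSMul_apply, Units.smul_def, polar_smul_left, polar_smul_right, h i j n, smul_zero]) (by simp [k1]) (fun i => k1 _)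
      (by simpa using blk_zero) (.inl rfl)
    exact ⟨_, _, _, _, _, _, r⟩
  obtain ⟨e, he⟩ := ex ((Fin m ⊕ Fin m) ⊕ Bool) (.inr false) (by simp; omega)
  have k1 := h1 (e (.inr true)) (by simp [← he])
  obtain ⟨_, r⟩ := fr_of h2 nd b e (by omega) h h0 (fun i => h1 _ (by simp [← he]))
    (by simpa [pl, k1, he] using blk_plane h2 k1 rfl (h0 (Fin.last _)) (h _ _ (by simp [← he]))) (.inr sq)
  exact ⟨_, _, _, _, _, _, r⟩

theorem sf_pom (k : Kit) {F : Type} [Field F] [Fintype F] {ι : Type} [Fintype ι] [DecidableEq ι] (o : Odd (Fintype.card F))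
    {Q : QuadraticForm F (ι → F)} (nd : QNondeg Q) (h7 : 7 ≤ Fintype.card ι) {q : (ι → F) → F} (e : ⇑Q = q) : SF (POmega F q) :=
  have : Finite ((ι → F) ≃ₗ[F] (ι → F)) := DFunLike.finite _
  (k.tr _ _ (H11.pomegaEquiv Q e).symm).1 (sf_orth k (odd_card_iff.1 o) nd (by simpa))

theorem omo (k : Kit) : OMo := fun F _ _ m o h =>
  ⟨sf_pom k o (H11.qOdd_nondeg (odd_card_iff.1 o) m) (by simp; omega) (H11.coe_qOdd m),
    sf_pom k o (H11.qPlus_nondeg _) (by simp; omega) (H11.coe_qPlus _), fun a b hab =>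
    sf_pom k o (H11.qMinus_nondeg m (H11.disc_ne_zero_of_aniso hab)) (by simp; omega) (H11.coe_qMinus m a b)⟩

theorem omt (k : Kit) : OMt := fun _ => omo k

end H19.FK
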