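import Cfsg.Agent.H12.MS0
import Cfsg.Agent.H27.MS3

/-! S5899, part 3: sub-interface for `CI`. -/

set_option autoImplicit false
set_option linter.unusedVariables false
set_option linter.unusedSectionVars false

namespace H19.MU
open Cfsg Subgroup H18 H17.GS H28.S H2.GW
open H19 hiding eq_bot_mono
open H28.NG hiding Hyp Uniq Ch
open H27.MS H12.MS
open H9 (JJ MaxAb)

universe u
variable {G : Type u} [Group G]

/-- the configuration with `C[p]` insoluble, `D = O₂(C[p])` -/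
structure Ci (N Q T V P R D : Subgroup G) (p : G) : Prop extends Bd N Q T V where
  zs : Zs T = zpowers p
  pV : p ∈ V
  p1 : p ≠ 1
  pt : Pt N Q V P R p
  lc : Lc C[p] D T
  sc : Sec C[p] D ⊥ (Zs D)
  DR : D ≤ R
  VD : V ≤ D
  nDQ : ¬ D ≤ Q
  c4 : #R = 4 * #D
  big : 16 ≤ #(Zs D)
  four : ∀ A, MaxAb 2 T A → ¬ A ≤ D →
    #(A ⊔ D) = 4 * #D ∧ #(Zs D) = 4 * #(Zs D ⊓ C(A)) ∧ MaxAb 2 T (A ⊓ D ⊔ Zs D)
  ex : ∃ A, MaxAb 2 T A ∧ ¬ A ≤ D

def CA : Prop := ∀ {G : Type u} [Group G] [Finite G] {N Q T V P R : Subgroup G} {p y : G}, Bd N Q T V →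
  Zs T = zpowers p → p ∈ V → Pt N Q V P R p → y ∈ C(R) → y * y = 1 → y ∈ zpowers p
def CB : Prop := ∀ {G : Type u} [Group G] [Finite G] {N Q T V : Subgroup G} {p : G}, Bd N Q T V →
  Zs T = zpowers p → ¬ Sol C[p] → ∃ P R D, Ci N Q T V P R D p
def CC : Prop := ∀ {G : Type u} [Group G] [Finite G] {N Q T V P R D : Subgroup G} {p : G}, Ci N Q T V P R D p →
  ∃ A, MaxAb 2 T A ∧ ¬ A ≤ D ∧ A ≤ R

theorem ci (ca : CA.{u}) (cb : CB.{u}) (cc : CC.{u}) : CI.{u} := by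
  intro G _ _ N Q T V p b z
  by_contra ns
  obtain ⟨P, R, D, h⟩ := cb b z ns
  obtain ⟨A, m, nD, AR⟩ := cc h
  obtain ⟨c1, c2, -⟩ := h.four A m nD
  have e : A ⊔ D = R := eq_of_le_of_card_ge (sup_le AR h.DR) (by rw [c1, h.c4])
  have ab := h.sc.ab
  have l : Zs D ⊓ C(A) ≤ zpowers p := fun y k => ca b z h.pV h.pt
    (e ▸ cents_symm (sup_le (cents_symm inf_le_right) (cents_symm (inf_le_left.trans (cents_symm h.sc.cq')))) k)
    (by simpa [pow_two] using ab.2 _ k.1)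
  have c := card_le_of_le l
  have pp : p * p = 1 := by simpa [pow_two] using b.sec.ab.2 _ h.pV
  rw [Nat.card_zpowers, orderOf_eq_prime (p := 2) (by rwa [pow_two]) h.p1] at c
  have := h.big
  omega

end H19.MU
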