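import Cfsg.Agent.H19.MU0
import Cfsg.Agent.H14.MS1
import Cfsg.Agent.H26.MS3

/-! S5899, part 3: `CA`, the centre of the radical of a point stabilizer. -/

set_option autoImplicit false
set_option linter.unusedVariables false
set_option linter.unusedSectionVars false

namespace H19.MU
open Cfsg Subgroup H18 H17.GS H28.S H2.GW
open H19 hiding eq_bot_mono
open H28.NG hiding Hyp Uniq Ch
open H27.MS H12.MS

universe u

theorem fin7 {W : Type*} [CommGroup W] (h2 : ∀ w : W, w * w = 1) (α : MulAut W) {p q r y w : W} (hp : α p = q)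
    (hq : α q = r) (hr : α r = p * q) (h7 : α (α (α (α (α (α (α y)))))) = y)
    (hs : y * α y * α (α (α y)) * r = w) (hw : w = 1 ∨ w = p ∨ w = q ∨ w = p * q) : r = w := by
  have c : ∀ a b : W, a * (a * b) = b := fun a b => by rw [← mul_assoc, h2, one_mul]
  have s0 : y * α y * α (α (α y)) = w * r := by rw [← hs, mul_assoc _ r, h2, mul_one]
  have k : w * r * α (w * r) * α (α (α (w * r))) = 1 := by
    rcases hw with rfl | rfl | rfl | rfl <;> simp only [map_mul, map_one, hp, hq, hr] <;>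
      simp only [mul_comm, mul_left_comm, c, h2, mul_one]
  have e : α (w * r * α (w * r) * α (α (α (w * r)))) = w * r := by
    rw [← s0]
    simp only [map_mul, h7]
    generalize α y = y1
    generalize α y1 = y2
    generalize α y2 = y3
    generalize α y3 = y4
    generalize α y4 = y5
    simp only [mul_comm, mul_left_comm, c, h2, mul_one]
  rw [k, map_one] at e
  rw [← c w r, ← e, mul_one]

variable {G : Type u} [Group G] [Finite G] {N Q T V P R X : Subgroup G} {p q r c y t x x' e n a b : G}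

local notation:80 e:81 " ⊳ " x:80 => (MulAut.conj e) x

theorem cc (a b x : G) : a ⊳ (b ⊳ x) = (a * b) ⊳ x := by simp [mul_assoc]
theorem ci' (a x : G) : a⁻¹ ⊳ (a ⊳ x) = x := by simp [mul_assoc]
theorem ci'' (a x : G) : a ⊳ (a⁻¹ ⊳ x) = x := by simp [mul_assoc]

theorem L1 (k : K4 p q) {a0 a1 a3 : G} (hc : c ∈ V4 p q) (h0 : c ∈ zpowers p ∧ a0 = 1 ∨ c ∉ zpowers p ∧ a0 = p)
    (h1 : c ∈ zpowers q ∧ a1 = 1 ∨ c ∉ zpowers q ∧ a1 = q)
    (h3 : c ∈ zpowers (p * q) ∧ a3 = 1 ∨ c ∉ zpowers (p * q) ∧ a3 = p * q) : a0 * a1 * a3 * c = 1 := by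
  rw [H17.GS.mem_zp k.tt] at h0
  rw [H17.GS.mem_zp k.ss] at h1
  rw [H17.GS.mem_zp k.mul.ss] at h3
  have := k.t1
  have := k.s1
  have := k.ne
  have := k.mul.s1
  have := k.mul.ne
  have := k.mul'.ne
  rcases k.mem.1 hc with rfl | rfl | rfl | rfl
  · simp_all
  · obtain rfl : a0 = 1 := by tauto
    obtain rfl : a1 = q := by tauto
    obtain rfl : a3 = c * a1 := by tauto
    rw [one_mul, k.comm, ← mul_assoc, k.ss, one_mul, k.tt]
  · obtain rfl : a0 = p := by tauto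
    obtain rfl : a1 = 1 := by tauto
    obtain rfl : a3 = a0 * c := by tauto
    rw [mul_one, k.tts, k.ss]
  · obtain rfl : a0 = p := by tauto
    obtain rfl : a1 = q := by tauto
    obtain rfl : a3 = 1 := by tauto
    rw [mul_one, k.mul.ss]

theorem L2 (ab : Abelem 2 X) {y0 y1 y3 a0 a1 a3 : G} (m0 : y0 ∈ X) (m1 : y1 ∈ X) (m3 : y3 ∈ X) (n0 : a0 ∈ X)
    (n1 : a1 ∈ X) (n3 : a3 ∈ X) (mc : c ∈ X) (mr : r ∈ X) (h : a0 * a1 * a3 * c = 1) :
    y0 * a0 * (y1 * a1) * (y3 * a3) * (c * r) = y0 * y1 * y3 * r := by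
  let : CommGroup X := { mul_comm := fun v w => Subtype.ext (ab_comm ab v.2 w.2) }
  lift y0 to X using m0
  lift y1 to X using m1
  lift y3 to X using m3
  lift a0 to X using n0
  lift a1 to X using n1
  lift a3 to X using n3
  lift c to X using mc
  lift r to X using mr
  norm_cast at h ⊢
  rw [← mul_one (y0 * y1 * y3 * r), ← h]
  ac_rfl

section
variable (h : Bd N Q T V) (z : Zs T = zpowers p)
include h z

theorem pT : p ∈ T ⊓ C(T) := H19.Ohm1_le 2 _ (z ▸ mem_zpowers p : p ∈ Zs T)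
theorem TC : T ≤ C[p] := fun t ht => mem_cent1.2 (mem_cent.1 (pT h z).2 t ht)
theorem p1 : p ≠ 1 := fun e => h.syl.pi.Ohm1_center_ne_bot (ne_bot_mono h.toFr.le h.q0) (by rw [e, zpowers_one_eq_bot] at z; exact z)

section
variable (XT : X ≤ T) (QX : Q ≤ X) (ht : t ∈ T) (tX : t ∉ X) (H : ∀ a ∈ T, a ∈ X ∨ t * a ∈ X)
include XT QX ht tX H

theorem fix (hx : x ∈ C(X)) (xx : x * x = 1) (f : t ⊳ x = x) : x ∈ zpowers p := by
  refine z ▸ H19.mem_Ohm1 (mem_inf.2 ⟨h.toFr.le (h.chr (cent_mono QX hx)), mem_cent.2 fun a ha => ?_⟩) (sq x ▸ xx)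
  rcases H a ha with k | k
  · exact mem_cent.1 hx a k
  · have := mem_cent.1 hx _ k
    rw [← mul_assoc, ← mul_inv_eq_iff_eq_mul.1 f, mul_assoc, mul_assoc] at this
    exact mul_left_cancel this

theorem alt (pp : p * p = 1) (hx : x ∈ C(X)) (xx : x * x = 1) : t ⊳ x = x ∨ t ⊳ x = x * p := by
  have n : t ⊳ x ∈ C(X) := mem_cent.2 fun a ha => by
    have k : t⁻¹ * a * t ∈ X := (H _ (mul_mem (mul_mem (inv_mem ht) (XT ha)) ht)).resolve_right fun k => tX (by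
      rwa [← mul_assoc, mul_inv_cancel_left, mul_mem_cancel_left ha] at k)
    have := mem_cent.1 hx _ k
    rw [MulAut.conj_apply]
    calc a * (t * x * t⁻¹) = t * (t⁻¹ * a * t * x) * t⁻¹ := by group
      _ = _ := by rw [this]; group
  have c : x * t ⊳ x = t ⊳ x * x := mem_cent.1 n x (QX (h.chr (cent_mono QX hx)))
  have tt : (t * t) ⊳ x = x := mul_inv_eq_iff_eq_mul.2 (mem_cent.1 hx _ ((H t ht).resolve_left tX))
  have u := fix h z XT QX ht tX H (mul_mem hx n) (by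
    rw [mul_assoc, ← mul_assoc _ x, ← c, mul_assoc, ← map_mul, xx, map_one, mul_one, xx]) (by rw [map_mul, cc, tt, c])
  have i : t ⊳ x = x * (x * t ⊳ x) := by rw [← mul_assoc, xx, one_mul]
  rcases (H17.GS.mem_zp pp).1 u with k | k <;> rw [k] at i
  exacts [.inl (i.trans (mul_one x)), .inr i]

theorem two (pp : p * p = 1) (hx : x ∈ C(X)) (xx : x * x = 1) (hx' : x' ∈ C(X)) (xx' : x' * x' = 1)
    (n : x ∉ zpowers p) : x' ∈ zpowers p ∨ x * x' ∈ zpowers p := by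
  have xQ := h.chr (cent_mono QX hx)
  have c : x * x' = x' * x := mem_cent.1 hx' x (QX xQ)
  have a := (alt h z XT QX ht tX H pp hx xx).resolve_left fun k => n (fix h z XT QX ht tX H hx xx k)
  refine (alt h z XT QX ht tX H pp hx' xx').imp (fix h z XT QX ht tX H hx' xx') fun k =>
    fix h z XT QX ht tX H (mul_mem hx hx') (by rw [mul_assoc, ← mul_assoc x', ← c, mul_assoc, xx', mul_one, xx]) ?_
  rw [map_mul, a, k, mul_assoc, ← mul_assoc p, ← mem_cent1.1 (TC h z (h.toFr.le (h.chr (cent_mono QX hx')))),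
    mul_assoc, pp, mul_one]
end

variable (l7 : L7 N Q) (pV : p ∈ V) (pt : Pt N Q V P R p)
include l7 pV pt

theorem sP : Syl 2 T P := h.syl.of_le (pt.eP ▸ le_inf h.syl.le (TC h z)) (pt.eP ▸ inf_le_left)
theorem hR : H17.GS.Hyp R T :=
  hyp_of_card (pt.eR ▸ Oc_le_hall (sP h z l7 pV pt)) (by rw [(H26.MS.l7_card h.toFr l7).2, pt.cR]; ring)
theorem HR (ht : t ∈ T) (tR : t ∉ R) (a : G) (ha : a ∈ T) : a ∈ R ∨ t * a ∈ R :=
  (em (a ∈ R)).imp_right fun k => (H14.MS.mmi (hR h z l7 pV pt) ht ha).2 (iff_of_false tR k)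

theorem A3 (hy : y ∈ C(R)) (yy : y * y = 1) (yp : y ∉ zpowers p) (he : e ∈ P) (pe : H19.PG 2 (zpowers e)) :
    e ∈ R ∧ e ⊳ y = y ∨ e ∉ R ∧ e ⊳ y = y * p := by
  by_cases eR : e ∈ R
  · exact .inl ⟨eR, mul_inv_eq_iff_eq_mul.2 (mem_cent.1 hy e eR)⟩
  have pp := sq_one h.sec.ab pV
  have nR : P ≤ N(R) := pt.eR ▸ (Oc_normal _ _).norm
  have f1 : ∀ g ∈ P, g ⊳ y ∈ C(R) := fun g hg => conj_mem_of_norm (norm_le_norm_cent _ (nR hg)) hy
  have f2 : ∀ g : G, g ⊳ y * g ⊳ y = 1 := fun g => by rw [← map_mul, yy, map_one]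
  have f3 : ∀ g ∈ P, g ⊳ y ∉ zpowers p := fun g hg k => yp (by
    have : g ⊳ p = p := mem_cent1_conj.1 (pt.eP ▸ hg : g ∈ N ⊓ C[p]).2
    rw [H17.GS.mem_zp pp] at k ⊢
    exact k.imp (fun k => by simpa using k) fun k => (MulAut.conj g).injective (k.trans this.symm))
  obtain ⟨k, hk, l⟩ := (sP h z l7 pV pt).scj_le (zpowers_le' he) pe
  have ht : k ⊳ e ∈ T := l (conj_mem_cj.2 (mem_zpowers e))
  have tR : k ⊳ e ∉ R := fun q => eR (ci' k e ▸ conj_mem_of_norm (nR (inv_mem hk)) q)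
  have RT := (hR h z l7 pV pt).le
  have H := HR h z l7 pV pt ht tR
  have i : e ⊳ y = y * (y * e ⊳ y) := by rw [← mul_assoc, yy, one_mul]
  rcases (H17.GS.mem_zp pp).1 ((two h z RT pt.QR ht tR H pp hy yy (f1 e he) (f2 e) yp).resolve_left (f3 e he))
    with q | q <;> rw [q] at i
  · refine absurd (fix h z RT pt.QR ht tR H (f1 k hk) (f2 k) ?_) (f3 k hk)
    rw [cc, show k ⊳ e * k = k * e by simp, ← cc, i, mul_one]
  · exact .inr ⟨eR, i⟩

theorem A4 (nV : N ≤ N(V)) (hy : y ∈ C(R)) (yy : y * y = 1) (yp : y ∉ zpowers p) (hn : n ∈ N) (he : e ∈ T)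
    (hc : e ⊳ n ⊳ p = n ⊳ p) (hv : ∀ v ∈ V, e ⊳ v * v⁻¹ = 1 ∨ e ⊳ v * v⁻¹ = c) (hr : r ∈ V) (er : e ⊳ r * r⁻¹ = c) :
    ∃ a, e ⊳ n ⊳ y = n ⊳ y * a ∧ (c ∈ zpowers (n ⊳ p) ∧ a = 1 ∨ c ∉ zpowers (n ⊳ p) ∧ a = n ⊳ p) := by
  have key : ∀ v, (n⁻¹ ⊳ e) ⊳ v = n⁻¹ ⊳ e ⊳ n ⊳ v := fun v => by simp [mul_assoc]
  have key' : ∀ v, e ⊳ n ⊳ v = n ⊳ (n⁻¹ ⊳ e) ⊳ v := fun v => by rw [key, ci'']
  have ec : n⁻¹ ⊳ e ∈ C[p] := mem_cent1_conj.2 ((key p).trans (by rw [hc, ci']))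
  have eP : n⁻¹ ⊳ e ∈ P := pt.eP ▸ mem_inf.2 ⟨N.mul_mem (N.mul_mem (N.inv_mem hn) (h.syl.le he)) (N.inv_mem (N.inv_mem hn)), ec⟩
  have mem : ∀ u, u ∈ zpowers (n ⊳ p) ↔ n⁻¹ ⊳ u ∈ zpowers p := fun u => by
    rw [MulAut.conj_apply, ← H19.cj_zpowers, H19.mem_cj, MulAut.conj_apply, inv_inv]
  rcases A3 h z l7 pV pt hy yy yp eP (by
    rw [MulAut.conj_apply, ← H19.cj_zpowers]; exact (h.syl.pi.of_le (zpowers_le' he)).J _) with ⟨a, b⟩ | ⟨a, b⟩
  · refine ⟨1, by rw [key', b, mul_one], .inl ⟨(mem c).2 ?_, rfl⟩⟩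
    have := inv_mem (commg_le_iff.1 pt.cm _ (conj_mem_of_norm (nV (inv_mem hn)) hr) _ a)
    rw [← er]
    convert this using 1
    simp [mul_assoc]
  · refine ⟨_, by rw [key', b, map_mul], .inr ⟨fun k => a (pt.ker _ eP ⟨cent_le_norm _ (by rwa [cent_zpowers]),
      fun v p => ?_⟩), rfl⟩⟩
    have e1 : n⁻¹ ⊳ e * v * (n⁻¹ ⊳ e)⁻¹ * v⁻¹ = n⁻¹ ⊳ (e ⊳ n ⊳ v * (n ⊳ v)⁻¹) := by simp [mul_assoc]
    rw [e1]
    rcases hv _ (conj_mem_of_norm (nV hn) p) with q | q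
    · exact (mem _).1 (q ▸ one_mem _)
    · exact (mem _).1 (q ▸ k)

theorem Rv (ha : a ∈ R) (hx : x ∈ V) : a ⊳ x = x ∨ a ⊳ x = x * p := by
  have ab := h.sec.ab
  have := inv_mem (commg_le_iff.1 pt.cm _ hx _ ha)
  rw [H17.GS.mem_zp (sq_one ab pV), show (x * a * x⁻¹ * a⁻¹)⁻¹ = a ⊳ x * x⁻¹ by simp [mul_assoc],
    mul_inv_eq_one, mul_inv_eq_iff_eq_mul, ab_comm ab pV hx] at this
  exact this

/-- the invariant line -/
theorem line (nV : N ≤ N(V)) : ∃ q ∈ V, q ∉ zpowers p ∧ ∀ a ∈ T, a ⊳ q = q ∨ a ⊳ q = q * p := by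
  have ab := h.sec.ab
  have pp := sq_one ab pV
  have hr := hR h z l7 pV pt
  obtain ⟨t, ht, tR⟩ := SetLike.exists_of_lt (hr.le.lt_of_ne hr.ne)
  have tp : t ⊳ p = p := mem_cent1_conj.1 (TC h z ht)
  have mv : ∀ v ∈ V, t ⊳ v = v ∨ t ⊳ v = v * p → ∀ a ∈ T, a ⊳ v = v ∨ a ⊳ v = v * p := fun v hv k a ha => by
    rcases HR h z l7 pV pt ht tR a ha with q | q
    · exact Rv h z l7 pV pt q hv
    have i := (MulAut.conj t).injective
    have := Rv h z l7 pV pt q hv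
    rw [← cc] at this
    rcases k with k | k <;> rcases this with j | j
    exacts [.inl (i (j.trans k.symm)), .inr (i (by rw [j, map_mul, k, tp])),
      .inr (i (by rw [j, map_mul, k, tp, mul_assoc, pp, mul_one])), .inl (i (j.trans k.symm))]
  obtain ⟨v, hv, vp⟩ : ∃ v ∈ V, v ∉ zpowers p := SetLike.not_le_iff_exists.1 fun k => by
    have := card_le_of_le k
    rw [h.c8, card_zp pp (p1 h z)] at this
    omega
  have tv : t ⊳ v ∈ V := conj_mem_of_norm (nV (h.syl.le ht)) hv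
  by_cases k : v * t ⊳ v ∈ zpowers p
  · refine ⟨v, hv, vp, mv v hv ?_⟩
    have i : t ⊳ v = v * (v * t ⊳ v) := by rw [← mul_assoc, sq_one ab hv, one_mul]
    rcases (H17.GS.mem_zp pp).1 k with k | k <;> rw [k] at i
    exacts [.inl (i.trans (mul_one v)), .inr i]
  · refine ⟨_, mul_mem hv tv, k, mv _ (mul_mem hv tv) ?_⟩
    rw [map_mul, cc]
    exact (Rv h z l7 pV pt ((HR h z l7 pV pt ht tR t ht).resolve_left tR) hv).imp
      (fun j => by rw [j, ab_comm ab tv hv]) fun j => by rw [j, ← mul_assoc, ab_comm ab tv hv]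
end

section
variable (ab : Abelem 2 V) (c8 : #V = 8) (k : K4 p q) (pV : p ∈ V) (qV : q ∈ V)
include ab c8 k pV qV

theorem mmV (hx : x ∈ V) (hy : y ∈ V) : x * y ∈ V4 p q ↔ (x ∈ V4 p q ↔ y ∈ V4 p q) :=
  H14.MS.mmi (hyp_of_card (V4_le.2 ⟨pV, qV⟩) (by rw [c8, k.card])) hx hy

omit ab c8 pV qV in
theorem fxl (ep : e ⊳ p = p) (eq : e ⊳ q = q) (hx : x ∈ V4 p q) : e ⊳ x = x := by
  rcases k.mem.1 hx with rfl | rfl | rfl | rfl
  exacts [map_one _, ep, eq, by rw [map_mul, ep, eq]]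

theorem gen (he : e ∈ N(V)) (ep : e ⊳ p = p) (eq : e ⊳ q = q) (hr : r ∈ V) (rl : r ∉ V4 p q) :
    e ⊳ r * r⁻¹ ∈ V4 p q ∧ ∀ v ∈ V, (v ∈ V4 p q → e ⊳ v * v⁻¹ = 1) ∧ (v ∉ V4 p q → e ⊳ v * v⁻¹ = e ⊳ r * r⁻¹) := by
  have er : e ⊳ r ∈ V := conj_mem_of_norm he hr
  refine ⟨(mmV ab c8 k pV qV er (inv_mem hr)).2 (iff_of_false (fun j => rl ?_) (by rwa [inv_mem_iff])), fun v hv =>
    ⟨fun j => by rw [fxl k ep eq j, mul_inv_cancel], fun j => ?_⟩⟩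
  · rwa [(MulAut.conj e).injective (fxl k ep eq j)] at j
  · have w := (mmV ab c8 k pV qV hv (inv_mem hr)).2 (iff_of_false j (by rwa [inv_mem_iff]))
    have := fxl k ep eq w
    rw [map_mul, map_inv, mul_inv_eq_iff_eq_mul] at this
    rw [this, ab_comm ab (mul_mem hv (inv_mem hr)) er, ab_comm ab hv (inv_mem hr)]
    group

theorem genC (he : e ∈ N(V)) (ep : e ⊳ p = p) (eq : e ⊳ q = q) (hr : r ∈ V) (rl : r ∉ V4 p q) (er : e ⊳ r = r) :
    e ∈ C(V) := mem_cent.2 fun v hv => by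
  have := (gen ab c8 k pV qV he ep eq hr rl).2 v hv
  rw [er, mul_inv_cancel] at this
  exact (mul_inv_eq_iff_eq_mul.1 (mul_inv_eq_one.1 ((em _).elim this.1 this.2))).symm
end

theorem ca (bk : BK.{u}) : CA.{u} := by
  intro G _ _ N Q T V P R p y h z pV pt hy yy
  by_contra yp
  obtain ⟨l7, ab, VQ, cV, nV, -, tr, -⟩ := bk h
  have pp := sq_one ab pV
  have p1 := p1 h z
  have PN : P ≤ N := pt.eP ▸ inf_le_left
  have Pp : ∀ g ∈ P, g ⊳ p = p := fun g hg => mem_cent1_conj.1 (pt.eP ▸ hg : g ∈ N ⊓ C[p]).2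
  have cj : ∀ g ∈ N, ∀ v ∈ V, g ⊳ v ∈ V := fun g hg v hv => conj_mem_of_norm (nV.ge hg) hv
  obtain ⟨q, qV, qp, hq⟩ := line h z l7 pV pt nV.ge
  have qq := sq_one ab qV
  have k : K4 p q := ⟨ord2_of pp p1, ord2_of qq fun e => qp (e ▸ one_mem _), fun e => qp (e ▸ mem_zpowers _),
    ab_comm ab pV qV⟩
  obtain ⟨r, rV, rl⟩ : ∃ v ∈ V, v ∉ V4 p q := SetLike.not_le_iff_exists.1 fun j => by
    have := card_le_of_le j
    rw [h.c8, k.card] at this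
    omega
  have mm := fun {x y : G} => mmV (x := x) (y := y) ab h.c8 k pV qV
  have zl : zpowers p ≤ V4 p q := zpowers_le' (left_mem_V4 _ _)
  have RP : R ≤ P := pt.eR ▸ Oc_le _ _
  have nR : P ≤ N(R) := pt.eR ▸ (Oc_normal _ _).norm
  -- an element of order seven
  have tr2 : ∀ a ∈ V, ∀ b ∈ V, a ≠ 1 → b ≠ 1 → b ≠ a → ∃ n ∈ N, n ⊳ p = a ∧ n ⊳ q = b := fun a ha b hb a1 b1 ba => by
    obtain ⟨n, hn, e⟩ := tr p pV a ha p1 a1
    obtain ⟨g, hg, f⟩ := pt.tr q qV (n⁻¹ ⊳ b) (cj _ (inv_mem hn) b hb) qp fun j =>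
      ((H17.GS.mem_zp pp).1 j).elim (fun j => b1 ((MulAut.conj n⁻¹).map_eq_one_iff.1 j)) fun j => ba (by rw [← e, ← j]; exact (ci'' n b).symm)
    exact ⟨n * g, mul_mem hn (PN hg), by rw [← cc, Pp g hg]; exact e, by rw [← cc, show g ⊳ q = _ from f, ci'']⟩
  obtain ⟨e, he, ep, eq, er⟩ : ∃ e ∈ N, e ⊳ p = p ∧ e ⊳ q = q ∧ ∀ v ∈ V, v ∉ V4 p q → e ⊳ v = p * v := by
    obtain ⟨a, ha, aQ⟩ := SetLike.exists_of_lt (pt.QR.lt_of_ne fun j => by
      have := pt.cR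
      have := card_pos Q
      rw [← j] at *
      omega)
    obtain ⟨v, hv, vp, av⟩ : ∃ v ∈ V, v ∉ zpowers p ∧ a ⊳ v = v := by
      rcases Rv h z l7 pV pt ha qV with i | i
      · exact ⟨q, qV, qp, i⟩
      rcases Rv h z l7 pV pt ha rV with j | j
      · exact ⟨r, rV, mt (@zl r) rl, j⟩
      exact ⟨q * r, mul_mem qV rV, fun m => rl (((mm qV rV).1 (zl m)).1 (right_mem_V4 _ _)), by
        rw [map_mul, i, j, mul_assoc, ← mul_assoc p, ab_comm ab pV rV, mul_assoc, pp, mul_one]⟩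
    obtain ⟨g, hg, f⟩ := pt.tr v hv q qV vp qp
    have eR : g ⊳ a ∈ R := conj_mem_of_norm (nR hg) ha
    have eq : (g ⊳ a) ⊳ q = q := by rw [← show g ⊳ v = q from f, cc, show g ⊳ a * g = g * a by simp, ← cc, av]
    have ep := Pp _ (RP eR)
    refine ⟨_, PN (RP eR), ep, eq, fun v hv vl => ?_⟩
    rw [ab_comm ab pV hv]
    refine (Rv h z l7 pV pt eR hv).resolve_left fun j => aQ ?_
    have := cV.le (genC ab h.c8 k pV qV (nV.ge (PN (RP eR))) ep eq hv vl j)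
    exact ci' g a ▸ conj_mem_of_norm (h.nq.norm (inv_mem (PN hg))) this
  obtain ⟨f, hf, fp, fq, fr⟩ : ∃ e ∈ N, e ⊳ p = p ∧ e ⊳ q = q ∧ ∀ v ∈ V, v ∉ V4 p q → e ⊳ v = q * v := by
    obtain ⟨n, hn, a, b⟩ := tr2 q qV p pV k.s1 p1 k.ne
    have key : ∀ v, (n ⊳ e) ⊳ n ⊳ v = n ⊳ e ⊳ v := fun v => by simp [mul_assoc]
    refine ⟨n ⊳ e, conj_mem_of_norm (le_normalizer hn) he, by rw [← b, key, eq], by rw [← a, key, ep], fun v hv vl => ?_⟩
    rw [← ci'' n v, key, er _ (cj _ (inv_mem hn) v hv), map_mul, a]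
    refine fun j => vl ?_
    rw [← ci'' n v]
    rcases k.mem.1 j with j | j | j | j <;> rw [j]
    exacts [by rw [map_one]; exact one_mem _, a ▸ right_mem_V4 _ _, b ▸ left_mem_V4 _ _,
      by rw [map_mul, a, b, ← k.comm]; exact mul_mem_V4 _ _]
  have tr3 : ∀ w ∈ V4 p q, ∃ e ∈ N, e ⊳ p = p ∧ e ⊳ q = q ∧ e ⊳ r = w * r := fun w hw => by
    rcases k.mem.1 hw with rfl | rfl | rfl | rfl
    exacts [⟨1, one_mem _, by simp, by simp, by simp⟩, ⟨e, he, ep, eq, er r rV rl⟩, ⟨f, hf, fp, fq, fr r rV rl⟩,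
      ⟨f * e, mul_mem hf he, by rw [← cc, ep, fp], by rw [← cc, eq, fq],
        by rw [← cc, er r rV rl, map_mul, fp, fr r rV rl, mul_assoc]⟩]
  obtain ⟨g, hg, gp, gq, gr⟩ : ∃ g ∈ N, g ⊳ p = q ∧ g ⊳ q = r ∧ g ⊳ r = p * q := by
    obtain ⟨n, hn, a, b⟩ := tr2 q qV r rV k.s1 (fun j => rl (j ▸ one_mem _)) fun j => rl (j ▸ right_mem_V4 _ _)
    have uV := cj _ (inv_mem hn) _ (mul_mem pV qV)
    obtain ⟨e, he, ep, eq, er⟩ := tr3 _ ((mm uV rV).2 (iff_of_false (fun j => by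
      have i := (ci'' n (p * q)).symm
      rcases k.mem.1 j with j | j | j | j <;> rw [j] at i
      · exact k.mul.s1 (i.trans (map_one _))
      · exact k.mul'.ne (i.trans a).symm
      · exact rl ((i.trans b) ▸ mul_mem_V4 _ _)
      · rw [map_mul, a, b, k.comm, mul_right_inj] at i
        exact rl (i ▸ left_mem_V4 _ _)) rl))
    exact ⟨n * e, mul_mem hn he, by rw [← cc, ep, a], by rw [← cc, eq, b],
      by rw [← cc, er, mul_assoc, sq_one ab rV, mul_one, ci'']⟩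
  -- the fixed points of the centralizer of the line
  have aY : Abelem 2 (Zs Q) := abelem_Ohm1_center 2 Q
  have nY : N ≤ N(Zs Q) := h.nq.norm.trans (norm_le_norm_Ohm1_center 2 Q)
  have mY : ∀ x ∈ C(Q), x * x = 1 → x ∈ Zs Q := fun x hx xx => H19.mem_Ohm1 (mem_inf.2 ⟨h.chr hx, hx⟩) (sq x ▸ xx)
  have VY : V ≤ Zs Q := fun v hv => mY v (cents_symm cV.ge hv) (sq_one ab hv)
  have yY := mY y (cent_mono pt.QR hy) yy
  have cY : ∀ g ∈ N, g ⊳ y ∈ Zs Q := fun g hg => conj_mem_of_norm (nY hg) yY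
  have g3 : g * (g * g) ∈ N := mul_mem hg (mul_mem hg hg)
  have gp3 : (g * (g * g)) ⊳ p = p * q := by rw [← cc, ← cc, gp, gq, gr]
  have sY := mul_mem (mul_mem (mul_mem (cY 1 (one_mem _)) (cY g hg)) (cY _ g3)) (VY rV)
  obtain ⟨t, ht, tq⟩ : ∃ t ∈ T, t ∉ T ⊓ C[q] := SetLike.not_le_iff_exists.1 fun j => qp (z ▸ H19.mem_Ohm1
    (mem_inf.2 ⟨h.toFr.le (VQ.le qV), mem_cent.2 fun a ha => mem_cent1.1 (j ha).2⟩) (sq q ▸ qq))
  have s := two h z (X := T ⊓ C[q]) inf_le_left (le_inf h.toFr.le (cV.ge.trans (cent_le_cent1 qV))) ht tq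
    (fun a ha => (hq a ha).imp (fun j => ⟨ha, mem_cent1_conj.2 j⟩) fun j => ⟨mul_mem ht ha, mem_cent1_conj.2 (by
      have i := (hq t ht).resolve_left fun j => tq ⟨ht, mem_cent1_conj.2 j⟩
      show (t * a) ⊳ q = q
      rw [← cc, j, map_mul, i, show t ⊳ p = p from mem_cent1_conj.1 (TC h z ht), mul_assoc, pp, mul_one])⟩)
    pp (cents_symm (inf_le_right.trans (cent_zpowers q).ge) (mem_zpowers q)) qq (mem_cent.2 fun e he => by
      have ep : e ⊳ p = p := mem_cent1_conj.1 (TC h z he.1)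
      have eq : e ⊳ q = q := mem_cent1_conj.1 he.2
      obtain ⟨cl, hv⟩ := gen ab h.c8 k pV qV (nV.ge (h.syl.le he.1)) ep eq rV rl
      have A := fun n hn hc => A4 (n := n) h z l7 pV pt nV.ge hy yy yp hn he.1 hc
        (fun v p => (em _).imp (hv v p).1 (hv v p).2) rV rfl
      obtain ⟨a0, b0, c0⟩ := A 1 (one_mem _) (by simpa using ep)
      obtain ⟨a1, b1, c1⟩ := A g hg (by rw [gp, eq])
      obtain ⟨a3, b3, c3⟩ := A _ g3 (by rw [gp3, map_mul, ep, eq])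
      rw [show (1 : G) ⊳ p = p by simp] at c0
      rw [gp] at c1
      rw [gp3] at c3
      have m : ∀ {a x : G} {A B : Prop}, x ∈ V → A ∧ a = 1 ∨ B ∧ a = x → a ∈ Zs Q := fun hx j =>
        j.elim (fun j => j.2 ▸ one_mem _) fun j => j.2 ▸ VY hx
      refine mul_inv_eq_iff_eq_mul.1 (show e ⊳ _ = _ from ?_)
      rw [map_mul, map_mul, map_mul, b0, b1, b3, ← inv_mul_cancel_right (e ⊳ r) r]
      exact L2 aY (cY 1 (one_mem _)) (cY g hg) (cY _ g3) (m pV c0) (m qV c1) (m (mul_mem pV qV) c3)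
        (VY (V4_le.2 ⟨pV, qV⟩ cl)) (VY rV) (L1 k cl c0 c1 c3)) (sq_one aY sY) qp
  have sl := s.elim (@zl _) fun j => (mul_mem_cancel_left (right_mem_V4 p q)).1 (zl j)
  have g7 : g ⊳ g ⊳ g ⊳ g ⊳ g ⊳ g ⊳ g ⊳ p = p := by
    have e6 : g ⊳ (r * (p * q)) = p * r := by rw [map_mul, map_mul, gr, gp, gq, mul_assoc, ← mul_assoc q, qq, one_mul]
    rw [gp, gq, gr, map_mul _ p q, gp, gq, map_mul _ q r, gq, gr, e6, map_mul, gp, gr, k.comm, ← mul_assoc, qq, one_mul]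
  have G7 : ∀ x, g ⊳ g ⊳ g ⊳ g ⊳ g ⊳ g ⊳ g ⊳ x = (g ^ 7) ⊳ x := fun x => by simp only [cc, pow_succ, pow_zero, one_mul, mul_assoc]
  have nx : ∀ x, (g ^ 7) ⊳ x = x → (g ^ 7) ⊳ g ⊳ x = g ⊳ x := fun x j => by rw [cc, ← pow_succ, pow_succ', ← cc, j]
  rw [G7] at g7
  have g8 := gp ▸ nx p g7
  have yg : (g ^ 7) ⊳ y = y := mul_inv_eq_iff_eq_mul.2 (mem_cent.1 hy _ (pt.QR (cV.le
    (genC ab h.c8 k pV qV (nV.ge (pow_mem hg 7)) g7 g8 rV rl (gq ▸ nx q g8)))))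
  let : CommGroup (Zs Q) := { mul_comm := fun v w => Subtype.ext (ab_comm aY v.2 w.2) }
  have := fin7 (fun w => Subtype.ext (sq_one aY w.2)) ((Zs Q).normalizerMonoidHom ⟨g, nY hg⟩) (p := ⟨p, VY pV⟩)
    (q := ⟨q, VY qV⟩) (r := ⟨r, VY rV⟩) (y := ⟨y, yY⟩) (w := ⟨_, sY⟩) (Subtype.ext gp) (Subtype.ext gq) (Subtype.ext gr)
    (Subtype.ext ((G7 y).trans yg)) (Subtype.ext (show y * g ⊳ y * g ⊳ g ⊳ g ⊳ y * r = _ by simp [mul_assoc]))
    ((k.mem.1 sl).imp Subtype.ext (.imp Subtype.ext (.imp Subtype.ext Subtype.ext)))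
  exact rl (by rw [show r = _ from congrArg Subtype.val this]; exact sl)

end H19.MU
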