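import Cfsg.Agent.H24.ND0

/-! S4780: chunks `RO` and `RA`. -/

set_option autoImplicit false
set_option linter.unusedVariables false

open Subgroup MulAction H19 H20 H6 Cfsg H3.PT H3.GR H3.ND Module H24.ND
open scoped commutatorElement

namespace H19.ND

universe u

/-- an abelian group acting coprimely has a vector whose stabilizer acts trivially -/
theorem reg {G W : Type u} [Group G] [Finite G] [AddCommGroup W] [Finite W] [DistribMulAction G W]
    {H : Subgroup G} (ha : Ab H) (hc : (#H).Coprime (Nat.card W)) (U : AddSubgroup W)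
    (hU : ∀ g : G, ∀ w ∈ U, g • w ∈ U) :
    ∃ w ∈ U, ∀ c ∈ H, c • w = w → ∀ v ∈ U, c • v = v := by
  have : Nonempty U := ⟨0⟩
  obtain ⟨⟨w, hw⟩, hm⟩ := Finite.exists_min fun w : U => #(H ⊓ stabilizer G w.1)
  refine ⟨w, hw, fun c hc1 hcw v hv => by_contra fun hne => ?_⟩
  have h0 : BS.Fx W c ⊓ BS.Cm W c = ⊥ := BS.Fx_inf_Cm (s := #H)
    (fun z => by
      rw [show c ^ #H = 1 from congrArg Subtype.val (pow_card_eq_one' (x := (⟨c, hc1⟩ : H))),
        one_smul]) hc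
  have hz : ∀ z, c • z = z → z ∈ BS.Cm W c → z = 0 := fun z a b =>
    AddSubgroup.mem_bot.1 (h0 ▸ ⟨BS.mem_Fx.2 a, b⟩)
  have cm : ∀ d ∈ H, ∀ z : W, c • d • z = d • c • z := fun d hd z => by
    rw [← mul_smul, ← mul_smul, show c * d = d * c from
      congrArg Subtype.val (ha.1.1 (⟨c, hc1⟩ : H) ⟨d, hd⟩)]
  have key : ∀ d ∈ H, d • (w + (c • v - v)) = w + (c • v - v) → d • w = w := fun d hd e => by
    refine sub_eq_zero.1 (hz _ (by rw [smul_sub, cm d hd, hcw]) ⟨v - d • v, ?_⟩)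
    rw [smul_add, smul_sub, ← cm d hd] at e
    change c • (v - d • v) - (v - d • v) = _
    rw [smul_sub, eq_sub_of_add_eq e]
    abel
  have h1 : H ⊓ stabilizer G (w + (c • v - v)) ≤ H ⊓ stabilizer G w := fun d hd =>
    ⟨hd.1, key d hd.1 hd.2⟩
  have h2 := eq_of_le_of_card_ge h1 (hm ⟨w + (c • v - v), add_mem hw (sub_mem (hU c v hv) hv)⟩)
  have h3 : c • (w + (c • v - v)) = w + (c • v - v) := (h2.ge ⟨hc1, hcw⟩).2
  rw [smul_add, hcw, add_right_inj] at h3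
  exact hne (sub_eq_zero.1 (hz _ h3 (BS.sub_mem_Cm c v)))

theorem ro' {G : Type u} [Group G] [Finite G] {H X Y : Subgroup G} {p : ℕ} [X.Normal] [Y.Normal]
    (hX : PG p X) (hH : ¬ p ∣ #H) (ha : Ab H) (h1 : ⁅X, X⁆ ≤ Y) (h2 : Y ≤ X) :
    ∃ w : Du X, Y ≤ cker w.fn ∧ ∀ c ∈ H, cfj c w.fn = w.fn → Ce Y X c := by
  obtain ⟨w, hw, h⟩ := reg (W := Du X) ha
    ((PiN.of_not_dvd hH).coprime' (hX.dvd Du.card_dvd)) (Du.Kr h2) (Du.Kr_inv h2)
  refine ⟨w, hw, fun c hc e x hx => ?_⟩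
  have e1 : c • w = w := by
    rw [← mem_stabilizer_iff, Du.stab]; exact ⟨trivial, e⟩
  refine Du.sep h1 h2 (mul_mem (‹X.Normal›.conj_mem x hx c) (inv_mem hx)) fun v hv => ?_
  exact Du.mem_Fs.1 (show v ∈ Fs (Du X) (zpowers c) from zpowers_le.2 (h c hc e1 v hv))
    (commutator_mem_commutator (mem_zpowers c) hx)

theorem ro : RO.{u} := by
  intro G _ _ H X Y p _ _ _ hX hH ha h1 h2
  obtain ⟨w, a, b⟩ := ro' hX hH ha h1 h2
  exact ⟨w.fn, w.lin, a, b⟩

theorem ra : RA.{u} := by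
  intro G _ _ P H X Y p hXn hYn h h2 h3 h4
  have := h.nP
  have hXP : X ≤ P := h3.trans (der_le P)
  obtain ⟨w, a, b⟩ := ro' (h.pg.dvd (card_dvd_of_le hXP)) h.np h.ab
    ((commutator_mono le_rfl hXP).trans h4) h2
  by_cases e : X ≤ cker w.fn
  · obtain ⟨c, c1, c2⟩ := SetLike.not_le_iff_exists.1 fun e : H ≤ C(P) =>
      h.nV (le_sup_of_le_right (le_inf le_rfl (cents_symm e)))
    refine ⟨c, c1, c2, b c c1 ?_⟩
    have : c ∈ stabilizer G w := by rw [Du.eq_zero e]; exact smul_zero c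
    rw [Du.stab] at this
    exact this.2
  · obtain ⟨ψ, h5⟩ := exists_ovr hXP w.lin.irr
    obtain ⟨h5, h6⟩ := mem_ovr.1 h5
    obtain ⟨c, c1, c2, c3⟩ := h.st ψ h5 fun e1 => e (le_cker_of_below (irr_chr h5) hXP w.lin.irr h6
      le_rfl (h3.trans (lin_of_deg (irr_chr h5) e1).der_le))
    have h7 : P ≤ H20.inertia ⊤ w.fn := by
      rw [← Du.stab]
      exact Du.mem_Fs.2 (by rw [commutator_comm]; exact h4.trans a)
    have h8 := clifford_inv (normalIn_top.of_le hXP le_top) h5 w.lin.irr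
      (fun g hg x => congrFun (h7 hg).2 x) h6
    refine ⟨c, c1, c2, b c c1 (funext fun x => ?_)⟩
    by_cases hx : x ∈ X
    · have k1 := congrFun h8 x
      have k2 := congrFun h8 (c * x * c⁻¹)
      have k3 : ψ (c * x * c⁻¹) = ψ x := congrFun c3 x
      simp only [Res, LinearMap.coe_mk, AddHom.coe_mk, Pi.smul_apply, smul_eq_mul, hx,
        hXn.conj_mem x hx c, if_true] at k1 k2
      exact mul_left_cancel₀ h6 (k2.symm.trans (k3.trans k1))
    · rw [cfj_apply, w.lin.chr.2 x hx, w.lin.chr.2 _ fun e => hx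
        ((conj_mem_iff_of_norm (H5.RD.mem_nrm X c)).1 e)]

end H19.ND
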