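import Cfsg.Agent.H29.ND1
import Cfsg.Agent.H10.ND.A

/-! S4780: chunk `ML`. -/

set_option autoImplicit false
set_option linter.unusedVariables false
set_option linter.unusedSectionVars false

open Module LinearMap

namespace H19.NM

universe u

variable {p : ℕ} [Fact p.Prime] {A W Y : Type u} [AddCommGroup A] [Module (ZMod p) A] [Finite A]
  [AddCommGroup W] [Module (ZMod p) W] [Finite W] [Nontrivial W] [AddCommGroup Y] [Module (ZMod p) Y]
  [Finite Y] [Nontrivial Y]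

structure Hy (b : A →ₗ[ZMod p] A →ₗ[ZMod p] W) (m : W →ₗ[ZMod p] A →ₗ[ZMod p] Y)
    (n : Y →ₗ[ZMod p] A →ₗ[ZMod p] ZMod p) (ω : W →ₗ[ZMod p] W →ₗ[ZMod p] ZMod p) : Prop where
  bx : ∀ x, b x x = 0
  wx : ∀ w, ω w w = 0
  j3 : ∀ x y z, m (b x y) z + m (b y z) x + m (b z x) y = 0
  j4 : ∀ w x y, n (m w x) y - n (m w y) x = ω w (b x y)
  s1 : ∀ x, x ≠ 0 → Function.Surjective (b x)
  s2 : ∀ w, w ≠ 0 → Function.Surjective (m w)
  nd : ∀ y, (∀ x, n y x = 0) → y = 0
  kp : ∀ T : Submodule (ZMod p) A, (∀ x ∈ T, x ≠ 0 → LinearMap.ker (b x) = T) →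
    ∀ I : Submodule (ZMod p) Y, (∀ w, ∀ x ∈ T, m w x ∈ I) →
    ∃ κ : T →ₗ[ZMod p] T →ₗ[ZMod p] (Y ⧸ I), (∀ x, κ x x = 0) ∧ ∀ x, x ≠ 0 → Function.Surjective (κ x)

theorem anti {V U : Type u} [AddCommGroup V] [Module (ZMod p) V] [AddCommGroup U] [Module (ZMod p) U]
    {β : V →ₗ[ZMod p] V →ₗ[ZMod p] U} (h : ∀ x, β x x = 0) (x y : V) : β x y = - β y x := by
  have := h (x + y)
  simp only [map_add, LinearMap.add_apply, h, zero_add, add_zero] at this
  exact eq_neg_of_add_eq_zero_right this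

theorem anti0 {V : Type u} [AddCommGroup V] [Module (ZMod p) V]
    {β : V →ₗ[ZMod p] V →ₗ[ZMod p] ZMod p} (h : ∀ x, β x x = 0) (x y : V) : β x y = - β y x := by
  have := h (x + y)
  simp only [map_add, LinearMap.add_apply, h, zero_add, add_zero] at this
  exact eq_neg_of_add_eq_zero_right this

theorem rk {V U : Type u} [AddCommGroup V] [Module (ZMod p) V] [AddCommGroup U] [Module (ZMod p) U]
    [Finite V] {f : V →ₗ[ZMod p] U} (h : Function.Surjective f) :
    finrank (ZMod p) U + finrank (ZMod p) (ker f) = finrank (ZMod p) V := by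
  rw [← f.finrank_range_add_finrank_ker, range_eq_top.2 h, finrank_top]

theorem rkf {V U : Type u} [AddCommGroup V] [Module (ZMod p) V] [AddCommGroup U] [Module (ZMod p) U]
    [Finite V] [Finite U] {f : V →ₗ[ZMod p] U →ₗ[ZMod p] ZMod p} (h : ∀ v, (∀ x, f v x = 0) → v = 0) :
    finrank (ZMod p) V + finrank (ZMod p) (ker f.flip) = finrank (ZMod p) U := by
  have h1 : Function.Surjective f.flip := LinearMap.flip_surjective_iff₁.2
    ((injective_iff_map_eq_zero f).2 fun v e => h v fun x => by rw [e]; rfl)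
  rw [← rk h1, Subspace.dual_finrank_eq]

variable {b : A →ₗ[ZMod p] A →ₗ[ZMod p] W} {m : W →ₗ[ZMod p] A →ₗ[ZMod p] Y}
  {n : Y →ₗ[ZMod p] A →ₗ[ZMod p] ZMod p} {ω : W →ₗ[ZMod p] W →ₗ[ZMod p] ZMod p}

local notation "dim " => finrank (ZMod p)

namespace Hy
variable (h : Hy b m n ω)
include h

theorem sw {x v : A} (e : b x v = 0) (z : A) : m (b x z) v = m (b v z) x := by
  have := h.j3 x z v
  rw [anti h.bx v x, e, neg_zero, map_zero, LinearMap.zero_apply, add_zero, anti h.bx z v, map_neg,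
    LinearMap.neg_apply] at this
  exact add_neg_eq_zero.1 this

theorem mI {x v : A} (x0 : x ≠ 0) (e : b x v = 0) (w : W) : m w v ∈ range (m.flip x) := by
  obtain ⟨z, rfl⟩ := h.s1 x x0 w
  exact ⟨b v z, (h.sw e z).symm⟩

theorem dT {ν : Y →ₗ[ZMod p] ZMod p} (h0 : ν ≠ 0) :
    dim W + dim (ker (m.compr₂ ν).flip) = dim A :=
  rkf fun w e => by_contra fun w0 => h0 (LinearMap.ext fun y => by
    obtain ⟨x, rfl⟩ := h.s2 w w0 y
    exact e x)

theorem kT {ν : Y →ₗ[ZMod p] ZMod p} (h0 : ν ≠ 0) {x : A} (x0 : x ≠ 0) (hx : ∀ w, ν (m w x) = 0) :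
    ker (b x) = ker (m.compr₂ ν).flip := by
  refine Submodule.eq_of_le_of_finrank_eq (fun v hv => LinearMap.ext fun w => ?_) ?_
  · obtain ⟨z, hz⟩ := h.mI x0 hv w
    change ν (m w v) = 0
    rw [← hz]; exact hx z
  · have := h.dT h0
    have := rk (h.s1 x x0)
    omega

theorem ab {ν : Y →ₗ[ZMod p] ZMod p} (h0 : ν ≠ 0) {x : A} (x0 : x ≠ 0) (hx : ∀ w, ν (m w x) = 0) :
    ∀ y ∈ ker (b x), y ≠ 0 → ker (b y) = ker (b x) := fun y hy y0 => by
  rw [h.kT h0 x0 hx] at hy ⊢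
  exact h.kT h0 y0 fun w => LinearMap.congr_fun hy w

theorem nA : Nontrivial A := by
  obtain ⟨w, w0⟩ := exists_ne (0 : W)
  exact (h.s2 w w0).nontrivial

theorem exT : ∃ ν : Y →ₗ[ZMod p] ZMod p, ν ≠ 0 ∧ ∃ x, x ≠ 0 ∧ ∀ w, ν (m w x) = 0 := by
  have := h.nA
  obtain ⟨ν, h0, -⟩ := Submodule.exists_le_ker_of_lt_top (⊥ : Submodule (ZMod p) Y) bot_lt_top
  have h1 := h.dT h0
  have h2 := H10.ND.pf' b h.bx h.s1
  have h3 : 0 < dim W := finrank_pos
  obtain ⟨x, hx, x0⟩ := (ker (m.compr₂ ν).flip).exists_mem_ne_zero_of_ne_bot fun e => by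
    rw [e, finrank_bot] at h1; omega
  exact ⟨ν, h0, x, x0, fun w => LinearMap.congr_fun hx w⟩

theorem a2 : dim A = 2 * dim W := by
  have := h.nA
  obtain ⟨ν, h0, x, x0, hx⟩ := h.exT
  have h1 := rk (h.s1 x x0)
  have h2 := H10.ND.pf' b h.bx h.s1
  have h3 : 0 < dim W := finrank_pos
  obtain ⟨z, hz⟩ : ∃ z, z ∉ ker (b x) := by
    by_contra! e
    rw [Submodule.eq_top_iff'.2 e, finrank_top] at h1; omega
  have h4 := finrank_le_finrank_of_injective (f := (b z).domRestrict (ker (b x)))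
    ((injective_iff_map_eq_zero _).2 fun t e => by_contra fun t0 => hz (by
      rw [← h.ab h0 x0 hx t t.2 fun e' => t0 (Subtype.ext e'), mem_ker, anti h.bx]
      exact neg_eq_zero.2 e))
  omega

theorem dk {x : A} (x0 : x ≠ 0) : dim (ker (b x)) = dim W := by
  have := rk (h.s1 x x0); have := h.a2; omega

theorem kb {x : A} (x0 : x ≠ 0) (ha : ∀ y ∈ ker (b x), y ≠ 0 → ker (b y) = ker (b x)) :
    2 * dim Y ≤ dim W + 2 * dim (range (m.flip x)) := by
  obtain ⟨κ, k1, k2⟩ := h.kp _ ha (range (m.flip x)) fun w v hv => h.mI x0 hv w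
  have : Nontrivial (ker (b x)) := ⟨⟨x, h.bx x⟩, 0, fun e => x0 (congrArg Subtype.val e)⟩
  have h1 := H10.ND.pf' κ k1 k2
  have h2 := (range (m.flip x)).finrank_quotient_add_finrank
  have h3 := h.dk x0
  omega

theorem dE : dim Y + dim (ker n.flip) = 2 * dim W := h.a2 ▸ rkf h.nd

theorem exE : ∃ e ∈ ker n.flip, e ≠ 0 := by
  refine Submodule.exists_mem_ne_zero_of_ne_bot fun e => ?_
  obtain ⟨ν, h0, x, x0, hx⟩ := h.exT
  have h1 := h.kb x0 (h.ab h0 x0 hx)
  have h2 := h.dE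
  have h3 : 0 < dim W := finrank_pos
  have h4 := finrank_range_le (m.flip x)
  rw [e, finrank_bot] at h2
  omega

theorem chi {e : A} (he : e ∈ ker n.flip) (w : W) (v : A) : n (m w e) v = ω w (b e v) := by
  rw [← h.j4, show n (m w v) e = 0 from LinearMap.congr_fun he _, sub_zero]

theorem kE {e : A} (he : e ∈ ker n.flip) (e0 : e ≠ 0) : ker (m.flip e) = ker ω := by
  ext w
  refine ⟨fun a => LinearMap.ext fun z => ?_, fun a => h.nd _ fun v => ?_⟩
  · obtain ⟨v, rfl⟩ := h.s1 e e0 z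
    rw [← h.chi he, show m w e = 0 from a]; simp
  · rw [flip_apply, h.chi he, mem_ker.1 a]; rfl

theorem dI {e : A} (he : e ∈ ker n.flip) (e0 : e ≠ 0) :
    dim (range (m.flip e)) + dim (ker ω) = dim W := by
  rw [← h.kE he e0, finrank_range_add_finrank_ker]

theorem sub {e : A} (he : e ∈ ker n.flip) (e0 : e ≠ 0) {t : A} (ht : t ∈ ker (b e))
    (hE : t ∉ ker n.flip) : n.flip t ≠ 0 ∧ ∀ w, n.flip t (m w e) = 0 :=
  ⟨hE, fun w => by rw [flip_apply, h.chi he, mem_ker.1 ht, map_zero]⟩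

theorem abI {e : A} (e0 : e ≠ 0) (hI : range (m.flip e) ≠ ⊤) :
    ∀ y ∈ ker (b e), y ≠ 0 → ker (b y) = ker (b e) := by
  obtain ⟨ν, h0, h1⟩ := Submodule.exists_le_ker_of_lt_top _ hI.lt_top
  exact h.ab h0 e0 fun w => h1 ⟨w, rfl⟩

theorem nO : ker ω ≠ ⊤ := fun hO => by
  obtain ⟨e, he, e0⟩ := h.exE
  have k : ∀ x ∈ ker n.flip, ∀ w, m w x = 0 := fun x hx w => by
    by_cases x0 : x = 0
    · rw [x0, map_zero]
    · exact (h.kE hx x0).ge (hO.ge trivial : w ∈ ker ω)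
  obtain ⟨ν, h0, -⟩ := Submodule.exists_le_ker_of_lt_top (⊥ : Submodule (ZMod p) Y) bot_lt_top
  have h1 : ker n.flip ≤ ker (m.compr₂ ν).flip := fun x hx => LinearMap.ext fun w => by
    change ν (m w x) = 0
    rw [k x hx, map_zero]
  have h2 := Submodule.finrank_mono h1
  have h3 := h.dT h0
  have h4 := h.kb e0 (h.ab h0 e0 fun w => by rw [k e he, map_zero])
  have h5 := h.dI he e0
  have h6 := h.dE
  have h7 := h.a2
  have h8 : 0 < dim W := finrank_pos
  rw [hO, finrank_top] at h5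
  omega

theorem dle : dim (ker n.flip) ≤ dim W := by
  obtain ⟨w, hw⟩ : ∃ w, w ∉ ker ω := by
    by_contra! e
    exact h.nO (Submodule.eq_top_iff'.2 e)
  have h1 : ker (m w) ⊓ ker n.flip = ⊥ := eq_bot_iff.2 fun x hx => by_contra fun x0 =>
    hw ((h.kE hx.2 x0).le hx.1)
  have h2 := Submodule.finrank_sup_add_finrank_inf_eq (ker (m w)) (ker n.flip)
  have h3 := Submodule.finrank_le (ker (m w) ⊔ ker n.flip)
  have h4 := rk (h.s2 w fun e => hw (e ▸ zero_mem _))
  have h5 := h.dE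
  have h6 := h.a2
  rw [h1, finrank_bot] at h2
  omega

theorem abE {e : A} (he : e ∈ ker n.flip) (e0 : e ≠ 0) :
    ∀ y ∈ ker (b e), y ≠ 0 → ker (b y) = ker (b e) := by
  by_cases hI : range (m.flip e) = ⊤
  · have h1 := h.dI he e0
    have h2 := h.dE
    have h3 := h.dle
    rw [hI, finrank_top] at h1
    have k : ∀ x ∈ ker n.flip, x ≠ 0 → ker (b x) = ker n.flip := fun x hx x0 => by
      have h4 := h.dI hx x0
      have h5 : range (m.flip x) = ⊤ := Submodule.eq_top_of_finrank_eq (by omega)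
      refine Submodule.eq_of_le_of_finrank_eq (fun t ht => by_contra fun hE => ?_)
        (by rw [h.dk x0]; omega)
      obtain ⟨a, c⟩ := h.sub hx x0 ht hE
      exact a (LinearMap.ext fun y => by
        obtain ⟨w, rfl⟩ := h5.ge (trivial : y ∈ ⊤)
        exact c w)
    intro y hy y0
    rw [k e he e0] at hy ⊢
    exact k y hy y0
  · exact h.abI e0 hI

theorem iso {e : A} (he : e ∈ ker n.flip) (e0 : e ≠ 0) {t u : A} (ht : t ∈ ker (b e))
    (hu : u ∈ ker (b e)) (w : W) : n (m w u) t = 0 := by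
  by_cases hE : t ∈ ker n.flip
  · exact LinearMap.congr_fun hE _
  · obtain ⟨a, c⟩ := h.sub he e0 ht hE
    rw [h.kT a e0 c] at hu
    exact LinearMap.congr_fun hu w

theorem fin : False := by
  obtain ⟨e, he, e0⟩ := h.exE
  have ha := h.abE he e0
  obtain ⟨σ, hσ⟩ := (b e).exists_rightInverse_of_surjective (range_eq_top.2 (h.s1 e e0))
  have hs : ∀ w, b e (σ w) = w := LinearMap.congr_fun hσ
  let S : A →ₗ[ZMod p] W →ₗ[ZMod p] W := b.compl₂ σ
  have S0 : ∀ t w, S t w = b t (σ w) := fun _ _ => rfl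
  have cm : ∀ t ∈ ker (b e), ∀ u ∈ ker (b e), b t u = 0 := fun t ht u hu => by
    by_cases t0 : t = 0
    · rw [t0, map_zero, LinearMap.zero_apply]
    · exact (ha t ht t0).ge hu
  have inj : ∀ t ∈ ker (b e), ∀ w, S t w = 0 → t = 0 ∨ w = 0 := fun t ht w e1 => by
    by_cases t0 : t = 0
    · exact Or.inl t0
    · exact Or.inr ((hs w).symm.trans ((ha t ht t0).le e1))
  have M : ∀ u ∈ ker (b e), ∀ w, m w u = m (S u w) e := fun u hu w => by
    rw [S0, ← h.sw hu, hs]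
  have C : ∀ t ∈ ker (b e), ∀ u ∈ ker (b e), ∀ w, S t (S u w) - S u (S t w) ∈ ker ω :=
    fun t ht u hu w => by
      rw [← h.kE he e0, mem_ker, flip_apply, map_sub, LinearMap.sub_apply, ← M t ht, ← M u hu, S0, S0,
        h.sw (cm u hu t ht), sub_self]
  have D : ∀ t ∈ ker (b e), ∀ w x, n (m w (σ x)) t = ω (S t w) x - ω w (S t x) := fun t ht w x => by
    have h1 := h.j4 w (σ x) t
    rw [M t ht, h.chi he, hs, anti h.bx, map_neg, ← S0] at h1
    linear_combination h1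
  have J : ∀ t ∈ ker (b e), ∀ u ∈ ker (b e), ∀ x y,
      ω (S t (S u x)) y - ω (S u x) (S t y) = ω (S t (S u y)) x - ω (S u y) (S t x) :=
    fun t ht u hu x y => by
      have h1 := congrArg (fun z => n z t) (h.j3 u (σ x) (σ y))
      simp only [map_add, LinearMap.add_apply, h.iso he e0 ht hu, map_zero, LinearMap.zero_apply, add_zero] at h1
      rw [anti h.bx (σ y), map_neg, LinearMap.neg_apply, map_neg, LinearMap.neg_apply] at h1
      rw [← D t ht, ← D t ht, S0, S0]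
      exact add_neg_eq_zero.1 h1
  have key : ∀ T : Submodule (ZMod p) A, T ≤ ker (b e) → e ∈ T →
      (∀ t ∈ T, ∀ w ∈ ker ω, S t w ∈ ker ω) → dim W ≤ dim (ker ω) + dim T → False := by
    intro T hT eT hO hd
    have : Nontrivial (W ⧸ ker ω) := Submodule.Quotient.nontrivial_iff.2 h.nO
    have : Finite (W ⧸ ker ω) := Finite.of_surjective _ (ker ω).mkQ_surjective
    let ω1 : (W ⧸ ker ω) →ₗ[ZMod p] W →ₗ[ZMod p] ZMod p := (ker ω).liftQ ω le_rfl
    let ω2 : (W ⧸ ker ω) →ₗ[ZMod p] (W ⧸ ker ω) →ₗ[ZMod p] ZMod p :=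
      ((ker ω).liftQ ω1.flip fun w hw => LinearMap.ext fun x => by
        obtain ⟨x, rfl⟩ := (ker ω).mkQ_surjective x
        change ω x w = 0
        rw [anti0 h.wx, mem_ker.1 hw]; simp).flip
    have w2 : ∀ x y, ω2 ((ker ω).mkQ x) ((ker ω).mkQ y) = ω x y := fun _ _ => rfl
    let S2 : T →ₗ[ZMod p] (W ⧸ ker ω) →ₗ[ZMod p] (W ⧸ ker ω) :=
      ((ker ω).liftQ ((S.domRestrict T).compr₂ (ker ω).mkQ).flip fun w hw =>
        LinearMap.ext fun t => (Submodule.Quotient.mk_eq_zero _).2 (hO t t.2 w hw)).flip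
    have s2 : ∀ t x, S2 t ((ker ω).mkQ x) = (ker ω).mkQ (S t x) := fun _ _ => rfl
    have z : ∀ x, (ker ω).mkQ x = 0 ↔ x ∈ ker ω := fun x => Submodule.Quotient.mk_eq_zero _
    refine H29.ND.sa p T (W ⧸ ker ω) ω2 S2 ⟨e, eT⟩ (fun a => ?_) (fun a h1 => ?_) ?_
      (fun t a h1 => ?_) (fun a => ?_) (fun t t' a => ?_) (fun t t' a c => ?_)
    · obtain ⟨a, rfl⟩ := (ker ω).mkQ_surjective a
      exact h.wx a
    · obtain ⟨a, rfl⟩ := (ker ω).mkQ_surjective a
      exact (z a).2 (LinearMap.ext fun y => h1 ((ker ω).mkQ y))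
    · have := (ker ω).finrank_quotient_add_finrank
      omega
    · obtain ⟨a, rfl⟩ := (ker ω).mkQ_surjective a
      by_cases t0 : t = 0
      · exact Or.inl t0
      have i1 : Function.Injective (S t) := (injective_iff_map_eq_zero _).2 fun w e1 =>
        (inj t (hT t.2) w e1).resolve_left fun e2 => t0 (Subtype.ext e2)
      obtain ⟨c, hc⟩ := Finite.surjective_of_injective
        (f := fun w : ker ω => (⟨S t w, hO t t.2 w w.2⟩ : ker ω))
        (fun x y e1 => Subtype.ext (i1 (congrArg Subtype.val e1))) ⟨S t a, (z _).1 h1⟩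
      exact Or.inr ((z a).2 (i1 (congrArg Subtype.val hc) ▸ c.2))
    · obtain ⟨a, rfl⟩ := (ker ω).mkQ_surjective a
      rw [s2, S0, hs]
    · obtain ⟨a, rfl⟩ := (ker ω).mkQ_surjective a
      rw [s2, s2, s2, s2, ← sub_eq_zero, ← map_sub, z]
      exact C t (hT t.2) t' (hT t'.2) a
    · obtain ⟨a, rfl⟩ := (ker ω).mkQ_surjective a
      obtain ⟨c, rfl⟩ := (ker ω).mkQ_surjective c
      simp only [s2, w2]
      exact J t (hT t.2) t' (hT t'.2) a c
  by_cases hO : ker ω = ⊥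
  · exact key _ le_rfl (h.bx e) (fun t _ w hw => by
      rw [hO] at hw; rw [(Submodule.mem_bot _).1 hw, map_zero]; exact zero_mem _)
      (by rw [h.dk e0]; omega)
  obtain ⟨s, hs1, s0⟩ := Submodule.exists_mem_ne_zero_of_ne_bot hO
  have hE : ∀ t ∈ ker (b e) ⊓ ker n.flip, ∀ w ∈ ker ω, S t w ∈ ker ω := fun t ht w hw =>
    LinearMap.ext fun x => by
      have h1 := D t ht.1 w x
      rw [show n (m w (σ x)) t = 0 from LinearMap.congr_fun ht.2 _, mem_ker.1 hw] at h1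
      simpa using h1.symm
  refine key _ inf_le_left ⟨h.bx e, he⟩ hE ?_
  have h1 := finrank_le_finrank_of_injective
    (f := ((S.flip s).domRestrict (ker (b e) ⊓ ker n.flip)).codRestrict (ker ω) fun t => hE t t.2 s hs1)
    ((injective_iff_map_eq_zero _).2 fun t e1 => Subtype.ext
      ((inj t t.2.1 s (congrArg Subtype.val e1)).resolve_right s0))
  have h2 : (ker n.flip).map (b e) ≤ ker ω := by
    rintro _ ⟨v, hv, rfl⟩
    refine LinearMap.ext fun w => ?_
    rw [anti0 h.wx, ← h.chi he, show n (m w e) v = 0 from LinearMap.congr_fun hv _]; simp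
  have h3 := Submodule.finrank_mono h2
  have h4 := ((b e).domRestrict (ker n.flip)).finrank_range_add_finrank_ker
  rw [range_domRestrict, ker_domRestrict, ← Submodule.finrank_map_subtype_eq,
    Submodule.map_comap_subtype, inf_comm] at h4
  have h5 := h.kb e0 ha
  have h6 := h.dI he e0
  have h7 := h.dE
  omega

end Hy

theorem ml : H24.ND.ML.{u} := by
  intro p _ A W Y _ _ _ _ _ _ _ _ _ _ _ b m n ω h1 h2 h3 h4 h5 h6 h7 h8
  exact Hy.fin ⟨h1, h2, h3, h4, h5, h6, h7, h8⟩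

end H19.NM
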