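/-
S5258 chunks E1, E2, E3, E5: essential subgroups of a Sylow p-subgroup of PSU5(q).
-/
import Cfsg.Agent.H8.PU3

set_option autoImplicit false
set_option linter.unusedSectionVars false
set_option linter.unusedVariables false

namespace H19.PU
open Subgroup H25 H25.FS H8.PU H8.PU.Cd
universe u v
variable {K : Type v} [Field K] [Finite K] {σ : K →+* K} [IV σ] {Γ : Type u} [Group Γ] [Finite Γ] {p : ℕ} [Fact p.Prime]
  [CharP K p] {S P A B D X Y : Subgroup Γ} {ev : Cd σ →* Γ} {v w : Γ}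

omit [CharP K p] in
theorem idx_on (hP : IsPGroup p P) (hv : v ∈ P) (hB : B ≤ nz P) (on : On v B D (fr P)) :
    (fr P).relIndex D ≤ P.relIndex B :=
  idx_le (fun u => v * u * v⁻¹ * u⁻¹) on fun u hu w _ k => by
    simpa [mul_assoc] using conj_mem_of_mem_nz (nz_le_nz_fr P (hB hu)) (cm_fr hP hv k)

/-- the commutators with `v` -/
def cms (v : Γ) (B : Subgroup Γ) (h : Cm v B (cz B)) : Subgroup Γ where
  carrier := {d | ∃ w ∈ B, v * w * v⁻¹ * w⁻¹ = d}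
  one_mem' := ⟨1, one_mem _, by simp⟩
  mul_mem' := by
    rintro _ _ ⟨w, hw, rfl⟩ ⟨w', hw', rfl⟩
    refine ⟨w * w', mul_mem hw hw', ?_⟩
    rw [← mem_cz.1 (le_cz_comm.1 (le_refl (cz B)) hw) _ (h w' hw')]
    group
  inv_mem' := by
    rintro _ ⟨w, hw, rfl⟩
    refine ⟨w⁻¹, inv_mem hw, ?_⟩
    rw [← mem_cz.1 (le_cz_comm.1 (le_refl (cz B)) hw) _ (h _ (inv_mem hw))]
    group

theorem e1 (dff : DFF Γ p) : E1 σ Γ p := fun S P A ev h e g hP => by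
  have a0 : (A0 σ).map ev ≤ P := e.cP (h.le _) hP h.c2A
  have nQ : (Q2 σ).map ev ≤ nz P := h.c22.nz' hP a0
  have cA : (A0 σ).map ev ≤ cz ((Q2 σ).map ev) := h.c2A.symm.cz
  refine le_antisymm hP (by_contra fun n => ?_)
  by_cases z : P ⊓ cz P ≤ (A0 σ).map ev
  · exact n fun x hx => e.ch [P ⊓ cz P] ⟨e.z_n, trivial⟩ (h.le _ hx) (nQ hx)
      ⟨h.c22.cm hx hP (le_inf a0 (cA.trans (cz_anti hP))), h.c2A.cm hx z bot_le⟩
  obtain ⟨v, ⟨hv, cv⟩, z⟩ := SetLike.not_le_iff_exists.1 z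
  obtain ⟨c, hc, rfl⟩ := hP hv
  have l : ∀ u : Cd σ, ev u ∈ P → u.a = 0 ∧ ∃ l, σ l = l ∧ u.b = l * c.b ∧ u.x = l * c.x := fun u hu => by
    have k := mem_cz'.1 cv _ hu
    have k0 := hP hu
    cs h [] at k k0 hc z
    refine ⟨k0, ?_⟩
    by_cases x0 : c.x = 0
    · have b0 : c.b ≠ 0 := fun b0 => z ⟨hc, b0, x0⟩
      obtain ⟨l, l1, l2⟩ := ex_fx (σ := σ) (c := u.b) b0 (by grind)
      exact ⟨l, l1, l2, by rw [x0, mul_zero, ← sz (σ := σ)]; grind⟩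
    · obtain ⟨l, l1, l2⟩ := ex_fx (σ := σ) (c := u.x) x0 (by grind)
      refine ⟨l, l1, mul_right_cancel₀ (sn (σ := σ) x0) ?_, l2⟩
      have := congrArg σ l2
      rw [map_mul, l1] at this
      grind
  have cm : Cm (ev c) ((Q2 σ).map ev) (cz ((Q2 σ).map ev)) := h.c22.cm (h.mm.2 hc) le_rfl cA
  have f := dff S P A _ (cms _ _ cm) e g (h.le _) nQ n (h.c22.mono le_rfl le_rfl a0) (fun b hb => a0 (h.pw2 hb))
    (fun w hw u hu => by
      obtain ⟨u, -, rfl⟩ := hP hu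
      obtain ⟨u0, l, l1, l2, l3⟩ := l u hu
      ob h hw c' hc'
      refine ⟨ev (el 0 (-l * c'.b) 0 (-l * c'.x)), by cs h [], ?_⟩
      cs h [] at hc hc'
      cs h [hc, hc', u0, l1, l2, l3]
      cg)
    (by rintro _ ⟨w, hw, rfl⟩; exact a0 (h.c22 _ (h.mm.2 hc) w hw))
    (idx_on e.pP hv nQ (by rintro _ ⟨w, hw, rfl⟩; exact ⟨w, hw, by rw [inv_mul_cancel]; exact one_mem _⟩))
  obtain ⟨t, ht, tP⟩ := SetLike.not_le_iff_exists.1 n
  have i1 := f.le (h.le _ ht) (nQ ht) tP (h.c2A.cm ht le_rfl bot_le)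
  have i2 : ((A0 σ).map ev).relIndex P ≤ Nat.card (Fx σ) :=
    idx_le' (fun l : Fx σ => ev (el 0 (l * c.b) 0 (l * c.x))) fun u hu => by
      obtain ⟨u, -, rfl⟩ := hP hu
      obtain ⟨u0, l, l1, l2, l3⟩ := l u hu
      exact ⟨⟨l, l1⟩, by cs h [u0, l2, l3]; cg⟩
  refine (fx_lt σ).not_ge (le_trans ?_ (i1.trans i2))
  by_cases x0 : c.x = 0
  · refine le_idx (fun i => ev (xx i)) (fun i => by cs h []) fun i j k => ?_
    rw [h.inv, h.mul] at k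
    obtain ⟨-, l, -, -, l3⟩ := l _ k
    cs h [x0] at l3
    grind
  · refine le_idx (fun i => ev (xb i)) (fun i => by cs h []) fun i j k => ?_
    rw [h.inv, h.mul] at k
    obtain ⟨-, l, -, l2, l3⟩ := l _ k
    cs h [] at l2 l3
    grind

theorem e2 (dff : DFF Γ p) : E2 σ Γ p := fun S P A ev h e g hP => by_contra fun n => by
  have z1 : (Z σ).map ev ≤ P := e.cP (h.le _) e.le h.cS1
  have n2 : (Z2 σ).map ev ≤ nz P := h.cS2.symm.nz' e.le z1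
  have l2 : (Z2 σ).map ev ≤ (A0 σ).map ev := by sl h
  by_cases z : zo p P ≤ (Q2 σ).map ev
  · exact n fun x hx => e.ch [zo p P] ⟨e.zo_n, trivial⟩ (h.le _ hx) (n2 hx)
      ⟨h.cS2.symm.cm hx e.le fun w hw => ⟨z1 hw, cz_anti e.le (h.cS1.symm.cz hw), h.pwA ((by sl h : (Z σ).map ev ≤ _) hw)⟩,
        h.c2A.symm.cm (l2 hx) z bot_le⟩
  obtain ⟨v, ⟨hv, cv, -⟩, z⟩ := SetLike.not_le_iff_exists.1 z
  obtain ⟨c, -, rfl⟩ := h.ex (e.le hv)
  cs h [] at z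
  have f := dff S P A _ ((Z σ).map ev) e g (h.le _) n2 n (h.cS2.mono (h.le _) le_rfl z1)
    (fun b hb => h.pwA (p := p) (l2 hb) ▸ one_mem P) (h.cS2.symm.mono le_rfl e.le le_rfl) z1 (idx_on e.pP hv n2 (by
      rintro _ ⟨u, hu, rfl⟩
      obtain ⟨y, k⟩ := ex_sk (h.skZ hu) z
      refine ⟨ev (xc y), by cs h [], ?_⟩
      rw [show ev c * ev (xc y) * (ev c)⁻¹ * (ev (xc y))⁻¹ = ev u by
        rw [cm_eq]; cs h [] at hu; cs h [hu, ← k]; cg]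
      simp))
  have nz1 : ¬ (Z σ).map ev ≤ fr P := fun k => n (relIndex_eq_one.1 (f.eq ▸ relIndex_eq_one.2 k))
  have cm : ∀ u : Cd σ, ev u ∈ P → ev u * ev c = ev c * ev u := fun u hu => mem_cz'.1 cv _ hu
  by_cases x0 : c.x = 0
  · have r : P ≤ (R1 σ).map ev := fun u hu => by
      obtain ⟨u, -, rfl⟩ := h.ex (e.le hu)
      have := cm u hu
      cs h [x0] at this ⊢
      grind
    have k : ∀ b, ∃ u : Cd σ, u ∈ Z2 σ ∧ (ev u)⁻¹ * ev (xb b) ∈ P := fun b => by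
      obtain ⟨_, ⟨u, hu, rfl⟩, k⟩ := f.nm _ (h.mS (xb b)) (h.cRW.symm.nz' r z1 (by cs h []))
      exact ⟨u, hu, k⟩
    refine nz1 (h.Zle' fun b b' => ?_)
    obtain ⟨u, hu, k1⟩ := k b
    obtain ⟨u', hu', k2⟩ := k b'
    convert cm_fr e.pP k1 k2 using 1
    cs h [] at hu hu'
    cs h [hu, hu']
    cg
  have l : ∀ u : Cd σ, ev u ∈ P → ∃ l, σ l = l ∧ u.a = l * c.a ∧ u.x = l * c.x := fun u hu => by
    have k := cm u hu
    cs h [] at k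
    obtain ⟨l, l1, l2⟩ := ex_fx (σ := σ) (c := u.x) x0 (by grind)
    exact ⟨l, l1, mul_right_cancel₀ x0 (by grind), l2⟩
  have c1 : P ≤ (C1 σ c.a).map ev := fun u hu => by
    obtain ⟨u, -, rfl⟩ := h.ex (e.le hu)
    obtain ⟨l, l1, l2, -⟩ := l u hu
    cs h [l1, l2]
    ring
  have zz := e.cP (h.le _) c1 (h.cC1 z)
  have sx := sn (σ := σ) x0
  obtain ⟨β, hβ⟩ : ∃ β, β * σ c.x = c.a := ⟨c.a / σ c.x, by field_simp⟩
  obtain ⟨_, ⟨u, hu, rfl⟩, k⟩ := f.nm _ (h.mS (xb β)) (mem_nz_of_conj_mem fun u hu => by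
    refine (mul_mem_cancel_right (inv_mem hu)).1 (zz ?_)
    obtain ⟨u, -, rfl⟩ := h.ex (e.le hu)
    obtain ⟨l, l1, l2, l3⟩ := l u hu
    cs h [l1, l2, l3, ← hβ]
    cg)
  rw [h.inv, h.mul] at k
  have := cm _ k
  cs h [] at hu
  cs h [hu] at this
  grind

theorem e3 (dff : DFF Γ p) : E3 σ Γ p := fun S P A ev h e g hQ h2 hR => by
  have zf := h.frZ e.pP h2 e.le hQ
  have z1 : (Z σ).map ev ≤ P := zf.trans (fr_le P)
  have wl : (W σ).map ev ≤ P := fun x hx =>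
    e.ch [] trivial (h.le _ hx) (h.cRW.symm.nz' hR z1 hx) (h.cRW.symm.cm hx hR zf)
  have nS : S ≤ nz P := h.cSR.nz' hR wl
  by_cases q : P ≤ (Q1 σ).map ev
  · exact le_antisymm q fun x hx => e.ch [] trivial (h.le _ hx) (nS (h.le _ hx)) (h.c11.cm hx q zf)
  exfalso
  obtain ⟨v, hv, q⟩ := SetLike.not_le_iff_exists.1 q
  obtain ⟨c, hc, rfl⟩ := hR hv
  cs h [] at hc q
  have y0 : c.y ≠ 0 := fun k => q ⟨hc, k⟩
  by_cases n : (R1 σ).map ev ≤ P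
  swap
  · have f := dff S P A _ ((Z2 σ).map ev) e g (h.le _) ((h.le _).trans nS) n (h.cRR.mono le_rfl le_rfl h2)
      (fun b hb => wl (h.pwR hb)) (h.cRR.mono le_rfl hR le_rfl) h2 (idx_on e.pP hv ((h.le _).trans nS) (by
        rintro _ ⟨u, hu, rfl⟩
        refine ⟨ev (xa (-u.c / c.y)), by cs h [], zf ?_⟩
        obtain ⟨α, hα⟩ : ∃ α, u.c = -α * c.y := ⟨-u.c / c.y, by field_simp⟩
        rw [show -u.c / c.y = α by rw [hα]; field_simp]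
        cs h [] at hu
        cs h [hu, hc, hα]
        cg))
    obtain ⟨b, hb, k⟩ := f.nm _ (h.mS (xx 1)) (nS (h.mS _))
    have := (mul_mem_cancel_left (inv_mem hb)).1 (hR k)
    cs h [] at this
    exact one_ne_zero this
  obtain rfl := le_antisymm hR n
  have aZ : A ≤ nz ((Z σ).map ev) := fun g hg => nz_of_cz (fun w => ⟨fun k => ⟨z1 k, cz_anti (h.le _) (h.cS1.symm.cz k)⟩,
    fun ⟨k1, k2⟩ => by
      ob h k1 u hu
      have a1 := fun z => mem_cz'.1 k2 (ev (xc z)) (by cs h [])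
      have a2 := fun z => mem_cz'.1 k2 (ev (xa z)) (by cs h [])
      have a3 := fun z => mem_cz'.1 k2 (ev (xb z)) (by cs h [])
      cs h [] at hu
      cs h [hu] at a1 a2 a3 ⊢
      have a : u.a = 0 := sk_of (σ := σ) fun z => by have := a1 z; grind
      have y : u.y = 0 := by have := a2 1; grind
      exact ⟨a, sk_of (σ := σ) fun z => by have := a3 z; grind, sk_of (σ := σ) fun z => by have := a2 z; grind, y⟩⟩)
    (e.An hg) (e.An hg)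
  have aW : A ≤ nz ((W σ).map ev) := fun g hg => nz_of_char (fun w => ⟨fun k => ⟨wl k, h.cRW.symm.cm k le_rfl le_rfl⟩,
    fun ⟨k1, k2⟩ => by
      ob h k1 u hu
      obtain ⟨ε, ε0, hε⟩ := ex_ep σ
      have a1 := k2 (ev (xa 1)) (by cs h [])
      have a2 := k2 (ev (xy ε hε)) (by cs h [])
      cs h [] at hu
      cs h [hu] at a1 a2 ⊢
      grind⟩) (e.An hg) (e.An hg) (aZ hg)
  have a2 : A ≤ nz ((Z2 σ).map ev) := fun g hg => nz_of_cz (fun w => ⟨fun k => ⟨(by sl h : (Z2 σ).map ev ≤ _) k,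
    cz_anti (by sl h) (h.c2A.symm.cz ((by sl h : (Z2 σ).map ev ≤ _) k))⟩, fun ⟨k1, k2⟩ => by
      ob h k1 u hu
      have a3 := fun z => mem_cz'.1 k2 (ev (xb z)) (by cs h [])
      cs h [] at hu
      cs h [hu] at a3 ⊢
      exact sk_of (σ := σ) fun z => by have := a3 z; grind⟩) (aW hg) (aW hg)
  exact e.nS fun x hx => e.ch [(W σ).map ev, (Z2 σ).map ev] ⟨⟨wl, aW⟩, ⟨h2, a2⟩, trivial⟩ hx (nS hx)
    ⟨h.cSR.cm hx le_rfl le_rfl, h.cS3.cm hx (by sl h) le_rfl, h.cS2.cm hx le_rfl zf⟩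

theorem e5 (dff : DFF Γ p) : E5 σ Γ p := fun S P A ev h e g hQ hR h3 => by
  have h2 : (Z2 σ).map ev ≤ P := le_trans (by sl h) h3
  have nS : S ≤ nz P := h.nS h3 e.le
  obtain ⟨v, h0, x0⟩ := SetLike.not_le_iff_exists.1 hR
  obtain ⟨c0, -, rfl⟩ := h.ex (e.le h0)
  obtain ⟨v, h1, a1⟩ := SetLike.not_le_iff_exists.1 hQ
  obtain ⟨c1, -, rfl⟩ := h.ex (e.le h1)
  cs h [] at x0 a1
  have sx := sn (σ := σ) x0
  have z2 : ∀ X : Subgroup Γ, (∀ u ∈ P, ∀ v ∈ P, u * v * u⁻¹ * v⁻¹ ∈ X) → (Z2 σ).map ev ≤ X := fun X k =>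
    h.up (h.Zle (c := c1) a1 fun z => k _ h1 _ (h2 (by cs h []))) fun u hu => by
      obtain ⟨β, hβ⟩ : ∃ β, u.c = β * σ c0.x := ⟨u.c / σ c0.x, by field_simp⟩
      exact ⟨_, k _ h0 (ev (xb β)) (h3 (by cs h [])), by cs h [] at hu; cs h [hu, hβ]; cg⟩
  have zf := z2 (fr P) fun u hu v hv => cm_fr e.pP hu hv
  have zp : ∀ u : Cd σ, ev u ∈ cz P → u ∈ Z2 σ ∧ ∀ c : Cd σ, ev c ∈ P → σ c.a * u.c = c.a * σ u.c := fun u hu => by
    have a := h.cZ2 (h.mS u) (cz_anti h2 hu)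
    have b := fun z => mem_cz'.1 hu (ev (xb z)) (h3 (by cs h []))
    have k := mem_cz'.1 hu _ h1
    cs h [] at a
    cs h [a] at b
    have x : u.x = 0 := by rw [← sz (σ := σ)]; have := b 1; grind
    have b' : u.b = 0 := sk_of (σ := σ) fun z => by have := b z; grind
    cs h [a, x, b'] at k
    have y : u.y = 0 := by grind
    refine ⟨⟨a, b', x, y⟩, fun c hc => ?_⟩
    have k := mem_cz'.1 hu _ hc
    cs h [a, x, b', y] at k
    grind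
  by_cases al : P ≤ (C1 σ c1.a).map ev
  · have f := dff S P A S ((Z3 σ).map ev) e g le_rfl nS e.nS (h.cSS.mono le_rfl le_rfl h3) (fun b hb => h3 (h.pwS hb))
      (h.cSS.mono le_rfl e.le le_rfl) h3 (idx_on e.pP h0 nS (by
        rintro _ ⟨u, hu, rfl⟩
        obtain ⟨ξ, hξ⟩ := ex_sk (h.skY hu.2) x0
        obtain ⟨α, hα⟩ : ∃ α, u.b = c0.a * ξ - α * c0.x := ⟨(c0.a * ξ - u.b) / c0.x, by field_simp; ring⟩
        refine ⟨ev (el α 0 0 ξ), h.mS _, zf ?_⟩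
        cs h [] at hu
        cs h [hu, hα, ← hξ]
        cg))
    have cl : (C1 σ c1.a).map ev ≤ P := fun t ht => by_contra fun n => by
      have := f.nt (cz (P ⊓ cz P)) (fun g hg => mem_nz_cz (e.z_n.2 hg))
        (ai_cz inf_le_left (le_cz_comm.1 inf_le_right)) t (h.le _ ht) (nS (h.le _ ht)) n
        (cz_anti (fun w hw => by
          obtain ⟨u, -, rfl⟩ := h.ex (e.le hw.1)
          obtain ⟨k1, k2⟩ := zp u hw.2
          exact h.mm.2 ⟨k1.1, k1.2.1, k1.2.2.1, k1.2.2.2, k2 _ h1⟩) ((h.cC1 a1).cz ht))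
      obtain ⟨α, hα⟩ := ex_ind (σ := σ) a1
      have m : ev (xc c1.a) ∈ (Z1 σ c1.a).map ev := by cs h []; ring
      have k := mem_cz'.1 (this (e.mA (h.mS (xa α)) (nS (h.mS _)))) (ev (xc c1.a))
        ⟨h2 (by cs h []), cz_anti al ((h.cC1 a1).symm.cz m)⟩
      cs h [] at k
      grind
    have cm : ∀ c c' : Cd σ, c ∈ C1 σ c1.a → c' ∈ C1 σ c1.a → ev c * ev c' * (ev c)⁻¹ * (ev c')⁻¹ ∈ fr P :=
      fun c c' k k' => cm_fr e.pP (cl (h.mm.2 k)) (cl (h.mm.2 k'))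
    have z3 : (A0 σ).map ev ≤ fr P := h.up zf fun u hu => let ⟨z, k⟩ := ex_sk (h.skY hu.2.2) (one_ne_zero (α := K))
      ⟨_, cm (xx 1) (xx z) (by cs h []) (by cs h []), by cs h [] at hu k; cs h [hu, ← k]; cg⟩
    have z4 : (Z3 σ).map ev ≤ fr P := h.up z3 fun u hu => by
      obtain ⟨ξ, hξ⟩ : ∃ ξ, u.b = c1.a * ξ := ⟨u.b / c1.a, by field_simp⟩
      exact ⟨_, cm (xa c1.a) (xx ξ) (by cs h []; ring) (by cs h []), by cs h [] at hu; cs h [hu, hξ]; cg⟩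
    exact e.nS fun x hx => e.ch [] trivial hx (nS hx) (h.cSS.cm hx e.le z4)
  obtain ⟨v, hc2, a2⟩ := SetLike.not_le_iff_exists.1 al
  obtain ⟨c2, -, rfl⟩ := h.ex (e.le hc2)
  cs h [] at a2
  have z1 : (Z σ).map ev ≤ (Z2 σ).map ev := by sl h
  have aZ : A ≤ nz ((Z σ).map ev) := fun g hg => nz_of_cz (fun w => ⟨fun k => ⟨h2 (z1 k), cz_anti e.le (h.cS1.symm.cz k)⟩,
    fun ⟨k1, k2⟩ => by
      obtain ⟨u, -, rfl⟩ := h.ex (e.le k1)
      obtain ⟨k1, k2⟩ := zp u k2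
      exact h.mm.2 ⟨k1.1, k1.2.1, eq0 a2 (k2 _ h1) (k2 _ hc2), k1.2.2.1, k1.2.2.2⟩⟩) (e.An hg) (e.An hg)
  have k3 : ∀ w ∈ S, Cm w P ((Z2 σ).map ev) → w ∈ (Z3 σ).map ev := fun w hw k => by
    ob h hw u hu
    have k0 := k _ h0
    have k1 := k _ h1
    have k2 := k _ hc2
    cs h [] at k0 k1 k2 ⊢
    by_cases x : u.x = 0
    · exact ⟨by grind, x⟩
    obtain ⟨l1, s1, t1⟩ := ex_fx (σ := σ) (c := c1.x) x (by grind)
    obtain ⟨l2, s2, t2⟩ := ex_fx (σ := σ) (c := c2.x) x (by grind)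
    have b1 : c1.a = l1 * u.a := mul_right_cancel₀ x (by grind)
    have b2 : c2.a = l2 * u.a := mul_right_cancel₀ x (by grind)
    exact (a2 (by rw [b1, b2, map_mul, map_mul, s1, s2]; ring)).elim
  suffices a : A ≤ nz ((Z2 σ).map ev) by
    have a3 : A ≤ nz ((Z3 σ).map ev) := fun g hg => nz_of_char (fun w => ⟨fun k => ⟨h3 k, h.cS3.symm.cm k e.le le_rfl⟩,
      fun ⟨k1, k2⟩ => k3 w (e.le k1) k2⟩) (e.An hg) (e.An hg) (a hg)
    exact e.nS fun x hx => e.ch [(Z3 σ).map ev] ⟨⟨h3, a3⟩, trivial⟩ hx (nS hx) ⟨h.cSS.cm hx e.le le_rfl, h.cS3.cm hx le_rfl zf⟩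
  have y2 : (Z2 σ).map ev ≤ zm P ((Z σ).map ev) := fun w hw => mem_zm.2 ⟨h2 hw, h.cS2.symm.cm hw e.le le_rfl⟩
  have aY := (e.zm_n aZ).2
  have y3 : ∀ w ∈ zm P ((Z σ).map ev), ∃ u : Cd σ, ev u = w ∧ u.a = 0 ∧ u.x = 0 ∧
      ∀ c : Cd σ, ev c ∈ P → c.a * u.y = -(u.b * σ c.x) := fun w hw => by
    obtain ⟨k1, k2⟩ := mem_zm.1 hw
    obtain ⟨u, hu, rfl⟩ := k3 w (e.le k1) (k2.mono le_rfl z1)
    refine ⟨u, rfl, hu.1, hu.2, fun c hc => ?_⟩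
    have := k2 _ hc
    cs h [] at hu
    cs h [hu] at this
    grind
  by_cases y : zm P ((Z σ).map ev) ≤ (Z2 σ).map ev
  · exact le_antisymm y y2 ▸ aY
  obtain ⟨w, hw, y⟩ := SetLike.not_le_iff_exists.1 y
  obtain ⟨u, rfl, u1, u2, u3⟩ := y3 w hw
  cs h [u1, u2] at y
  have y0 : u.y ≠ 0 := fun k => y ⟨by have := u3 _ h0; grind, k⟩
  obtain ⟨μ, hμ⟩ : ∃ μ, u.b = -μ * u.y := ⟨-u.b / u.y, by field_simp⟩
  have m1 : ∀ c : Cd σ, ev c ∈ P → c.a = μ * σ c.x := fun c hc => mul_right_cancel₀ y0 (by rw [u3 c hc, hμ]; ring)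
  have μ0 : μ ≠ 0 := fun k => a1 (by rw [m1 _ h1, k, zero_mul])
  have y4 : ∀ w ∈ zm P ((Z σ).map ev), ∃ u : Cd σ, ev u = w ∧ u.a = 0 ∧ u.x = 0 ∧ u.b = -μ * u.y := fun w hw =>
    let ⟨u, k0, k1, k2, k3⟩ := y3 w hw
    ⟨u, k0, k1, k2, mul_right_cancel₀ sx (by have := k3 _ h0; rw [m1 _ h0] at this; linear_combination this)⟩
  refine fun g hg => mem_nz_of_conj_mem fun w hw => ?_
  obtain ⟨u', k0, k1, k2, k3⟩ := y4 _ (conj_mem_of_mem_nz (aY hg) (y2 hw))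
  suffices s : u'.y = 0 by rw [← k0]; cs h [k1, k2, k3, s]
  by_cases two : (2 : K) = 0
  · have : ev u' * ev u' = 1 := by
      rw [k0, ← cj_mul', show w * w = 1 by ob h hw c hc; cs h [] at hc; cs h [hc]; grind]; simp
    cs h [k1, k2] at this
    have b : u'.b * σ u'.b = 0 := by grind
    have b : u'.b = 0 := (mul_eq_zero.1 b).elim id sz.1
    grind
  let T : Subgroup (Cd σ) := sb (fun u => u.a = 0 ∧ u.x = 0 ∧ u.b = μ * u.y) (by simp)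
    (fun _ _ h h' => by simp [h, h', mul_add]) fun _ h => by simp [h]
  have t : ⁅P, P⁆ ≤ T.map ev := commutator_le_iff'.2 fun a ha b hb => by
    obtain ⟨a, -, rfl⟩ := h.ex (e.le ha)
    obtain ⟨b, -, rfl⟩ := h.ex (e.le hb)
    rw [h.inv, h.inv, h.mul, h.mul, h.mul, h.mm]
    show _ ∧ _ ∧ _
    cs h [m1 a ha, m1 b hb]
    cg
  have := t (conj_mem_of_mem_nz (mem_nz.2 (by rw [cj_commutator, mem_nz.1 (e.An hg)]))
    (z2 ⁅P, P⁆ (fun a ha b hb => commutator_mem_commutator ha hb) hw))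
  rw [← k0, h.mm] at this
  have := this.2.2
  grind

end H19.PU
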