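/-
S5258 chunk E4: essential subgroups of a Sylow p-subgroup of PSU5(q).
-/
import Cfsg.Agent.H19.PU1

set_option autoImplicit false
set_option linter.unusedSectionVars false
set_option linter.unusedVariables false

namespace H19.PU
open Subgroup H25 H25.FS H8.PU H8.PU.Cd
universe u v
variable {K : Type v} [Field K] [Finite K] {σ : K →+* K} [IV σ] {Γ : Type u} [Group Γ] [Finite Γ] {p : ℕ} [Fact p.Prime]
  [CharP K p] {S P A B D X Y : Subgroup Γ} {ev : Cd σ →* Γ} {v w : Γ}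

theorem e4 (dff : DFF Γ p) : E4 σ Γ p := fun S P A ev h e g hQ h2 hR => by_contra fun n => by
  obtain ⟨v, h0, x0⟩ := SetLike.not_le_iff_exists.1 hR
  obtain ⟨c0, -, rfl⟩ := h.ex (e.le h0)
  have zf := h.frZ e.pP h2 e.le hQ
  obtain ⟨v, h1, a1⟩ := SetLike.not_le_iff_exists.1 hQ
  obtain ⟨c1, -, rfl⟩ := h.ex (e.le h1)
  cs h [] at x0 a1
  have sx := sn (σ := σ) x0
  have z1 : (Z σ).map ev ≤ P := zf.trans (fr_le P)
  have n3 : (Z3 σ).map ev ≤ nz P := h.cS3.symm.nz' e.le h2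
  have q3 : (Z3 σ).map ev ≤ (Q2 σ).map ev := by sl h
  have f := dff S P A _ ((Z2 σ).map ev) e g (h.le _) n3 n (h.c33.mono le_rfl le_rfl z1) (fun b hb => z1 (h.pw3 hb))
    (h.cS3.symm.mono le_rfl e.le le_rfl) h2 (idx_on e.pP h0 n3 (by
      rintro _ ⟨u, hu, rfl⟩
      obtain ⟨β, hβ⟩ : ∃ β, u.c = β * σ c0.x := ⟨u.c / σ c0.x, by field_simp⟩
      exact ⟨ev (xb β), by cs h [], zf (by cs h [] at hu; cs h [hu, hβ]; cg)⟩))
  have zp : S ⊓ cz P ≤ (Z3 σ).map ev := fun w hw => by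
    have a := h.cZ2 hw.1 (cz_anti h2 hw.2)
    have k := mem_cz'.1 hw.2 _ h1
    ob h a u hu
    cs h [] at hu
    cs h [hu] at k ⊢
    grind
  have v3 : zo p P ≤ (Z3 σ).map ev := fun w hw => zp ⟨e.le hw.1, hw.2.1⟩
  have nt := f.nt (cz (zo p P)) (fun g hg => mem_nz_cz (e.zo_n.2 hg)) (ai_cz zo_le le_cz_zo)
  have ch : ∀ Y, (Y ≤ P ∧ A ≤ nz Y) → (Z2 σ).map ev ≤ Y → (∀ x ∈ (Z3 σ).map ev, Cm x Y (fr P)) → False := fun Y k1 k2 k3 =>
    n fun x hx => e.ch [Y] ⟨k1, trivial⟩ (h.le _ hx) (n3 hx) ⟨h.cS3.symm.cm hx e.le k2, k3 x hx⟩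
  obtain ⟨t, ht, tP⟩ := SetLike.not_le_iff_exists.1 n
  by_cases al : zo p P ≤ (A0 σ).map ev
  · have aZ : A ≤ nz ((Z σ).map ev) := (nt t (h.le _ ht) (n3 ht) tP (cz_anti al (h.c2A.cz (q3 ht)))).trans
      ((cz_anti fun w hw => mem_zo.2 ⟨z1 hw, cz_anti e.le (h.cS1.symm.cz hw), h.pwA ((by sl h : (Z σ).map ev ≤ _) hw)⟩).trans
        (cz_le_nz _))
    by_cases y : zm P ((Z σ).map ev) ≤ (Z3 σ).map ev
    · exact ch _ (e.zm_n aZ) (fun w hw => mem_zm.2 ⟨h2 hw, h.cS2.symm.cm hw e.le le_rfl⟩) fun x hx => h.c33.cm hx y zf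
    obtain ⟨w, hw, y⟩ := SetLike.not_le_iff_exists.1 y
    obtain ⟨k1, k2⟩ := mem_zm.1 hw
    obtain ⟨c, -, rfl⟩ := h.ex (e.le k1)
    cs h [] at y
    have x : c.x ≠ 0 := fun x => by
      have := k2 _ h0
      cs h [x] at this
      grind
    have sc := sn (σ := σ) x
    have i1 := f.le (h.le _ ht) (n3 ht) tP (h.c33.cm ht le_rfl zf)
    have i2 : ((Z3 σ).map ev).relIndex P ≤ Nat.card (Fx σ) :=
      idx_le' (fun l : Fx σ => ev (el (l * c.a) 0 0 (l * c.x))) fun u hu => by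
        obtain ⟨u, -, rfl⟩ := h.ex (e.le hu)
        have k := k2 _ hu
        cs h [] at k
        obtain ⟨l, l1, l2⟩ := ex_fx (σ := σ) (c := u.x) x (by grind)
        have l3 : u.a = l * c.a := mul_right_cancel₀ x (by grind)
        exact ⟨⟨l, l1⟩, by cs h [l2, l3]⟩
    refine (fx_lt σ).not_ge (le_trans (le_idx (fun i => ev (xb i)) (fun i => by cs h []) fun i j k => ?_) (i1.trans i2))
    have := k2 _ k
    cs h [] at this
    grind
  obtain ⟨w, hw, bl⟩ := SetLike.not_le_iff_exists.1 al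
  obtain ⟨z, hz, rfl⟩ := v3 hw
  cs h [] at hz
  cs h [hz] at bl
  have two : (2 : K) ≠ 0 := fun two => by
    obtain rfl : p = 2 := (Nat.prime_dvd_prime_iff_eq Fact.out Nat.prime_two).1 ((CharP.cast_eq_zero_iff K p 2).1 two)
    have := hw.2.2
    rw [sq] at this
    cs h [hz] at this
    have b : z.b * σ z.b = 0 := by grind
    exact bl ((mul_eq_zero.1 b).elim id sz.1)
  have a0 : (A0 σ).map ev ≤ P := fun t ht => by_contra fun n => bl (sk_of (σ := σ) fun β => by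
    have l : (A0 σ).map ev ≤ (Z3 σ).map ev := by sl h
    have m : ev (xb β) ∈ (Z3 σ).map ev := by cs h []
    have k := mem_cz'.1 (nt t (h.le _ ht) (n3 (l ht)) n (cz_anti (v3.trans q3) (h.c2A.symm.cz ht))
      (e.mA (h.mS _) (n3 m))) _ hw
    cs h [hz] at k
    grind)
  have cm : ∀ c : Cd σ, ev c ∈ P → ∀ s hs, ev (xy s hs) * ev c * (ev (xy s hs))⁻¹ * (ev c)⁻¹ ∈ fr P := fun c hc s hs =>
    cm_fr e.pP (a0 (by cs h [])) hc
  by_cases c : P ≤ (C1 σ c1.a).map ev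
  · have n1 : P ⊓ cz P ≤ nz (fr P) := inf_le_left.trans ((le_nz_self P).trans (nz_le_nz_fr P))
    refine ch ((P ⊓ cz P) ⊔ fr P) ⟨sup_le inf_le_left (fr_le P), fun g hg => mem_nz_sup (e.z_n.2 hg) (nz_le_nz_fr P (e.An hg))⟩
      (h.up (zf.trans le_sup_right) fun u hu => ?_) fun x hx w hw => ?_
    · obtain ⟨k, hk⟩ : ∃ k, u.c = c1.a * (2 * k) := ⟨u.c / c1.a / 2, by field_simp⟩
      have m : ev (xc (c1.a * (k + σ k))) ∈ (Z1 σ c1.a).map ev := by cs h []; ring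
      refine ⟨_, mul_mem_sup (⟨h2 (by cs h []), cz_anti c ((h.cC1 a1).symm.cz m)⟩ : _ ∈ P ⊓ cz P)
        (cm c1 h1 (σ k - k) (by rw [map_sub, ss, neg_sub])), ?_⟩
      cs h [] at hu
      cs h [hu, hk]
      cg
    · obtain ⟨a, ha, b, hb, rfl⟩ := (mem_sup_of_le_nz_right n1).1 hw
      have := mul_mem (zf (h.c33 x hx a (zp ⟨e.le ha.1, ha.2⟩)))
        (conj_mem_of_mem_nz (n1 ha) (cm_nz (nz_le_nz_fr P (n3 hx)) b hb))
      simpa [mul_assoc] using this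
  obtain ⟨v, hc2, a2⟩ := SetLike.not_le_iff_exists.1 c
  obtain ⟨c2, -, rfl⟩ := h.ex (e.le hc2)
  cs h [] at a2
  refine ch (fr P) ⟨fr_le P, fun g hg => nz_le_nz_fr P (e.An hg)⟩ (h.up zf fun u hu => ?_)
    fun x hx => cm_nz (nz_le_nz_fr P (n3 hx))
  obtain ⟨δ, hδ⟩ : ∃ δ, δ * (σ c1.a * c2.a - c1.a * σ c2.a) = 1 := ⟨_, inv_mul_cancel₀ (sub_ne_zero.2 a2)⟩
  have sδ : σ δ = -δ := by
    have := congrArg σ hδ
    rw [map_mul, map_sub, map_mul, map_mul, ss, ss, map_one] at this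
    exact mul_right_cancel₀ (sub_ne_zero.2 a2) (by linear_combination hδ - this)
  refine ⟨_, mul_mem (cm c1 h1 (δ * (σ c2.a * u.c + c2.a * σ u.c)) (by simp only [map_mul, map_add, ss, sδ]; ring))
    (cm c2 hc2 (-δ * (σ c1.a * u.c + c1.a * σ u.c)) (by simp only [map_mul, map_neg, map_add, ss, sδ]; ring)), ?_⟩
  cs h [] at hu
  cs h [hu, sδ]
  cg

end H19.PU
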